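import Cfsg.Agent.Lib.J4Type.Classes.Split
import Cfsg.Agent.Lib.J4Type.CoreP.Basic
import Cfsg.Agent.Lib.J4Type.Order.TSetup

/-!
The number of classes from the counts of the parts.
-/

set_option autoImplicit false

namespace CfsgLib.J4Type.Classes

open Cfsg Subgroup
open CfsgLib.J4Type.Order.TSetup (t0)

variable {G : Type*} [Group G] [Finite G] [IsSimpleGroup G] {z : G} {P : Subgroup G}
  {F : Frame z P} {D : VData F}

theorem count (S : Order.TSetup D)
    (hodd : classesIn (⊤ : Subgroup G) OddOrd = 25)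
    (hoz : classesIn (Cen z) OddOrd = 12)
    (hot : classesIn (centralizer ({t0 D} : Set G)) OddOrd = 6)
    (hrz : classesIn (Cen z) (RadPart (Rad z) z) = 5)
    (hroot : classesIn (Cen z) (RootPart (Rad z) z) +
      classesIn (centralizer ({t0 D} : Set G)) (RootPart D.V (t0 D)) = 14) :
    Nat.card (ConjClasses G) = 62 := by
  obtain ⟨B⟩ := CoreP.exists_base F
  have hz : orderOf z = 2 := B.z_ord
  have ht : orderOf (t0 D) = 2 :=
    orderOf_eq_prime (p := 2) (D.elem.2 _ S.t0_pairV.1) S.t0_pairV.2.1
  have hzn : Cen z ≤ normalizer (Rad z : Set G) := fun h hh => by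
    rw [mem_normalizer_iff]
    refine fun x => ⟨fun hx => B.rad_conj h hh x hx, fun hx => ?_⟩
    have := B.rad_conj h⁻¹ (inv_mem hh) _ hx
    simpa [mul_assoc] using this
  rw [card_split hz ht S.t0_pairV.2.2 fun u hu => ?_, classesIn_three (Rad z) hz B.z_rad hzn,
    classesIn_three D.V ht S.t0_pairV.1 S.cent_le,
    radPart_eq_zero D.V ht fun x hx => by simpa [pow_two] using D.elem.2 x hx,
    hodd, hrz]
  · change 25 + (classesIn (Cen z) OddOrd + classesIn (Cen z) (RootPart (Rad z) z) + 5) +
      (classesIn (centralizer ({t0 D} : Set G)) OddOrd +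
        classesIn (centralizer ({t0 D} : Set G)) (RootPart D.V (t0 D)) + 0) = 62
    omega
  · by_cases h : IsConj z u
    · exact .inl h
    · exact .inr ((S.dichotomy hu).2 h)

end CfsgLib.J4Type.Classes
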