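import Cfsg.Agent.Lib.J4Type.Classes.Defs
import Mathlib.GroupTheory.Sylow

/-!
Counting the classes that meet a set of elements.
-/

set_option autoImplicit false
set_option linter.unusedSectionVars false

namespace CfsgLib.J4Type.Classes

open Subgroup

variable {G : Type*} [Group G]

/-- The number of classes meeting the set given by a property. -/
noncomputable def ncls (S : G → Prop) : ℕ := (ConjClasses.mk '' {g : G | S g}).ncard

theorem classesIn_top (S : G → Prop) : classesIn (⊤ : Subgroup G) S = ncls S := by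
  set f : ConjClasses ↥(⊤ : Subgroup G) → ConjClasses G :=
    ConjClasses.map (topEquiv : ↥(⊤ : Subgroup G) ≃* G).toMonoidHom with hf
  have hinj : Function.Injective f := by
    intro a b
    refine Quotient.inductionOn₂ a b fun x y h => ?_
    refine ConjClasses.mk_eq_mk_iff_isConj.2 ?_
    obtain ⟨c, hc⟩ := isConj_iff.1 (ConjClasses.mk_eq_mk_iff_isConj.1 h)
    exact isConj_iff.2 ⟨⟨c, mem_top c⟩, Subtype.ext hc⟩
  have himg : f '' {c | ∃ h : ↥(⊤ : Subgroup G), ConjClasses.mk h = c ∧ S h} =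
      ConjClasses.mk '' {g : G | S g} := by
    ext c
    constructor
    · rintro ⟨_, ⟨h, rfl, hS⟩, rfl⟩
      exact ⟨(h : G), hS, rfl⟩
    · rintro ⟨g, hg, rfl⟩
      exact ⟨_, ⟨⟨g, mem_top g⟩, rfl, hg⟩, rfl⟩
  rw [ncls, ← himg, Set.ncard_image_of_injective _ hinj, ← Nat.card_coe_set_eq]
  rfl

theorem ncls_congr {S T : G → Prop} (h : ∀ g, S g ↔ T g) : ncls S = ncls T := by
  rw [ncls, ncls, Set.ext h]

/-- Splitting by a class invariant property. -/
theorem ncls_split [Finite G] (S T : G → Prop) (hT : ∀ a b : G, IsConj a b → T a → T b) :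
    ncls S = ncls (fun g => S g ∧ T g) + ncls (fun g => S g ∧ ¬ T g) := by
  rw [ncls, ncls, ncls, ← Set.ncard_union_eq ?_ (Set.toFinite _) (Set.toFinite _),
    ← Set.image_union]
  · congr 2
    ext g
    show S g ↔ (S g ∧ T g) ∨ (S g ∧ ¬ T g)
    tauto
  · rw [Set.disjoint_left]
    rintro c ⟨a, ⟨-, ha⟩, rfl⟩ ⟨b, ⟨-, hb⟩, e⟩
    exact hb (hT a b (ConjClasses.mk_eq_mk_iff_isConj.1 e.symm) ha)

theorem orderOf_of_isConj {a b : G} (h : IsConj a b) : orderOf a = orderOf b := by
  obtain ⟨c, rfl⟩ := isConj_iff.1 h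
  exact (MulEquiv.orderOf_eq (MulAut.conj c) a).symm

theorem ncls_eq_one {S : G → Prop} {a : G} (ha : S a) (h : ∀ g, S g → IsConj g a) :
    ncls S = 1 := by
  rw [ncls, Set.ncard_eq_one]
  refine ⟨ConjClasses.mk a, Set.eq_singleton_iff_unique_mem.2 ⟨⟨a, ha, rfl⟩, ?_⟩⟩
  rintro _ ⟨g, hg, rfl⟩
  exact ConjClasses.mk_eq_mk_iff_isConj.2 (h g hg)

theorem ncls_eq_zero {S : G → Prop} (h : ∀ g, ¬ S g) : ncls S = 0 := by
  rw [ncls, show {g : G | S g} = ∅ from Set.eq_empty_iff_forall_notMem.2 h, Set.image_empty,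
    Set.ncard_empty]

/-- Every element of `p`-power order is conjugate into a given Sylow subgroup. -/
theorem exists_conj_mem_sylow [Finite G] {p : ℕ} [Fact p.Prime] (U : Sylow p G) {x : G}
    (hx : IsPGroup p (zpowers x)) : ∃ c : G, c * x * c⁻¹ ∈ (U : Subgroup G) := by
  obtain ⟨W, hW⟩ := hx.exists_le_sylow
  obtain ⟨c, hc⟩ := MulAction.exists_smul_eq G W U
  refine ⟨c, ?_⟩
  rw [← hc, Sylow.smul_def]
  exact ⟨x, hW (mem_zpowers x), rfl⟩

theorem isPGroup_zpowers [Finite G] {p k : ℕ} {x : G} (hx : orderOf x = p ^ k) :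
    IsPGroup p (zpowers x) :=
  IsPGroup.of_card (n := k) (by rw [Nat.card_zpowers, hx])

/-- A generated subgroup of prime order. -/
theorem eq_zpowers_of_card {p : ℕ} (hp : p.Prime) {U : Subgroup G} [Finite U]
    (hU : Nat.card U = p) {x : G} (hx : x ∈ U) (hxo : orderOf x = p) : U = zpowers x := by
  symm
  refine eq_of_le_of_card_ge (zpowers_le.2 hx) ?_
  rw [Nat.card_zpowers, hxo, hU]

theorem centralizer_zpowers_eq (x : G) :
    centralizer ((zpowers x : Subgroup G) : Set G) = centralizer ({x} : Set G) := by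
  rw [Subgroup.zpowers_eq_closure, Subgroup.centralizer_closure]

/-- The classes of elements of order `p` from the automiser of a Sylow subgroup of order `p`. -/
theorem ncls_orderOf_prime [Finite G] {p e : ℕ} [Fact p.Prime] (U : Sylow p G)
    (hU : Nat.card (U : Subgroup G) = p)
    (hN : Nat.card ↥(normalizer ((U : Subgroup G) : Set G)) =
      Nat.card ↥(centralizer ((U : Subgroup G) : Set G)) * e) :
    ncls (fun g : G => orderOf g = p) * e = p - 1 := by
  classical
  have hp : p.Prime := Fact.out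
  set N := normalizer ((U : Subgroup G) : Set G) with hNdef
  set C := centralizer ((U : Subgroup G) : Set G) with hCdef
  set A := {x : G | x ∈ (U : Subgroup G) ∧ x ≠ 1} with hA
  have hAo : ∀ x ∈ A, orderOf x = p := fun x hx => by
    refine orderOf_eq_prime ?_ hx.2
    rw [← hU]
    exact congrArg Subtype.val (pow_card_eq_one' (x := (⟨x, hx.1⟩ : (U : Subgroup G))))
  have himg : ConjClasses.mk '' {g : G | orderOf g = p} = ConjClasses.mk '' A := by
    ext c
    constructor
    · rintro ⟨g, hg, rfl⟩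
      obtain ⟨d, hd⟩ := exists_conj_mem_sylow U (isPGroup_zpowers (k := 1) (by
        rw [pow_one]; exact hg))
      refine ⟨d * g * d⁻¹, ⟨hd, fun h => ?_⟩, ConjClasses.mk_eq_mk_iff_isConj.2
        (isConj_iff.2 ⟨d⁻¹, by group⟩)⟩
      rw [conj_eq_one_iff] at h
      rw [h, Set.mem_ofPred_eq, orderOf_one] at hg
      exact hp.ne_one hg.symm
    · rintro ⟨g, hg, rfl⟩
      exact ⟨g, hAo g hg, rfl⟩
  -- the fibres
  have hfib : ∀ x ∈ A, Nat.card {y : A // ConjClasses.mk (y : G) = ConjClasses.mk x} = e := by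
    intro x hx
    have hUx : (U : Subgroup G) = zpowers x := eq_zpowers_of_card hp hU hx.1 (hAo x hx)
    have hmem : ∀ n ∈ N, n * x * n⁻¹ ∈ A := fun n hn =>
      ⟨(mem_normalizer_iff.1 hn x).1 hx.1, fun h => hx.2 (conj_eq_one_iff.1 h)⟩
    let f : ↥N ⧸ C.subgroupOf N → {y : A // ConjClasses.mk (y : G) = ConjClasses.mk x} :=
      Quotient.lift (fun n => ⟨⟨(n : G) * x * (n : G)⁻¹, hmem n n.2⟩,
        ConjClasses.mk_eq_mk_iff_isConj.2 (isConj_iff.2 ⟨(n : G)⁻¹, by group⟩)⟩) (by
        intro a b h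
        replace h : QuotientGroup.leftRel (C.subgroupOf N) a b := h
        rw [QuotientGroup.leftRel_apply, mem_subgroupOf, hCdef] at h
        have h1 := (mem_centralizer_iff.1 h) x hx.1
        refine Subtype.ext (Subtype.ext ?_)
        simp only [Subgroup.coe_mul, Subgroup.coe_inv] at h1
        show (a : G) * x * (a : G)⁻¹ = b * x * (b : G)⁻¹
        calc (a : G) * x * (a : G)⁻¹ = a * (x * ((a : G)⁻¹ * b)) * (b : G)⁻¹ := by group
          _ = a * ((a : G)⁻¹ * b * x) * (b : G)⁻¹ := by rw [h1]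
          _ = b * x * (b : G)⁻¹ := by group)
    have hbij : Function.Bijective f := by
      constructor
      · intro a b
        refine Quotient.inductionOn₂ a b fun m n h => Quotient.sound ?_
        have h1 : (m : G) * x * (m : G)⁻¹ = n * x * (n : G)⁻¹ :=
          congrArg (fun t => ((t.1 : A) : G)) h
        show QuotientGroup.leftRel (C.subgroupOf N) m n
        rw [QuotientGroup.leftRel_apply, mem_subgroupOf, hCdef, hUx, centralizer_zpowers_eq,
          mem_centralizer_singleton_iff, Subgroup.coe_mul, Subgroup.coe_inv]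
        calc (m : G)⁻¹ * n * x = (m : G)⁻¹ * (n * x * (n : G)⁻¹) * n := by group
          _ = (m : G)⁻¹ * (m * x * (m : G)⁻¹) * n := by rw [h1]
          _ = x * ((m : G)⁻¹ * n) := by group
      · rintro ⟨⟨y, hy⟩, hxy⟩
        obtain ⟨d, hd⟩ := isConj_iff.1 (ConjClasses.mk_eq_mk_iff_isConj.1 hxy.symm)
        have hdN : d ∈ N := by
          refine mem_normalizer_iff_map_conj_eq.2 ?_
          rw [hUx, MonoidHom.map_zpowers]
          show zpowers (d * x * d⁻¹) = zpowers x
          have hd' : d * x * d⁻¹ = y := hd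
          rw [hd', ← hUx, eq_zpowers_of_card hp hU hy.1 (hAo y hy)]
        exact ⟨Quotient.mk _ ⟨d, hdN⟩, Subtype.ext (Subtype.ext hd)⟩
    rw [← Nat.card_eq_of_bijective f hbij]
    have h := Subgroup.card_mul_index (C.subgroupOf N)
    rw [Nat.card_congr (subgroupOfEquivOfLe (centralizer_le_normalizer _)).toEquiv, hN] at h
    exact Nat.eq_of_mul_eq_mul_left Nat.card_pos h
  -- counting
  haveI : Fintype G := Fintype.ofFinite G
  let mk' : A → (ConjClasses.mk '' A : Set (ConjClasses G)) := fun a => ⟨_, a, a.2, rfl⟩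
  have hcA : Nat.card A = p - 1 := by
    rw [Nat.card_coe_set_eq, show A = ((U : Subgroup G) : Set G) \ {1} from rfl,
      Set.ncard_sdiff_singleton_of_mem (U : Subgroup G).one_mem, ← Nat.card_coe_set_eq]
    show Nat.card (U : Subgroup G) - 1 = p - 1
    rw [hU]
  rw [← hcA, Nat.card_congr (Equiv.sigmaFiberEquiv mk').symm, Nat.card_sigma, ncls, himg,
    ← Nat.card_coe_set_eq, Nat.card_eq_fintype_card,
    Finset.sum_congr rfl (g := fun _ => e) fun c _ => ?_, Finset.sum_const, Finset.card_univ,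
    smul_eq_mul]
  obtain ⟨_, x, hx, rfl⟩ := c
  rw [← hfib x hx]
  exact Nat.card_congr (Equiv.subtypeEquivRight fun y => Subtype.ext_iff)

end CfsgLib.J4Type.Classes
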