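import Cfsg.Agent.Lib.J4Type.Frame
import Mathlib.GroupTheory.GroupAction.Quotient

/-!
The parts into which the classes of a group of Janko-four type are sorted.
-/

set_option autoImplicit false

namespace CfsgLib.J4Type.Classes

open Cfsg Subgroup

variable {G : Type*} [Group G]

/-- The number of classes of a subgroup that contain an element with the property. -/
noncomputable def classesIn (H : Subgroup G) (S : G → Prop) : ℕ :=
  Nat.card {c : ConjClasses ↥H // ∃ h : ↥H, ConjClasses.mk h = c ∧ S h}

/-- An element of odd order. -/
def OddOrd (g : G) : Prop := Odd (orderOf g)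

/-- An element with involution power `u` whose image modulo the radical `R` has even order. -/
def RootPart (R : Subgroup G) (u g : G) : Prop :=
  u ∈ zpowers g ∧ ¬ ∃ n, Odd n ∧ g ^ n ∈ R

/-- An element with involution power `u`, other than a product of `u` and an element of odd
order, whose image modulo the radical `R` has odd order. -/
def RadPart (R : Subgroup G) (u g : G) : Prop :=
  u ∈ zpowers g ∧ ¬ Odd (orderOf (g * u)) ∧ ∃ n, Odd n ∧ g ^ n ∈ R

end CfsgLib.J4Type.Classes
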