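import Cfsg.Agent.Lib.J4Type.Eleven.Local.Aut
import Cfsg.Agent.Lib.J4Type.Seven.Setup
import Cfsg.Agent.Lib.J4Type.Classes.Defs
import Cfsg.Agent.Lib.Coprime.Complements

/-!
The classes of odd order of the automorphism group of `M22`: one of each of the orders one, three,
five and eleven, two of order seven.  Also the tools to count classes by representatives.
-/

set_option autoImplicit false
set_option linter.unusedSectionVars false
set_option linter.style.haveILetI false

namespace CfsgLib.J4Type.Classes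

open Cfsg Subgroup CoreP
open CfsgLib.StructB.OrderCount

section Generic

variable {G : Type*} [Group G]

/-- Counting classes by representatives. -/
theorem classesIn_eq {H : Subgroup G} {S : G → Prop} {n : ℕ} (r : Fin n → ↥H) (hS : ∀ i, S (r i))
    (hcov : ∀ h : ↥H, S h → ∃ i, IsConj h (r i)) (hinj : ∀ i j, IsConj (r i) (r j) → i = j) :
    classesIn H S = n := by
  refine (Nat.card_eq_of_bijective (α := Fin n)
    (fun i => (⟨ConjClasses.mk (r i), r i, rfl, hS i⟩ :
      {c : ConjClasses ↥H // ∃ h : ↥H, ConjClasses.mk h = c ∧ S h})) ⟨fun i j e => ?_, ?_⟩).symm.trans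
    (Nat.card_fin n)
  · exact hinj i j (ConjClasses.mk_eq_mk_iff_isConj.1 (congrArg Subtype.val e))
  · rintro ⟨c, h, rfl, hh⟩
    obtain ⟨i, hi⟩ := hcov h hh
    exact ⟨i, Subtype.ext (ConjClasses.mk_eq_mk_iff_isConj.2 hi.symm)⟩

/-- Two elements of odd order in one coset of a normalised 2-subgroup are conjugate under it. -/
theorem conj_of_coset [Finite G] {R : Subgroup G} (hR : IsPGroup 2 ↥R) {x y : G}
    (hx : Odd (orderOf x)) (hy : Odd (orderOf y)) (hyn : y ∈ normalizer (R : Set G))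
    (hmem : y⁻¹ * x ∈ R) : ∃ q ∈ R, q * x * q⁻¹ = y := by
  obtain ⟨k, hk⟩ := IsPGroup.iff_card.1 hR
  have hcop : ∀ {g : G}, Odd (orderOf g) → (Nat.card ↥(zpowers g)).Coprime (Nat.card ↥R) := fun hg => by
    rw [Nat.card_zpowers, hk]
    exact Nat.Coprime.pow_right _ hg.coprime_two_right
  have hxn : x ∈ normalizer (R : Set G) := by
    have := mul_mem hyn (Subgroup.le_normalizer hmem)
    rwa [mul_inv_cancel_left] at this
  have hsup : R ⊔ zpowers y = R ⊔ zpowers x := by
    refine le_antisymm (sup_le le_sup_left ?_) (sup_le le_sup_left ?_) <;> rw [zpowers_le]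
    · have := mul_mem (mem_sup_right (S := R) (mem_zpowers x))
        (mem_sup_left (T := zpowers x) (inv_mem hmem))
      rwa [show x * (y⁻¹ * x)⁻¹ = y by group] at this
    · have := mul_mem (mem_sup_right (S := R) (mem_zpowers y)) (mem_sup_left (T := zpowers y) hmem)
      rwa [mul_inv_cancel_left] at this
  obtain ⟨n, hn, he⟩ := Coprime.exists_conj_eq_of_coprime (zpowers_le.2 hyn) (zpowers_le.2 hxn) hsup
    (hcop hy) (hcop hx) (Or.inr (by
      haveI := Fact.mk Nat.prime_two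
      haveI := hR.isNilpotent
      infer_instance))
  obtain ⟨w, hw, hwx⟩ := (he ▸ mem_zpowers x : x ∈ (zpowers y).map (MulAut.conj n).toMonoidHom)
  simp only [MulEquiv.coe_toMonoidHom, MulAut.conj_apply] at hwx
  have h1 : y⁻¹ * w ∈ zpowers y := mul_mem (inv_mem (mem_zpowers y)) hw
  have h2 : y⁻¹ * w ∈ R := by
    have hn' : w⁻¹ * n⁻¹ * w ∈ R :=
      (mem_normalizer_iff''.1 (zpowers_le.2 hyn hw) n⁻¹).1 (inv_mem hn)
    rw [show y⁻¹ * w = (y⁻¹ * x) * (n * (w⁻¹ * n⁻¹ * w)) by rw [← hwx]; group]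
    exact mul_mem hmem (mul_mem hn hn')
  have h3 : y⁻¹ * w = 1 := orderOf_eq_one_iff.1 (Nat.eq_one_of_dvd_coprimes (hcop hy)
    (Subgroup.orderOf_dvd_natCard _ h1) (Subgroup.orderOf_dvd_natCard _ h2))
  obtain rfl := inv_mul_eq_one.1 h3
  exact ⟨n⁻¹, inv_mem hn, by rw [← hwx]; group⟩

theorem odd_map {A B : Type*} [Group A] [Group B] (f : A →* B) {a : A} (h : Odd (orderOf a)) :
    Odd (orderOf (f a)) := h.of_dvd_nat (orderOf_map_dvd f a)

theorem orderOf_conj' {A : Type*} [Group A] (c x : A) : orderOf (c * x * c⁻¹) = orderOf x :=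
  orderOf_injective (MulAut.conj c).toMonoidHom (MulAut.conj c).injective x

theorem orderOf_eq_of_isConj {A : Type*} [Group A] {a b : A} (h : IsConj a b) :
    orderOf a = orderOf b := by
  obtain ⟨c, rfl⟩ := isConj_iff.1 h
  exact (orderOf_conj' c a).symm

theorem card_conj_mul {A : Type*} [Group A] [Finite A] (x : A) :
    Set.ncard {y | IsConj x y} * Nat.card (centralizer ({x} : Set A)) = Nat.card A := by
  let f : A ⧸ centralizer ({x} : Set A) → {y | IsConj x y} :=
    Quotient.lift (fun g => ⟨g * x * g⁻¹, isConj_iff.2 ⟨g, rfl⟩⟩) (by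
      intro a b h
      have h' := QuotientGroup.leftRel_apply.1 h
      rw [mem_centralizer_singleton_iff] at h'
      refine Subtype.ext ?_
      calc a * x * a⁻¹ = a * (x * (a⁻¹ * b)) * b⁻¹ := by group
        _ = a * (a⁻¹ * b * x) * b⁻¹ := by rw [h']
        _ = b * x * b⁻¹ := by group)
  have hf : Function.Bijective f := by
    refine ⟨fun p q => ?_, fun ⟨y, hy⟩ => ?_⟩
    · induction p using QuotientGroup.induction_on with
      | H a => induction q using QuotientGroup.induction_on with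
        | H b =>
          intro e
          have e' : a * x * a⁻¹ = b * x * b⁻¹ := congrArg Subtype.val e
          refine QuotientGroup.eq.2 (mem_centralizer_singleton_iff.2 ?_)
          calc a⁻¹ * b * x = a⁻¹ * (b * x * b⁻¹) * b := by group
            _ = x * (a⁻¹ * b) := by rw [← e']; group
    · obtain ⟨c, rfl⟩ := isConj_iff.1 hy
      exact ⟨QuotientGroup.mk c, rfl⟩
  rw [← Nat.card_coe_set_eq, ← Nat.card_eq_of_bijective f hf, ← Subgroup.index_eq_card]
  exact Subgroup.index_mul_card _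

end Generic

/-- The automorphism group of `M22`. -/
abbrev AutM : Type _ := MulAut CoreP.M

theorem odd_orders {φ : AutM} (h : Odd (orderOf φ)) :
    orderOf φ = 1 ∨ orderOf φ = 3 ∨ orderOf φ = 5 ∨ orderOf φ = 7 ∨ orderOf φ = 11 := by
  obtain ⟨a, rfl⟩ := mem_inn_of_odd h
  rw [orderOf_injective _ CoreP.conj_injective] at h ⊢
  have hc : cnt M (orderOf a) ≠ 0 := Nat.card_ne_zero.2 ⟨⟨⟨a, rfl⟩⟩, inferInstance⟩
  have hm := (ClassK.M22Nse.table hypM22).2.2.2 _ hc
  have key : ∀ n ∈ ([1, 2, 3, 4, 5, 6, 7, 8, 11] : List ℕ), n % 2 = 1 →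
      n = 1 ∨ n = 3 ∨ n = 5 ∨ n = 7 ∨ n = 11 := by decide
  exact key _ hm (Nat.odd_iff.1 h)

theorem ncard_order {p : ℕ} (hp : Odd p) : Set.ncard {χ : AutM | orderOf χ = p} = cnt M p := by
  rw [← Nat.card_coe_set_eq]
  refine (Nat.card_eq_of_bijective (fun a : {a : M // orderOf a = p} =>
    (⟨MulAut.conj a.1, (orderOf_injective _ CoreP.conj_injective a.1).trans a.2⟩ :
      {χ : AutM | orderOf χ = p})) ⟨fun a b e => ?_, fun ⟨χ, hχ⟩ => ?_⟩).symm
  · exact Subtype.ext (CoreP.conj_injective (congrArg Subtype.val e))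
  · obtain ⟨a, rfl⟩ := mem_inn_of_odd (φ := χ) (hχ.symm ▸ hp)
    exact ⟨⟨a, (orderOf_injective _ CoreP.conj_injective a).symm.trans hχ⟩, rfl⟩

theorem cent_M {p : ℕ} (hp : p = 5 ∨ p = 7 ∨ p = 11) {a : M} (ha : orderOf a = p) :
    Nat.card (centralizer ({a} : Set M)) = p := by
  rcases hp with rfl | rfl | rfl
  · exact ClassK.M22Nse.cent_five hypM22 ha
  · exact ClassK.M22Nse.cent_seven hypM22 ha
  · exact ClassK.M22Nse.cent_eleven hypM22 ha

theorem card_inn_cent {p : ℕ} (hp : p = 5 ∨ p = 7 ∨ p = 11) {φ : AutM} (hφ : orderOf φ = p) :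
    Nat.card ↥(centralizer ({φ} : Set AutM) ⊓ InnM) = p := by
  have hodd : Odd p := by rcases hp with rfl | rfl | rfl <;> decide
  obtain ⟨a, rfl⟩ := mem_inn_of_odd (φ := φ) (hφ.symm ▸ hodd)
  rw [orderOf_injective _ CoreP.conj_injective] at hφ
  rw [← cent_M hp hφ, ← Subgroup.card_map_of_injective (K := centralizer ({a} : Set M)) CoreP.conj_injective]
  congr 2
  ext χ
  constructor
  · rintro ⟨hc, b, rfl⟩
    refine ⟨b, mem_centralizer_singleton_iff.2 (CoreP.conj_injective ?_), rfl⟩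
    rw [map_mul, map_mul]
    exact mem_centralizer_singleton_iff.1 hc
  · rintro ⟨b, hb, rfl⟩
    refine ⟨mem_centralizer_singleton_iff.2 ?_, ⟨b, rfl⟩⟩
    rw [← map_mul, ← map_mul, mem_centralizer_singleton_iff.1 hb]

theorem card_cent_le {p : ℕ} (hp : p = 5 ∨ p = 7 ∨ p = 11) {φ : AutM} (hφ : orderOf φ = p) :
    Nat.card (centralizer ({φ} : Set AutM)) ≤ 2 * p := by
  set C := centralizer ({φ} : Set AutM)
  have h2 := Subgroup.card_mul_index (InnM.subgroupOf C)
  have h3 : (InnM.subgroupOf C).index ≤ 2 := by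
    have := Subgroup.relIndex_le_of_le_right (H := InnM) (le_top : C ≤ ⊤)
      (by rw [relIndex_top_right, index_inn]; norm_num)
    rwa [relIndex_top_right, index_inn] at this
  have h4 : Nat.card (InnM.subgroupOf C) = p := by
    rw [← Subgroup.card_map_of_injective C.subtype_injective, Subgroup.subgroupOf_map_subtype,
      inf_comm, card_inn_cent hp hφ]
  rw [← h2, h4, mul_comm]
  exact Nat.mul_le_mul_right _ h3

theorem conj_sub {p : ℕ} {φ : AutM} (hφ : orderOf φ = p) :
    {χ | IsConj φ χ} ⊆ {χ : AutM | orderOf χ = p} := fun _ h => (orderOf_eq_of_isConj h).symm.trans hφ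

/-- One class of elements of order five. -/
theorem five_class {φ : AutM} (hφ : orderOf φ = 5) :
    Nat.card (centralizer ({φ} : Set AutM)) = 10 ∧ ∀ χ : AutM, orderOf χ = 5 → IsConj φ χ := by
  have h1 := card_conj_mul φ
  rw [card_aut] at h1
  have h2 := card_cent_le (Or.inl rfl) hφ
  have hn : Set.ncard {χ : AutM | orderOf χ = 5} = 88704 := by
    rw [ncard_order (by decide)]; exact hypM22.cnt_five
  have h3 := Set.ncard_le_ncard (conj_sub hφ) (Set.toFinite _)
  rw [hn] at h3
  have h5 : Nat.card (centralizer ({φ} : Set AutM)) = 10 := by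
    have h4 := Nat.mul_le_mul_right (Nat.card (centralizer ({φ} : Set AutM))) h3
    rw [h1] at h4
    omega
  rw [h5] at h1
  refine ⟨h5, fun χ hχ => ?_⟩
  have e := Set.eq_of_subset_of_ncard_le (conj_sub hφ) (by rw [hn]; omega) (Set.toFinite _)
  exact (Set.ext_iff.1 e χ).2 hχ

/-- One class of elements of order eleven. -/
theorem eleven_class {φ : AutM} (hφ : orderOf φ = 11) :
    ∀ χ : AutM, orderOf χ = 11 → IsConj φ χ := by
  intro χ hχ
  have h1 := card_conj_mul φ
  rw [card_aut, Eleven.aut_cent_eleven hφ, Nat.card_zpowers, hφ] at h1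
  have hn : Set.ncard {χ : AutM | orderOf χ = 11} = 80640 := by
    rw [ncard_order (by decide)]; exact hypM22.cnt_eleven
  have e := Set.eq_of_subset_of_ncard_le (conj_sub hφ) (by rw [hn]; omega) (Set.toFinite _)
  exact (Set.ext_iff.1 e χ).2 hχ

theorem three_class {φ χ : AutM} (hφ : orderOf φ = 3) (hχ : orderOf χ = 3) : IsConj φ χ := by
  obtain ⟨c, -, hc⟩ := inn_conj_three hφ hχ
  exact isConj_iff.2 ⟨c, hc⟩

theorem exists_order {p : ℕ} [Fact p.Prime] (h : p ∣ 887040) : ∃ φ : AutM, orderOf φ = p :=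
  exists_prime_orderOf_dvd_card' p (by rw [card_aut]; exact h)

section Seven

variable {G : Type*} [Group G] [Finite G] {z : G} {P : Subgroup G}

/-- An element of order seven commuting with an outer automorphism. -/
theorem exists_seven_outer (B : Base z P) (F : Frame z P) (D : VData F) (hf : Fused D) :
    ∃ φ ψ : AutM, orderOf φ = 7 ∧ ψ ∉ InnM ∧ ψ * φ = φ * ψ := by
  classical
  obtain ⟨S⟩ := Seven.exists_setup F D hf
  have hs : S.s ∈ Cen z := S.s_mem.1
  have hker : ∀ h : ↥S.CX, B.proj ⟨h, h.2.1⟩ = 1 → ∃ x ∈ P, (h : G) = x ∨ (h : G) = z * x := by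
    intro h hk
    obtain ⟨e, he, x, hx, heq⟩ := (B.ker _).1 hk
    replace heq : (h : G) = e * x := heq
    have hc := (S.mem_CX.1 h.2).2
    rw [heq, mul_assoc, ← B.comm_p S.s_mem hx, ← mul_assoc, ← mul_assoc] at hc
    rcases S.rad_CX he (S.mem_CX.2 ⟨B.rad_le he, mul_right_cancel hc⟩) with rfl | rfl
    · exact ⟨x, hx, Or.inl (heq.trans (one_mul x))⟩
    · exact ⟨x, hx, Or.inr heq⟩
  let f : ↥S.CX →* AutM := B.proj.comp (Subgroup.inclusion inf_le_left)
  have hf' : ∀ h : ↥S.CX, f h = B.proj ⟨h, h.2.1⟩ := fun _ => rfl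
  have hφ : orderOf (B.proj ⟨S.s, hs⟩) = 7 := by
    haveI : Fact (Nat.Prime 7) := ⟨by norm_num⟩
    refine orderOf_eq_prime ?_ fun e => ?_
    · rw [← map_pow, show (⟨S.s, hs⟩ : ↥(Cen z)) ^ 7 = 1 from
        Subtype.ext (by rw [Subgroup.coe_pow, ← S.s_order, pow_orderOf_eq_one]; rfl), map_one]
    · obtain ⟨x, hx, h | h⟩ := B.ker_C S.s_mem e
      · have := Subgroup.orderOf_dvd_natCard _ hx
        rw [← h, S.s_order, B.card_p] at this
        norm_num at this
      · have h3 : orderOf S.s ∣ 6 := by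
          rw [h]
          refine orderOf_dvd_of_pow_eq_one ?_
          have h2 : x ^ 3 = 1 := by
            rw [← B.card_p]
            exact congrArg Subtype.val (pow_card_eq_one' (x := (⟨x, hx⟩ : P)))
          rw [(show Commute z x from B.comm_p B.z_mem_C hx).mul_pow, show (6 : ℕ) = 2 * 3 from rfl,
            pow_mul z, pow_two, B.zz, one_pow, one_mul, mul_comm 2, pow_mul, h2, one_pow]
        rw [S.s_order] at h3
        norm_num at h3
  have hcom : ∀ h : ↥S.CX, f h * B.proj ⟨S.s, hs⟩ = B.proj ⟨S.s, hs⟩ * f h := fun h => by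
    rw [hf', ← map_mul, ← map_mul]
    exact congrArg B.proj (Subtype.ext (S.mem_CX.1 h.2).2)
  by_contra hcon
  push Not at hcon
  have hin : ∀ h : ↥S.CX, f h ∈ InnM := fun h => by
    by_contra hout
    exact hcon _ _ hφ hout (hcom h)
  have hr : Nat.card f.range ≤ 7 := by
    rw [← card_inn_cent (Or.inr (Or.inl rfl)) hφ]
    refine Subgroup.card_le_of_le ?_
    rintro _ ⟨h, rfl⟩
    exact ⟨mem_centralizer_singleton_iff.2 (hcom h), hin h⟩
  have hk : Nat.card f.ker ≤ 6 := by
    have hsub : (Subtype.val '' (f.ker : Set ↥S.CX) : Set G) ⊆ (P : Set G) ∪ (fun x => z * x) '' P := by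
      rintro _ ⟨h, hh, rfl⟩
      obtain ⟨x, hx, e | e⟩ := hker h ((hf' h).symm.trans hh)
      · exact Or.inl (e ▸ hx)
      · exact Or.inr ⟨x, hx, e.symm⟩
    have h := (Set.ncard_le_ncard hsub (Set.toFinite _)).trans (Set.ncard_union_le _ _)
    rw [Set.ncard_image_of_injective _ Subtype.val_injective, ← Nat.card_coe_set_eq] at h
    have h3 : Set.ncard (P : Set G) = 3 := (Nat.card_coe_set_eq _).symm.trans B.card_p
    rw [Set.ncard_image_of_injective _ (mul_right_injective z), h3] at h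
    exact h
  have h84 := f.ker.card_mul_index
  rw [Subgroup.index_ker, S.card_CX] at h84
  have := Nat.mul_le_mul hk hr
  omega

/-- Two classes of elements of order seven, swapped by no automorphism. -/
theorem seven_classes (B : Base z P) (F : Frame z P) (D : VData F) (hf : Fused D) :
    ∃ α β : AutM, orderOf α = 7 ∧ orderOf β = 7 ∧ ¬ IsConj α β ∧
      (∀ χ : AutM, orderOf χ = 7 → IsConj χ α ∨ IsConj χ β) ∧
      (∃ ψ : AutM, ψ ∉ InnM ∧ ψ * α = α * ψ) ∧ ∃ ψ : AutM, ψ ∉ InnM ∧ ψ * β = β * ψ := by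
  classical
  haveI : Fact (Nat.Prime 7) := ⟨by norm_num⟩
  obtain ⟨φ, ψ, hφ, hψ, hc⟩ := exists_seven_outer B F D hf
  have hpow : ∀ χ : AutM, orderOf χ = 7 → ∃ k : ℕ, IsConj χ (φ ^ k) := by
    intro χ hχ
    obtain ⟨h, -, hh⟩ := Eleven.exists_conj_zpowers (H := (⊤ : Subgroup AutM))
      (by rw [Subgroup.card_top, card_aut]; norm_num) (by rw [Subgroup.card_top, card_aut]; norm_num)
      (mem_top φ) (mem_top χ) hφ hχ
    obtain ⟨k, hk⟩ := (isOfFinOrder_of_finite φ).mem_powers_iff_mem_zpowers.2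
      (hh ▸ mem_zpowers (h * χ * h⁻¹) : h * χ * h⁻¹ ∈ zpowers φ)
    exact ⟨k, isConj_iff.2 ⟨h, hk.symm⟩⟩
  have hcard : ∀ χ : AutM, orderOf χ = 7 → Set.ncard {y | IsConj χ y} = 63360 := by
    intro χ hχ
    obtain ⟨k, hk⟩ := hpow χ hχ
    have hk7 : orderOf (φ ^ k) = 7 := (orderOf_eq_of_isConj hk).symm.trans hχ
    have hsame : {y | IsConj χ y} = {y | IsConj (φ ^ k) y} :=
      Set.ext fun y => ⟨fun h => hk.symm.trans h, fun h => hk.trans h⟩
    rw [hsame]
    have h1 := card_conj_mul (φ ^ k)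
    rw [card_aut] at h1
    have h2 := card_cent_le (Or.inr (Or.inl rfl)) hk7
    have hlt : 7 < Nat.card (centralizer ({φ ^ k} : Set AutM)) := by
      refine (card_inn_cent (Or.inr (Or.inl rfl)) hk7).symm.trans_lt ?_
      refine lt_of_le_of_ne (Subgroup.card_le_of_le inf_le_left) fun e => hψ ?_
      have hle := Subgroup.eq_of_le_of_card_ge
        (inf_le_left : centralizer ({φ ^ k} : Set AutM) ⊓ InnM ≤ centralizer ({φ ^ k} : Set AutM)) e.ge
      have hψk : ψ ∈ centralizer ({φ ^ k} : Set AutM) :=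
        mem_centralizer_singleton_iff.2 ((show Commute ψ φ from hc).pow_right k).eq
      rw [← hle] at hψk
      exact hψk.2
    have hd : Nat.card (centralizer ({φ ^ k} : Set AutM)) ∣ 887040 := ⟨_, by rw [← h1, mul_comm]⟩
    have hcases : ∀ c ≤ 14, 7 < c → c ∣ 887040 → (887040 / c = 63360 ∨ (c ≠ 14 ∧ ¬ 7 ∣ c)) := by decide
    have h7 : 7 ∣ Nat.card (centralizer ({φ ^ k} : Set AutM)) := by
      have := Subgroup.orderOf_dvd_natCard (centralizer ({φ ^ k} : Set AutM))
        (mem_centralizer_singleton_iff.2 rfl : φ ^ k ∈ _)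
      rwa [hk7] at this
    rcases hcases _ h2 hlt hd with e | ⟨-, e⟩
    · rw [← e, ← h1, Nat.mul_div_cancel _ Nat.card_pos]
    · exact absurd h7 e
  have hn : Set.ncard {χ : AutM | orderOf χ = 7} = 126720 := by
    rw [ncard_order (by decide)]; exact hypM22.cnt_seven
  obtain ⟨β, hβ, hne⟩ : ∃ β : AutM, orderOf β = 7 ∧ ¬ IsConj φ β := by
    by_contra h
    push Not at h
    have := Set.ncard_le_ncard (s := {χ : AutM | orderOf χ = 7}) (t := {y | IsConj φ y})
      (fun χ hχ => h χ hχ) (Set.toFinite _)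
    rw [hn, hcard φ hφ] at this
    omega
  obtain ⟨k, hk⟩ := hpow β hβ
  have hk7 : orderOf (φ ^ k) = 7 := (orderOf_eq_of_isConj hk).symm.trans hβ
  refine ⟨φ, φ ^ k, hφ, hk7, fun h => hne (h.trans hk.symm), fun χ hχ => ?_, ⟨ψ, hψ, hc⟩,
    ⟨ψ, hψ, ((show Commute ψ φ from hc).pow_right k).eq⟩⟩
  have hdis : Disjoint {y | IsConj φ y} {y | IsConj (φ ^ k) y} :=
    Set.disjoint_left.2 fun y h1 h2 => hne ((h1.trans h2.symm).trans hk.symm)
  have hun : {y | IsConj φ y} ∪ {y | IsConj (φ ^ k) y} ⊆ {χ : AutM | orderOf χ = 7} :=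
    Set.union_subset (conj_sub hφ) (conj_sub hk7)
  have e := Set.eq_of_subset_of_ncard_le hun (by
    rw [Set.ncard_union_eq hdis (Set.toFinite _) (Set.toFinite _), hcard _ hφ, hcard _ hk7, hn])
    (Set.toFinite _)
  rcases (Set.ext_iff.1 e χ).2 hχ with h | h
  · exact Or.inl h.symm
  · exact Or.inr h.symm

end Seven

end CfsgLib.J4Type.Classes
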