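import Cfsg.Agent.Lib.J4Type.Classes.OddAut
import Cfsg.Agent.Lib.J4Type.Three.Sylow

/-!
The twelve classes of odd order of the centraliser of the central involution.

They lie over the six classes of odd order of the automorphism group of `M22`; over each of them a
lift in the centraliser of `P` is multiplied by the elements of `P`.
-/

set_option autoImplicit false
set_option linter.unusedSectionVars false
set_option linter.style.haveILetI false

namespace CfsgLib.J4Type.Classes

open Cfsg Subgroup CoreP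

variable {G : Type*} [Group G] [Finite G] {z : G} {P : Subgroup G}

section
variable (B : Base z P) (F : Frame z P)
include B

/-- The image in the automorphism group of `M22`, extended to all elements. -/
noncomputable def img (h : G) : AutM :=
  @dite _ (h ∈ Cen z) (Classical.propDecidable _) (fun hh => B.proj ⟨h, hh⟩) fun _ => 1

theorem img_eq {h : G} (hh : h ∈ Cen z) : img B h = B.proj ⟨h, hh⟩ :=
  @dif_pos _ (Classical.propDecidable _) hh _ _ _

theorem img_mul {a b : G} (ha : a ∈ Cen z) (hb : b ∈ Cen z) : img B (a * b) = img B a * img B b := by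
  rw [img_eq B ha, img_eq B hb, img_eq B (mul_mem ha hb), ← map_mul]; rfl

theorem img_inv {a : G} (ha : a ∈ Cen z) : img B a⁻¹ = (img B a)⁻¹ := by
  rw [img_eq B ha, img_eq B (inv_mem ha), ← map_inv]; rfl

theorem img_pow {a : G} (ha : a ∈ Cen z) (n : ℕ) : img B (a ^ n) = img B a ^ n := by
  rw [img_eq B ha, img_eq B (pow_mem ha n), ← map_pow]; rfl

theorem img_conj {a b : G} (ha : a ∈ Cen z) (hb : b ∈ Cen z) :
    img B (a * b * a⁻¹) = img B a * img B b * (img B a)⁻¹ := by
  rw [img_mul B (mul_mem ha hb) (inv_mem ha), img_mul B ha hb, img_inv B ha]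

theorem img_one : img B 1 = 1 := by
  rw [img_eq B (one_mem _)]; exact map_one B.proj

theorem img_p {x : G} (hx : x ∈ P) : img B x = 1 := by rw [img_eq B (B.p_le hx)]; exact B.proj_p hx

theorem odd_p {x : G} (hx : x ∈ P) : Odd (orderOf x) :=
  (by decide : Odd 3).of_dvd_nat (B.card_p ▸ Subgroup.orderOf_dvd_natCard _ hx)

theorem p_cube {x : G} (hx : x ∈ P) : x ^ 3 = 1 :=
  orderOf_dvd_iff_pow_eq_one.1 (B.card_p ▸ Subgroup.orderOf_dvd_natCard _ hx)

/-- Elements of `C(z)` with one image differ by an element of the radical and one of `P`. -/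
theorem img_eq_iff {a b : G} (ha : a ∈ Cen z) (hb : b ∈ Cen z) (h : img B a = img B b) :
    ∃ e ∈ Rad z, ∃ x ∈ P, b = a * (e * x) := by
  have h1 : B.proj ⟨a⁻¹ * b, mul_mem (inv_mem ha) hb⟩ = 1 := by
    rw [← img_eq B, img_mul B (inv_mem ha) hb, img_inv B ha, h, inv_mul_cancel]
  obtain ⟨e, he, x, hx, heq⟩ := (B.ker _).1 h1
  exact ⟨e, he, x, hx, by rw [← show a⁻¹ * b = e * x from heq, mul_inv_cancel_left]⟩

theorem rad_normal {h : G} (hh : h ∈ Cen z) : h ∈ normalizer (Rad z : Set G) :=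
  mem_normalizer_iff.2 fun e => ⟨B.rad_conj h hh e, fun he => by
    have := B.rad_conj h⁻¹ (inv_mem hh) _ he
    simpa [mul_assoc] using this⟩

theorem isPGroup_rad : IsPGroup 2 ↥(Rad z) := IsPGroup.of_card (n := 13) B.card_rad

/-- An element of odd order is conjugate to a lift times an element of `P`. -/
theorem conj_lift {y g : G} (hy : y ∈ CP z P) (hyo : Odd (orderOf y)) (hg : g ∈ Cen z)
    (hgo : Odd (orderOf g)) (h : img B g = img B y) :
    ∃ x ∈ P, ∃ c ∈ Cen z, c * g * c⁻¹ = y * x := by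
  obtain ⟨e, he, x, hx, heq⟩ := img_eq_iff B hy.1 hg h.symm
  have hyx : y * x ∈ Cen z := mul_mem hy.1 (B.p_le hx)
  have ho : Odd (orderOf (y * x)) :=
    (hyo.mul (odd_p B hx)).of_dvd_nat (show Commute y x from B.comm_p hy hx).orderOf_mul_dvd_mul_orderOf
  have hmem : (y * x)⁻¹ * g ∈ Rad z := by
    rw [heq, show (y * x)⁻¹ * (y * (e * x)) = x⁻¹ * e * x⁻¹⁻¹ by group]
    exact B.rad_conj _ (inv_mem (B.p_le hx)) _ he
  obtain ⟨q, hq, hqe⟩ := conj_of_coset (isPGroup_rad B) hgo ho (rad_normal B hyx) hmem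
  exact ⟨x, hx, q, B.rad_le hq, hqe⟩

include F in
/-- An inner automorphism has a lift of the same order prime to six centralising `P`. -/
theorem exists_lift_odd {φ : AutM} {p k : ℕ} [Fact p.Prime] (hp : Odd p) (hφ : orderOf φ = p)
    (hk : 6 ∣ k) (hk1 : k % p = 1) :
    ∃ y ∈ CP z P, orderOf y = p ∧ img B y = φ := by
  obtain ⟨c, hc, hcφ⟩ := B.exists_C F (φ := φ) (mem_inn_of_odd (hφ.symm ▸ hp))
  have hcp : img B (c ^ p) = 1 := by
    rw [img_pow B hc.1, img_eq B hc.1, hcφ, ← hφ, pow_orderOf_eq_one]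
  obtain ⟨x, hx, he⟩ := B.ker_C (pow_mem hc p) (by rw [← img_eq B]; exact hcp)
  have h6 : (c ^ p) ^ 6 = 1 := by
    have h2 : x ^ 6 = 1 := by
      rw [show (6 : ℕ) = 3 * 2 from rfl, pow_mul, p_cube B hx, one_pow]
    rcases he with e | e <;> rw [e]
    · exact h2
    · rw [(show Commute z x from B.comm_p B.z_mem_C hx).mul_pow, h2, mul_one,
        show (6 : ℕ) = 2 * 3 from rfl, pow_mul, pow_two, B.zz, one_pow]
  have hφk : img B (c ^ k) = φ := by
    rw [img_pow B hc.1, img_eq B hc.1, hcφ, ← pow_mod_orderOf, hφ, hk1, pow_one]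
  refine ⟨c ^ k, pow_mem hc k, orderOf_eq_prime ?_ fun e => ?_, hφk⟩
  · obtain ⟨l, rfl⟩ := hk
    rw [← pow_mul, show 6 * l * p = p * 6 * l by ring, pow_mul, pow_mul, h6, one_pow]
  · rw [e, img_one] at hφk
    rw [← hφk, orderOf_one] at hφ
    exact Fact.out (p := p.Prime) |>.ne_one hφ.symm

include F in
/-- A lift of an outer automorphism inverting `P`. -/
theorem exists_outer {ψ : AutM} (hψ : ψ ∉ InnM) :
    ∃ h ∈ Cen z, h ∈ normalizer (P : Set G) ∧ img B h = ψ ∧
      ∀ x ∈ P, h * x * h⁻¹ = x⁻¹ := by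
  obtain ⟨a, ⟨ha, han⟩, haC⟩ := B.moving
  have haI : img B a ∉ InnM := by
    intro h
    obtain ⟨c, hc, hcφ⟩ := B.exists_C F h
    have hk : B.proj ⟨c⁻¹ * a, mul_mem (inv_mem hc.1) ha⟩ = 1 := by
      rw [← img_eq B, img_mul B (inv_mem hc.1) ha, img_inv B hc.1, img_eq B hc.1, hcφ, inv_mul_cancel]
    have := B.mem_C_of_ker _ (mul_mem (inv_mem (B.C_le_norm hc)) han) hk
    exact haC (by simpa using mul_mem hc this)
  have hI : (img B a)⁻¹ * ψ ∈ InnM :=
    (Subgroup.mul_mem_iff_of_index_two index_inn).2 (by simp [haI, hψ])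
  obtain ⟨c, hc, hcφ⟩ := B.exists_C F hI
  have hn : a * c ∈ normalizer (P : Set G) := mul_mem han (B.C_le_norm hc)
  refine ⟨a * c, mul_mem ha hc.1, hn, by rw [img_mul B ha hc.1, img_eq B hc.1, hcφ, mul_inv_cancel_left],
    ?_⟩
  obtain ⟨p, hpo, hPp⟩ := B.exists_gen
  have hp : p ∈ P := hPp ▸ mem_zpowers p
  have hne : a * c * p * (a * c)⁻¹ ≠ p := by
    intro e
    refine haC ⟨ha, ?_⟩
    have h1 : a * p * a⁻¹ = p := by
      have h2 : c * p * c⁻¹ = p := by rw [B.comm_p hc hp, mul_inv_cancel_right]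
      rw [show a * c * p * (a * c)⁻¹ = a * (c * p * c⁻¹) * a⁻¹ by group, h2] at e
      exact e
    show a ∈ centralizer (P : Set G)
    rw [mem_centralizer_iff]
    intro x hx
    rw [SetLike.mem_coe, hPp] at hx
    obtain ⟨i, rfl⟩ := hx
    exact ((show Commute a p from mul_inv_eq_iff_eq_mul.1 h1).zpow_right i).eq.symm
  have hinv : a * c * p * (a * c)⁻¹ = p⁻¹ := by
    have hm : a * c * p * (a * c)⁻¹ ∈ zpowers p := hPp ▸ (mem_normalizer_iff.1 hn p).1 hp
    obtain ⟨i, hi⟩ := (IsOfFinOrder.mem_powers_iff_mem_zpowers (isOfFinOrder_of_finite p)).2 hm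
    simp only at hi
    rw [← pow_mod_orderOf, hpo] at hi
    have h3 : p ^ 3 = 1 := hpo ▸ pow_orderOf_eq_one p
    have : i % 3 < 3 := Nat.mod_lt _ (by norm_num)
    interval_cases i % 3
    · rw [pow_zero] at hi
      rw [conj_eq_one_iff.1 hi.symm, orderOf_one] at hpo
      omega
    · exact absurd (hi.symm.trans (pow_one p)) hne
    · rw [← hi]
      exact eq_inv_of_mul_eq_one_left (by rw [← pow_succ, h3])
  intro x hx
  rw [hPp] at hx
  obtain ⟨i, rfl⟩ := hx
  rw [← conj_zpow, hinv, inv_zpow]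

/-- An element moving `P` fixes the lift of a fixed automorphism. -/
theorem fixes_lift {h y : G} {p : ℕ} (hp : p.Prime) (hp6 : p.Coprime 6) (hh : h ∈ Cen z)
    (hn : h ∈ normalizer (P : Set G)) (hy : y ∈ CP z P) (hyo : orderOf y = p)
    (hc : img B h * img B y = img B y * img B h) : h * y * h⁻¹ = y := by
  have hm : h * y * h⁻¹ ∈ CP z P := by
    refine ⟨Subgroup.mul_mem _ (Subgroup.mul_mem _ hh hy.1) (Subgroup.inv_mem _ hh),
      mem_centralizer_iff.2 fun x hx => ?_⟩
    have h1 : h⁻¹ * x * h ∈ P := (mem_normalizer_iff''.1 hn x).1 hx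
    calc x * (h * y * h⁻¹) = h * ((h⁻¹ * x * h) * y) * h⁻¹ := by group
      _ = h * (y * (h⁻¹ * x * h)) * h⁻¹ := by rw [B.comm_p hy h1]
      _ = h * y * h⁻¹ * x := by group
  set d := y⁻¹ * (h * y * h⁻¹) with hd
  have hdC : d ∈ CP z P := mul_mem (inv_mem hy) hm
  have hd1 : img B d = 1 := by
    rw [hd, img_mul B (inv_mem hy.1) hm.1, img_inv B hy.1, img_conj B hh hy.1, hc, mul_inv_cancel_right,
      inv_mul_cancel]
  obtain ⟨x, hx, hor⟩ := B.ker_C hdC (by rw [← img_eq B]; exact hd1)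
  have hyd : Commute y d := by
    rcases hor with e | e <;> rw [e]
    · exact B.comm_p hy hx
    · exact (show Commute y z from B.comm_z hy.1).mul_right (B.comm_p hy hx)
  have hdp : d ^ p = 1 := by
    have h1 : (h * y * h⁻¹) ^ p = 1 := by
      rw [← hyo, conj_pow, pow_orderOf_eq_one, mul_one, mul_inv_cancel]
    rwa [show h * y * h⁻¹ = y * d by rw [hd, mul_inv_cancel_left], hyd.mul_pow, ← hyo,
      pow_orderOf_eq_one, one_mul, hyo] at h1
  have hd6 : d ^ 6 = 1 := by
    have h2 : x ^ 6 = 1 := by rw [show (6 : ℕ) = 3 * 2 from rfl, pow_mul, p_cube B hx, one_pow]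
    rcases hor with e | e <;> rw [e]
    · exact h2
    · rw [(show Commute z x from B.comm_p B.z_mem_C hx).mul_pow, h2, mul_one,
        show (6 : ℕ) = 2 * 3 from rfl, pow_mul, pow_two, B.zz, one_pow]
  have h1 : d = 1 := by simpa [hp6.gcd_eq_one] using pow_gcd_eq_one.2 (⟨hdp, hd6⟩ : d ^ p = 1 ∧ d ^ 6 = 1)
  rw [hd, inv_mul_eq_one] at h1
  exact h1.symm

include F in
/-- An element of order three outside `P`, conjugate to its products with the elements of `P`. -/
theorem exists_three : ∃ y ∈ CP z P, orderOf y = 3 ∧ orderOf (img B y) = 3 ∧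
    ∀ x ∈ P, ∃ c ∈ Cen z, c * (y * x) * c⁻¹ = y := by
  haveI : Fact (Nat.Prime 3) := ⟨Nat.prime_three⟩
  obtain ⟨Q, hQ, hQc, hQ3, a, ha, b, hb, hab⟩ := Three.exists_ex B F
  obtain ⟨-, -, h, hh, hcent, hker⟩ := Three.struct27 B F hQ hQc
  set u := h⁻¹ * a * h with hu
  set w := h⁻¹ * b * h with hw
  have hinC : ∀ c ∈ Q, h⁻¹ * c * h ∈ CP z P := by
    intro c hc
    refine ⟨Subgroup.mul_mem _ (Subgroup.mul_mem _ (Subgroup.inv_mem _ hh) (hQ hc)) hh,
      mem_centralizer_iff.2 fun x hx => ?_⟩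
    have h1 : h * x * h⁻¹ ∈ Q ⊓ centralizer (Q : Set G) := hcent.ge ⟨x, hx, rfl⟩
    have h2 := mem_centralizer_iff.1 h1.2 c hc
    calc x * (h⁻¹ * c * h) = h⁻¹ * (h * x * h⁻¹ * c) * h := by group
      _ = h⁻¹ * (c * (h * x * h⁻¹)) * h := by rw [h2]
      _ = h⁻¹ * c * h * x := by group
  have hu3 : u ^ 3 = 1 := by
    have := conj_pow (i := 3) (a := h⁻¹) (b := a)
    rw [inv_inv, hQ3 a ha, mul_one, inv_mul_cancel] at this
    exact this
  have huQ := hinC a ha
  have hwQ := hinC b hb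
  have huP : u ∉ P := by
    intro hx
    refine hab ?_
    have h1 : h * u * h⁻¹ ∈ Q ⊓ centralizer (Q : Set G) := hcent.ge ⟨u, hx, rfl⟩
    rw [show h * u * h⁻¹ = a by rw [hu]; group] at h1
    exact (mem_centralizer_iff.1 h1.2 b hb).symm
  have himg : img B u ≠ 1 := by
    intro e
    rw [img_eq B huQ.1] at e
    have h1 : img B a = 1 := by
      rw [show a = h * u * h⁻¹ by rw [hu]; group, img_conj B hh huQ.1, img_eq B huQ.1, e, mul_one,
        mul_inv_cancel]
    rw [img_eq B (hQ ha)] at h1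
    obtain ⟨x, hx, e'⟩ := hker a ha h1
    have e'' : h * x * h⁻¹ = a := e'
    exact huP (by rw [hu, ← e'', show h⁻¹ * (h * x * h⁻¹) * h = x by group]; exact hx)
  have ho : orderOf u = 3 := orderOf_eq_prime hu3 fun e => himg (by rw [e, img_one])
  have hoi : orderOf (img B u) = 3 :=
    orderOf_eq_prime (by rw [← img_pow B huQ.1, hu3, img_one]) himg
  -- the commutator lies in `P`
  set d := u⁻¹ * (w * u * w⁻¹) with hd
  have hdQ : h * d * h⁻¹ = a⁻¹ * (b * a * b⁻¹) := by rw [hd, hu, hw]; group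
  have hdP : d ∈ P := by
    have hmem : a⁻¹ * (b * a * b⁻¹) ∈ Q :=
      mul_mem (inv_mem ha) (mul_mem (mul_mem hb ha) (inv_mem hb))
    have hp : IsPGroup 3 Q := IsPGroup.of_card (n := 3) (by rw [hQc]; norm_num)
    -- two commuting images
    let f : ↥Q →* AutM := B.proj.comp (Subgroup.inclusion hQ)
    have hK : Nat.card f.range ∣ 9 := by
      have h1 : Nat.card f.range ∣ 27 := hQc ▸ Subgroup.card_dvd_of_surjective f.rangeRestrict
        f.rangeRestrict_surjective
      have h3 : 3 ∣ Nat.card f.ker := by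
        obtain ⟨p, hpo, hPp⟩ := B.exists_gen
        have hpP : p ∈ P := hPp ▸ mem_zpowers p
        have hm : h * p * h⁻¹ ∈ Q :=
          ((hcent.ge ⟨p, hpP, rfl⟩ : h * p * h⁻¹ ∈ Q ⊓ centralizer (Q : Set G))).1
        have hk : (⟨h * p * h⁻¹, hm⟩ : ↥Q) ∈ f.ker := by
          show B.proj ⟨h * p * h⁻¹, _⟩ = 1
          rw [← img_eq B, img_conj B hh (B.p_le hpP), img_p B hpP, mul_one, mul_inv_cancel]
        have := Subgroup.orderOf_dvd_natCard _ hk
        rwa [Subgroup.orderOf_mk, orderOf_conj', hpo] at this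
      have h2 := f.ker.card_mul_index
      rw [Subgroup.index_ker, hQc] at h2
      obtain ⟨k, hk⟩ := h3
      exact ⟨k, by rw [hk] at h2; linarith⟩
    have hcomm : ∀ s t : ↥f.range, s * t = t * s := by
      obtain ⟨i, hi, hi'⟩ := (Nat.dvd_prime_pow Nat.prime_three).1 (show Nat.card f.range ∣ 3 ^ 2 from hK)
      interval_cases i
      · intro s t
        haveI := (Nat.card_eq_one_iff_unique.1 (hi'.trans (pow_zero 3))).1
        exact Subsingleton.elim _ _
      · have := isCyclic_of_prime_card (hi'.trans (pow_one 3))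
        exact fun s t => (IsCyclic.commutative (α := f.range)).1.comm s t
      · exact fun s t => IsPGroup.commutative_of_card_eq_prime_sq hi' s t
    have h1 : img B (a⁻¹ * (b * a * b⁻¹)) = 1 := by
      rw [img_mul B (inv_mem (hQ ha)) (mul_mem (mul_mem (hQ hb) (hQ ha)) (inv_mem (hQ hb))),
        img_inv B (hQ ha), img_conj B (hQ hb) (hQ ha)]
      have hc : img B b * img B a = img B a * img B b := by
        rw [img_eq B (hQ ha), img_eq B (hQ hb)]
        exact congrArg Subtype.val (hcomm ⟨_, ⟨⟨b, hb⟩, rfl⟩⟩ ⟨_, ⟨⟨a, ha⟩, rfl⟩⟩)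
      rw [hc, mul_inv_cancel_right, inv_mul_cancel]
    rw [img_eq B (hQ hmem)] at h1
    obtain ⟨x, hx, e⟩ := hker _ hmem h1
    have e' : h * x * h⁻¹ = h * d * h⁻¹ := by rw [hdQ]; exact e
    rwa [← mul_left_cancel (mul_right_cancel e')]
  have hd1 : d ≠ 1 := fun e => hab (by
    rw [e, mul_one, mul_inv_cancel] at hdQ
    have := inv_mul_eq_one.1 hdQ.symm
    conv_lhs => rw [this]
    group)
  have hpow : ∀ n : ℕ, w ^ n * u * (w ^ n)⁻¹ = u * d ^ n := by
    intro n
    induction n with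
    | zero => simp
    | succ n ih =>
      calc w ^ (n + 1) * u * (w ^ (n + 1))⁻¹ = w * (w ^ n * u * (w ^ n)⁻¹) * w⁻¹ := by
            rw [pow_succ']; group
        _ = (w * u * w⁻¹) * (w * d ^ n * w⁻¹) := by rw [ih]; group
        _ = u * d * d ^ n := by
            rw [show w * d ^ n * w⁻¹ = d ^ n by rw [B.comm_p hwQ (pow_mem hdP n), mul_inv_cancel_right],
              hd, mul_inv_cancel_left]
        _ = u * d ^ (n + 1) := by rw [pow_succ', mul_assoc]
  refine ⟨u, huQ, ho, hoi, fun x hx => ?_⟩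
  have hPd : P = zpowers d := by
    refine (Subgroup.eq_of_le_of_card_ge (zpowers_le.2 hdP) ?_).symm
    rw [B.card_p, Nat.card_zpowers, orderOf_eq_prime (p_cube B hdP) hd1]
  obtain ⟨i, hi⟩ := (IsOfFinOrder.mem_powers_iff_mem_zpowers (isOfFinOrder_of_finite d)).2
    (hPd ▸ hx : x ∈ zpowers d)
  simp only at hi
  refine ⟨(w ^ i)⁻¹, inv_mem (pow_mem hwQ.1 i), ?_⟩
  rw [← hi, ← hpow]
  group

end

/-- **The twelve classes of odd order in `C(z)`.** -/
theorem odd_cz (F : Frame z P) (D : VData F) (hf : Fused D) : classesIn (Cen z) OddOrd = 12 := by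
  classical
  haveI : Fact (Nat.Prime 3) := ⟨Nat.prime_three⟩
  haveI : Fact (Nat.Prime 5) := ⟨by norm_num⟩
  haveI : Fact (Nat.Prime 7) := ⟨by norm_num⟩
  haveI : Fact (Nat.Prime 11) := ⟨by norm_num⟩
  obtain ⟨B⟩ := exists_base F
  obtain ⟨p, hpo, hPp⟩ := B.exists_gen
  have hp : p ∈ P := hPp ▸ mem_zpowers p
  have hP3 : ∀ x ∈ P, x = 1 ∨ x = p ∨ x = p⁻¹ := by
    intro x hx
    obtain ⟨i, hi⟩ := (IsOfFinOrder.mem_powers_iff_mem_zpowers (isOfFinOrder_of_finite p)).2
      (hPp ▸ hx : x ∈ zpowers p)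
    simp only at hi
    rw [← pow_mod_orderOf, hpo] at hi
    have : i % 3 < 3 := Nat.mod_lt _ (by norm_num)
    have h3 : p ^ 3 = 1 := hpo ▸ pow_orderOf_eq_one p
    interval_cases i % 3
    · exact Or.inl (hi.symm.trans (pow_zero p))
    · exact Or.inr (Or.inl (hi.symm.trans (pow_one p)))
    · exact Or.inr (Or.inr (hi.symm.trans (eq_inv_of_mul_eq_one_left (by rw [← pow_succ, h3]))))
  obtain ⟨φ5, hφ5⟩ := exists_order (p := 5) (by norm_num)
  obtain ⟨φ11, hφ11⟩ := exists_order (p := 11) (by norm_num)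
  obtain ⟨α, β, hα, hβ, hαβ, hseven, ⟨ψa, hψa, hca⟩, ψb, hψb, hcb⟩ := seven_classes B F D hf
  obtain ⟨hC5, hfive⟩ := five_class hφ5
  obtain ⟨ψ5, hψ5, hc5⟩ : ∃ ψ : AutM, ψ ∉ InnM ∧ ψ * φ5 = φ5 * ψ := by
    by_contra h
    push Not at h
    have hle : centralizer ({φ5} : Set AutM) ≤ centralizer ({φ5} : Set AutM) ⊓ InnM :=
      fun ψ hψ => ⟨hψ, by
        by_contra hI
        exact h ψ hI (mem_centralizer_singleton_iff.1 hψ)⟩
    have := Subgroup.card_le_of_le hle
    rw [card_inn_cent (Or.inl rfl) hφ5, hC5] at this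
    omega
  obtain ⟨y3, hy3, hy3o, hy3i, hy3c⟩ := exists_three B F
  obtain ⟨q, hq, hqo, hqi⟩ := exists_lift_odd B F (k := 6) (by decide) hφ5 (by norm_num) (by norm_num)
  obtain ⟨a, ha, hao, hai⟩ := exists_lift_odd B F (k := 36) (by decide) hα (by norm_num) (by norm_num)
  obtain ⟨b, hb, hbo, hbi⟩ := exists_lift_odd B F (k := 36) (by decide) hβ (by norm_num) (by norm_num)
  obtain ⟨c, hc, hco, hci⟩ := exists_lift_odd B F (k := 12) (by decide) hφ11 (by norm_num) (by norm_num)
  have hpi : p⁻¹ ∈ P := inv_mem hp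
  let v : Fin 12 → G := ![1, p, y3, q, q * p, a, a * p, b, b * p, c, c * p, c * p⁻¹]
  have hv : ∀ i, v i ∈ Cen z := by
    intro i
    have h1 := B.p_le hp
    have h2 := B.p_le hpi
    fin_cases i <;> simp only [v, Matrix.cons_val] <;>
      first
        | exact one_mem _
        | exact h1
        | exact hy3.1
        | exact hq.1
        | exact mul_mem hq.1 h1
        | exact ha.1
        | exact mul_mem ha.1 h1
        | exact hb.1
        | exact mul_mem hb.1 h1
        | exact hc.1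
        | exact mul_mem hc.1 h1
        | exact mul_mem hc.1 h2
  have hmulo : ∀ {y x : G} {n : ℕ}, y ∈ CP z P → x ∈ P → orderOf x = 3 → orderOf y = n →
      n.Coprime 3 → orderOf (y * x) = n * 3 := fun {y x n} hy hx hxo hyo hn => by
    rw [(show Commute y x from B.comm_p hy hx).orderOf_mul_eq_mul_orderOf_of_coprime
      (by rw [hyo, hxo]; exact hn), hyo, hxo]
  let o : Fin 12 → ℕ := ![1, 3, 3, 5, 15, 7, 21, 7, 21, 11, 33, 33]
  have hvo : ∀ i, orderOf (v i) = o i := by
    intro i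
    have hpio : orderOf p⁻¹ = 3 := by rw [orderOf_inv, hpo]
    fin_cases i <;> simp only [v, o, Matrix.cons_val] <;>
      first
        | exact orderOf_one
        | assumption
        | exact hmulo hq hp hpo hqo (by decide)
        | exact hmulo ha hp hpo hao (by decide)
        | exact hmulo hb hp hpo hbo (by decide)
        | exact hmulo hc hp hpo hco (by decide)
        | exact hmulo hc hpi hpio hco (by decide)
  let f : Fin 12 → AutM := ![1, 1, img B y3, φ5, φ5, α, α, β, β, φ11, φ11, φ11]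
  have hvf : ∀ i, img B (v i) = f i := by
    intro i
    fin_cases i <;>
      first
        | exact img_one B
        | exact img_p B hp
        | rfl
        | assumption
        | exact (img_mul B hq.1 (B.p_le hp)).trans (by rw [img_p B hp, mul_one, hqi]; rfl)
        | exact (img_mul B ha.1 (B.p_le hp)).trans (by rw [img_p B hp, mul_one, hai]; rfl)
        | exact (img_mul B hb.1 (B.p_le hp)).trans (by rw [img_p B hp, mul_one, hbi]; rfl)
        | exact (img_mul B hc.1 (B.p_le hp)).trans (by rw [img_p B hp, mul_one, hci]; rfl)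
        | exact (img_mul B hc.1 (B.p_le hpi)).trans (by rw [img_p B hpi, mul_one, hci]; rfl)
  let r : Fin 12 → ↥(Cen z) := fun i => ⟨v i, hv i⟩
  have hodd : ∀ i, Odd (o i) := by
    intro i; fin_cases i <;> decide
  refine classesIn_eq r (fun i => ?_) ?_ ?_
  · show Odd (orderOf (v i))
    rw [hvo i]; exact hodd i
  · -- covering
    intro h hh
    have hodd' : Odd (orderOf (h : G)) := hh
    have hφo : Odd (orderOf (B.proj h)) := odd_map B.proj (by rwa [← Subgroup.orderOf_coe])
    -- reduction to the products of one lift with the elements of `P`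
    have red : ∀ (y : G), y ∈ CP z P → Odd (orderOf y) → IsConj (B.proj h) (img B y) →
        (∀ x ∈ P, ∃ i, ∃ d ∈ Cen z, d * (y * x) * d⁻¹ = v i) → ∃ i, IsConj h (r i) := by
      intro y hy hyo hconj hall
      obtain ⟨γ, hγ⟩ := isConj_iff.1 hconj
      obtain ⟨⟨g, hg⟩, rfl⟩ := B.surj γ
      have hgh : g * (h : G) * g⁻¹ ∈ Cen z := mul_mem (mul_mem hg h.2) (inv_mem hg)
      obtain ⟨x, hx, e, he, hee⟩ := conj_lift B hy hyo hgh (by rwa [orderOf_conj'])
        (by rw [img_conj B hg h.2, img_eq B hg, img_eq B h.2]; exact hγ)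
      obtain ⟨i, d, hd, hde⟩ := hall x hx
      refine ⟨i, isConj_iff.2 ⟨⟨d * e * g, mul_mem (mul_mem hd he) hg⟩, Subtype.ext ?_⟩⟩
      show d * e * g * (h : G) * (d * e * g)⁻¹ = v i
      rw [← hde, ← hee]
      group
    have inv_case : ∀ (y : G) (ψ : AutM) (n : ℕ), n.Prime → n.Coprime 6 → y ∈ CP z P → orderOf y = n →
        ψ ∉ InnM → ψ * img B y = img B y * ψ → ∃ d ∈ Cen z, d * (y * p⁻¹) * d⁻¹ = y * p := by
      intro y ψ n hn hn6 hy hyo hψ hc
      obtain ⟨d, hd, hdn, hdi, hdinv⟩ := exists_outer B F hψ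
      refine ⟨d, hd, ?_⟩
      have h1 := fixes_lift B hn hn6 hd hdn hy hyo (by rw [hdi]; exact hc)
      rw [show d * (y * p⁻¹) * d⁻¹ = (d * y * d⁻¹) * (d * p⁻¹ * d⁻¹) by group, h1, hdinv _ hpi, inv_inv]
    rcases odd_orders hφo with e | e | e | e | e
    · refine red 1 (one_mem _) (by rw [orderOf_one]; exact odd_one)
        (by rw [orderOf_eq_one_iff.1 e, img_one]) fun x hx => ?_
      rcases hP3 x hx with e' | e' | e' <;> subst e'
      · exact ⟨0, 1, one_mem _, by simp [v]⟩
      · exact ⟨1, 1, one_mem _, by simp [v]⟩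
      · obtain ⟨m, ⟨hm, hmn⟩, hmC⟩ := B.moving
        obtain ⟨d, hd, hdn, -, hdinv⟩ := exists_outer B F hψ5
        exact ⟨1, d, hd, by simp [v, hdinv _ hpi]⟩
    · refine red y3 hy3 (by rw [hy3o]; decide) (three_class e hy3i) fun x hx => ?_
      obtain ⟨d, hd, hde⟩ := hy3c x hx
      exact ⟨2, d, hd, hde⟩
    · refine red q hq (by rw [hqo]; decide) (hqi.symm ▸ (hfive _ e).symm) fun x hx => ?_
      rcases hP3 x hx with e' | e' | e' <;> subst e'
      · exact ⟨3, 1, one_mem _, by simp [v]⟩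
      · exact ⟨4, 1, one_mem _, by simp [v]⟩
      · obtain ⟨d, hd, hde⟩ := inv_case q ψ5 5 (by norm_num) (by decide) hq hqo hψ5 (hqi.symm ▸ hc5)
        exact ⟨4, d, hd, hde⟩
    · rcases hseven _ e with hc7 | hc7
      · refine red a ha (by rw [hao]; decide) (hai.symm ▸ hc7) fun x hx => ?_
        rcases hP3 x hx with e' | e' | e' <;> subst e'
        · exact ⟨5, 1, one_mem _, by simp [v]⟩
        · exact ⟨6, 1, one_mem _, by simp [v]⟩
        · obtain ⟨d, hd, hde⟩ := inv_case a ψa 7 (by norm_num) (by decide) ha hao hψa (hai.symm ▸ hca)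
          exact ⟨6, d, hd, hde⟩
      · refine red b hb (by rw [hbo]; decide) (hbi.symm ▸ hc7) fun x hx => ?_
        rcases hP3 x hx with e' | e' | e' <;> subst e'
        · exact ⟨7, 1, one_mem _, by simp [v]⟩
        · exact ⟨8, 1, one_mem _, by simp [v]⟩
        · obtain ⟨d, hd, hde⟩ := inv_case b ψb 7 (by norm_num) (by decide) hb hbo hψb (hbi.symm ▸ hcb)
          exact ⟨8, d, hd, hde⟩
    · refine red c hc (by rw [hco]; decide) (hci.symm ▸ (eleven_class hφ11 _ e).symm) fun x hx => ?_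
      rcases hP3 x hx with e' | e' | e' <;> subst e'
      · exact ⟨9, 1, one_mem _, by simp [v]⟩
      · exact ⟨10, 1, one_mem _, by simp [v]⟩
      · exact ⟨11, 1, one_mem _, by simp [v]⟩
  · -- distinctness
    intro i j hij
    obtain ⟨⟨d, hd⟩, hde⟩ := isConj_iff.1 hij
    have hde' : d * v i * d⁻¹ = v j := congrArg Subtype.val hde
    have ho : o i = o j := by rw [← hvo i, ← hvo j, ← hde', orderOf_conj']
    have hcf : IsConj (f i) (f j) :=
      isConj_iff.2 ⟨img B d, by rw [← hvf i, ← hvf j, ← hde', img_conj B hd (hv i)]⟩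
    have hy1 : img B y3 ≠ 1 := fun e => by rw [e, orderOf_one] at hy3i; omega
    have h11 : ∀ d ∈ Cen z, ∀ x ∈ P, x ≠ 1 → d * (c * x) * d⁻¹ ≠ c * x⁻¹ := by
      intro d hd x hx hx1 e
      have hc11 : c ^ 11 = 1 := hco ▸ pow_orderOf_eq_one c
      have hx3 := p_cube B hx
      have hcx : Commute c x := B.comm_p hc hx
      have hcx' : Commute c x⁻¹ := B.comm_p hc (inv_mem hx)
      have e12 := congrArg (fun g => g ^ 12) e
      have e22 := congrArg (fun g => g ^ 22) e
      simp only [conj_pow, hcx.mul_pow, hcx'.mul_pow, inv_pow] at e12 e22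
      have hc12 : c ^ 12 = c := by rw [pow_succ, hc11, one_mul]
      have hc22 : c ^ 22 = 1 := by rw [show 22 = 11 * 2 from rfl, pow_mul, hc11, one_pow]
      have hx12 : x ^ 12 = 1 := by rw [show 12 = 3 * 4 from rfl, pow_mul, hx3, one_pow]
      have hx22 : x ^ 22 = x := by rw [show 22 = 3 * 7 + 1 from rfl, pow_succ, pow_mul, hx3, one_pow, one_mul]
      rw [hc12, hx12, inv_one, mul_one] at e12
      rw [hc22, hx22, one_mul, one_mul] at e22
      have hPx : P = zpowers x := (Subgroup.eq_of_le_of_card_ge (zpowers_le.2 hx) (by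
        rw [B.card_p, Nat.card_zpowers, orderOf_eq_prime hx3 hx1])).symm
      have hdn : d ∈ normalizer (P : Set G) := by
        rw [hPx]
        refine mem_normalizer_iff.2 fun g => ⟨?_, ?_⟩
        · rintro ⟨i, rfl⟩
          exact ⟨-i, by simp only [← conj_zpow, e22, inv_zpow']⟩
        · rintro ⟨i, hi⟩
          refine ⟨-i, ?_⟩
          have h : d * x ^ (-i) * d⁻¹ = x ^ i := by rw [← conj_zpow, e22, inv_zpow', neg_neg]
          exact mul_left_cancel (mul_right_cancel (h.trans hi))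
      have hcomm : img B d * img B c = img B c * img B d := by
        rw [← img_mul B hd hc.1, ← img_mul B hc.1 hd, mul_inv_eq_iff_eq_mul.1 e12]
      rw [hci] at hcomm
      have hI : img B d ∈ InnM := by
        have h' : img B d ∈ zpowers φ11 := Eleven.aut_cent_eleven hφ11 ▸ mem_centralizer_singleton_iff.2 hcomm
        exact (zpowers_le.2 (mem_inn_of_odd (φ := φ11) (by rw [hφ11]; decide))) h'
      obtain ⟨g, hg, hgi⟩ := B.exists_C F hI
      have hk : B.proj ⟨g⁻¹ * d, mul_mem (inv_mem hg.1) hd⟩ = 1 := by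
        rw [← img_eq B, img_mul B (inv_mem hg.1) hd, img_inv B hg.1, img_eq B hg.1, hgi, inv_mul_cancel]
      have hdC : d ∈ CP z P := by
        simpa using mul_mem hg (B.mem_C_of_ker _ (mul_mem (inv_mem (B.C_le_norm hg)) hdn) hk)
      rw [B.comm_p hdC hx, mul_inv_cancel_right] at e22
      have : x * x = 1 := eq_inv_iff_mul_eq_one.1 e22
      exact hx1 (by
        have h2 : x ^ 3 = 1 := hx3
        rwa [pow_succ, pow_two, this, one_mul] at h2)
    have hp1 : p ≠ 1 := fun e => by rw [e, orderOf_one] at hpo; omega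
    have hne01 : ∀ {u w : AutM}, u = 1 → IsConj u w → w = 1 := fun hu h => by
      obtain ⟨g, rfl⟩ := isConj_iff.1 h
      rw [hu, mul_one, mul_inv_cancel]
    by_contra hne
    fin_cases i <;> fin_cases j <;> first | exact hne rfl | skip
    all_goals first
      | exact absurd ho (by decide)
      | exact hy1 (hne01 rfl hcf)
      | exact hy1 (hne01 rfl hcf.symm)
      | exact hαβ (hcf : IsConj α β)
      | exact hαβ (hcf : IsConj β α).symm
      | exact h11 d hd p hp hp1 (hde' : d * (c * p) * d⁻¹ = c * p⁻¹)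
      | exact h11 d⁻¹ (inv_mem hd) p hp hp1
          (by rw [← (show d * (c * p⁻¹) * d⁻¹ = c * p from hde')]; group)

end CfsgLib.J4Type.Classes
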