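import Cfsg.Agent.Lib.J4Type.Classes.OddCentData
import Cfsg.Agent.Lib.Mathieu.OddElts

/-!
Checks of the permutations used to count the classes of elements of odd order in the stabiliser of
the first two points.
-/

set_option autoImplicit false
set_option maxRecDepth 100000

namespace CfsgLib.J4Type.Classes.OddT

open Cfsg CfsgLib.Golay CfsgLib.Mathieu

theorem mem_ok :
    [e5, e11, e7, n5, n7, g11, a3, z7].all (inFix [3]) = true ∧ els.all (inFix [3]) = true ∧
      wit.all (inFix [3]) = true := by decide +kernel

theorem cw_ok : inM24 cw = true ∧ Nat.beq (img cw 0) 0 = true ∧ Nat.beq (img cw 23) 1 = true := by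
  decide +kernel

theorem swap_ok : Nat.beq (img z7 0) 1 = true ∧ Nat.beq (img z7 1) 0 = true := by decide +kernel

theorem conj_ok :
    sameW [cw, qFiveP] [e5, cw] = true ∧ sameW [cw, qElevenP] [e11, cw] = true ∧
      sameW [cw, qSevenP] [e7, cw] = true ∧ sameW [z7, e7] [e7, z7] = true := by decide +kernel

theorem fuse_ok :
    sameW [n5, e5] [e5, e5, n5] = true ∧ sameW [g11, e11] [e11, e11, g11] = true ∧
      sameW [n7, e7] [e7, e7, n7] = true := by decide +kernel

theorem a3_ok : sameW [a3, a3, a3] [] = true ∧ sameW [a3] [] = false := by decide +kernel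

theorem els_ok :
    els.length = 9 ∧ wit.length = 9 ∧ sameW [els.getD 0 0] [] = true ∧
    ((List.range 9).all fun i => (List.range 9).all fun j =>
      (List.range 9).any fun k => sameW [els.getD i 0, els.getD j 0] [els.getD k 0]) = true ∧
    ((List.range 9).all fun i => (List.range 9).all fun j =>
      Nat.beq i j || !sameW [els.getD i 0] [els.getD j 0]) = true ∧
    ((List.range 9).all fun k => Nat.beq k 0 ||
      sameW [wit.getD k 0, a3] [els.getD k 0, wit.getD k 0]) = true := by
  decide +kernel

end CfsgLib.J4Type.Classes.OddT
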