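import Cfsg.Agent.Lib.Golay.Chain

/-!
Permutations of the stabiliser of the first two points in `M24` used to count its classes of
elements of odd order.
-/

set_option autoImplicit false

namespace CfsgLib.J4Type.Classes.OddT

/-- An element taking the points 0, 23 to 0, 1. -/
def cw : ℕ := 52067980020028167782202659412021472

/-- An element of order five. -/
def e5 : ℕ := 196839144011818809343016187959026720

/-- An element of order eleven. -/
def e11 : ℕ := 358820475340043579878726425732912160

/-- An element of order seven. -/
def e7 : ℕ := 516812380891359800314080516906330144

/-- An element squaring `e5`. -/
def n5 : ℕ := 930253636665381739261793770875720736

/-- An element squaring `e7`. -/
def n7 : ℕ := 276678145533595387616013841684673568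

/-- An element squaring `e11`, exchanging the two points. -/
def g11 : ℕ := 219884774412528931326516300122184705

/-- An element of order three. -/
def a3 : ℕ := 100697785542360547064171498448764960

/-- An element commuting with `e7`, exchanging the two points. -/
def z7 : ℕ := 674212115078360348003864698441912321

/-- The elements of a Sylow 3-subgroup. -/
def els : List ℕ := [
  984818244535754528103549039458486304,
  972757481321000588981900028080785440,
  961162523607087922347307327362238496,
  100697785542360547064171498448764960,
  88409266273398203838491974830473248,
  111945405753214071516463735415226400,
  670419032480675064318729798215425056,
  693992489275500273166198022796172320,
  681918199244639430421700394001030176]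

/-- Conjugators from `a3` to the elements of `els` after the first. -/
def wit : List ℕ := [
  984818244535754528103549039458486304,
  264015747510837092396329487561990176,
  264040833014733886845458424234480672,
  984818244535754528103549039458486304,
  570206320310690824950021372013533216,
  274028683545730799532425308100170753,
  169382782846224552593900219266544641,
  797598804245207975292951646568858656,
  670668864937326191359413457578526721]

end CfsgLib.J4Type.Classes.OddT
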