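import Cfsg.Agent.Lib.J4Type.Classes.OddCentChecks
import Cfsg.Agent.Lib.J4Type.Classes.Counting
import Cfsg.Agent.Lib.J4Type.Order.TPerm

/-!
The stabiliser of the first two points in `M24` has six classes of elements of odd order.
-/

set_option autoImplicit false
set_option maxRecDepth 100000

namespace CfsgLib.J4Type.Classes.OddT

open Cfsg Subgroup CfsgLib.Golay CfsgLib.Mathieu
open CfsgLib.J4Type.Order (card_pairStab)

theorem fix_of_all {l : List ℕ} (h : l.all (inFix [3]) = true) {g : ℕ} (hg : g ∈ l) :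
    valid g = true ∧ permOf g ∈ fixMasks [3] :=
  ⟨inFix_valid (List.all_eq_true.1 h g hg), inFix_mem (List.all_eq_true.1 h g hg)⟩

theorem gen_ok {g : ℕ} (hg : g ∈ [e5, e11, e7, n5, n7, g11, a3, z7]) :
    valid g = true ∧ permOf g ∈ fixMasks [3] :=
  fix_of_all mem_ok.1 hg

/-- The element of the stabiliser with a given code. -/
noncomputable def elt (g : ℕ) (hg : g ∈ [e5, e11, e7, n5, n7, g11, a3, z7]) : ↥(fixMasks [3]) :=
  ⟨permOf g, (gen_ok hg).2⟩

theorem cw_perm : permOf cw ∈ M24 ∧ permOf cw (pt 0) = pt 0 ∧ permOf cw (pt 23) = pt 1 := by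
  refine ⟨inM24_mem cw_ok.1, ?_, ?_⟩
  · rw [permOf_pt (inM24_valid cw_ok.1) (by norm_num), Nat.eq_of_beq_eq_true cw_ok.2.1]
  · rw [permOf_pt (inM24_valid cw_ok.1) (by norm_num), Nat.eq_of_beq_eq_true cw_ok.2.2]

theorem pair_cases {σ : Equiv.Perm GolayPt} (hσ : σ ∈ fixMasks [3]) :
    σ (pt 0) = pt 0 ∧ σ (pt 1) = pt 1 ∨ σ (pt 0) = pt 1 ∧ σ (pt 1) = pt 0 := by
  have h3 : mset 3 = {pt 0, pt 1} := by decide +kernel
  have hne : pt 0 ≠ pt 1 := by decide +kernel
  have h := hσ.2 3 (by simp)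
  rw [h3, Finset.smul_finset_insert, Finset.smul_finset_singleton, Equiv.Perm.smul_def,
    Equiv.Perm.smul_def] at h
  have a : σ (pt 0) ∈ ({pt 0, pt 1} : Finset GolayPt) := h ▸ Finset.mem_insert_self _ _
  have b : σ (pt 1) ∈ ({pt 0, pt 1} : Finset GolayPt) :=
    h ▸ Finset.mem_insert_of_mem (Finset.mem_singleton_self _)
  simp only [Finset.mem_insert, Finset.mem_singleton] at a b
  rcases a with a | a <;> rcases b with b | b
  · exact absurd (σ.injective (a.trans b.symm)) hne
  · exact .inl ⟨a, b⟩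
  · exact .inr ⟨a, b⟩
  · exact absurd (σ.injective (a.trans b.symm)) hne

/-- An element of odd order fixes both points. -/
theorem fix_of_odd {σ : Equiv.Perm GolayPt} (hσ : σ ∈ fixMasks [3]) (ho : Odd (orderOf σ)) :
    σ (pt 0) = pt 0 ∧ σ (pt 1) = pt 1 := by
  rcases pair_cases hσ with h | ⟨a, b⟩
  · exact h
  exfalso
  obtain ⟨j, hj⟩ := ho
  have e2 : ∀ i : ℕ, (σ ^ (2 * i)) (pt 0) = pt 0 := fun i => by
    induction i with
    | zero => rfl
    | succ i ih =>
      rw [show 2 * (i + 1) = 2 * i + 1 + 1 by ring, pow_succ', pow_succ', Equiv.Perm.mul_apply,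
        Equiv.Perm.mul_apply, ih, a, b]
  have e : (σ ^ (2 * j + 1)) (pt 0) = pt 1 := by rw [pow_succ', Equiv.Perm.mul_apply, e2, a]
  rw [← hj, pow_orderOf_eq_one, Equiv.Perm.one_apply] at e
  exact absurd e (by decide +kernel)

/-- Conjugation into the standard stabiliser of two points. -/
theorem to22 {σ : Equiv.Perm GolayPt} (hσ : σ ∈ fixMasks [3]) (h0 : σ (pt 0) = pt 0)
    (h1 : σ (pt 1) = pt 1) : (permOf cw)⁻¹ * σ * permOf cw ∈ fixMasks X22 := by
  obtain ⟨hc, c0, c1⟩ := cw_perm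
  have hinv : ∀ {p q : GolayPt}, permOf cw p = q → (permOf cw)⁻¹ q = p := fun {p q} h => by
    rw [← h, Equiv.Perm.inv_def, Equiv.symm_apply_apply]
  have hm : (permOf cw)⁻¹ * σ * permOf cw ∈ fixMasks [] := by
    rw [fixMasks_nil]
    exact mul_mem (mul_mem (inv_mem hc) hσ.1) hc
  rw [show X22 = Nat.shiftLeft 1 0 :: [Nat.shiftLeft 1 23] from rfl,
    mem_fixMasks_cons (by norm_num), mem_fixMasks_cons (by norm_num)]
  refine ⟨⟨hm, ?_⟩, ?_⟩
  · rw [Equiv.Perm.mul_apply, Equiv.Perm.mul_apply, c1, h1, hinv c1]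
  · rw [Equiv.Perm.mul_apply, Equiv.Perm.mul_apply, c0, h0, hinv c0]

theorem conj_of_sameW {g x : ℕ} (hg : valid g = true) (hx : valid x = true)
    (h : sameW [cw, x] [g, cw] = true) :
    permOf g = permOf cw * permOf x * (permOf cw)⁻¹ := by
  have hc := inM24_valid cw_ok.1
  have e := (sameW_iff (by simp [hc, hx]) (by simp [hg, hc])).1 h
  simp only [List.map_cons, List.map_nil, List.prod_cons, List.prod_nil, mul_one] at e
  rw [e, mul_inv_cancel_right]

theorem orderOf_conj' {A : Type*} [Group A] (c x : A) : orderOf (c * x * c⁻¹) = orderOf x := by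
  simpa using (MulAut.conj c).orderOf_eq x

theorem order_of_elt {g x p c r : ℕ} (hx : OddElt (fixMasks X22) p c r (permOf x))
    (hvx : valid x = true) (hg : g ∈ [e5, e11, e7, n5, n7, g11, a3, z7])
    (h : sameW [cw, x] [g, cw] = true) : orderOf (elt g hg) = p := by
  rw [← Subgroup.orderOf_coe]
  show orderOf (permOf g) = p
  rw [conj_of_sameW (gen_ok hg).1 hvx h, orderOf_conj', hx.order]

/-- An element of odd order commuting with one of order `p` has order at most `p`. -/
theorem cent_small {g x p r : ℕ} (hx : OddElt (fixMasks X22) p p r (permOf x))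
    (hvx : valid x = true) (hg : g ∈ [e5, e11, e7, n5, n7, g11, a3, z7])
    (h : sameW [cw, x] [g, cw] = true) {σ : ↥(fixMasks [3])} (ho : Odd (orderOf σ))
    (hc : σ * elt g hg = elt g hg * σ) : orderOf σ ≤ p := by
  have hc' : (σ : Equiv.Perm GolayPt) * permOf g = permOf g * σ := congrArg Subtype.val hc
  rw [← Subgroup.orderOf_coe] at ho ⊢
  obtain ⟨h0, h1⟩ := fix_of_odd σ.2 ho
  set τ := (permOf cw)⁻¹ * (σ : Equiv.Perm GolayPt) * permOf cw with hτ
  have hm : τ ∈ fixMasks X22 := to22 σ.2 h0 h1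
  have hτc : τ * permOf x = permOf x * τ := by
    have e := conj_of_sameW (gen_ok hg).1 hvx h
    rw [hτ, show permOf x = (permOf cw)⁻¹ * permOf g * permOf cw by rw [e]; group]
    calc (permOf cw)⁻¹ * (σ : Equiv.Perm GolayPt) * permOf cw *
          ((permOf cw)⁻¹ * permOf g * permOf cw)
        = (permOf cw)⁻¹ * ((σ : Equiv.Perm GolayPt) * permOf g) * permOf cw := by group
      _ = _ := by rw [hc']; group
  have hord : orderOf τ = orderOf (σ : Equiv.Perm GolayPt) := by
    rw [hτ]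
    simpa using orderOf_conj' (permOf cw)⁻¹ (σ : Equiv.Perm GolayPt)
  rw [← hord, ← Nat.card_zpowers]
  refine le_trans ?_ hx.card.le
  refine Nat.card_le_card_of_injective (fun t : ↥(zpowers τ) =>
    (⟨(t : Equiv.Perm GolayPt), ?_, ?_⟩ :
      {s : Equiv.Perm GolayPt // s ∈ fixMasks X22 ∧ s * permOf x = permOf x * s})) ?_
  · exact (zpowers_le.2 hm) t.2
  · obtain ⟨k, hk⟩ := mem_zpowers_iff.1 t.2
    rw [← hk]
    exact ((show Commute τ (permOf x) from hτc).zpow_left k).eq
  · exact fun a b e => Subtype.ext (congrArg (fun s :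
      {s : Equiv.Perm GolayPt // s ∈ fixMasks X22 ∧ s * permOf x = permOf x * s} => s.1) e)

theorem fac_prime {p m : ℕ} (hp : p.Prime) {a : ℕ} (hm : 887040 = p ^ a * m) (hpm : ¬ p ∣ m) :
    (Nat.card ↥(fixMasks [3])).factorization p = a := by
  have hm0 : m ≠ 0 := fun e => hpm (e ▸ dvd_zero p)
  rw [card_pairStab, hm, Nat.factorization_mul (pow_ne_zero _ hp.ne_zero) hm0, Finsupp.add_apply,
    Nat.Prime.factorization_pow hp, Finsupp.single_eq_same,
    Nat.factorization_eq_zero_of_not_dvd hpm, add_zero]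

/-- An element of prime order `p` is conjugate to a power of a given one, when `p` occurs once. -/
theorem exists_pow_conj {p m : ℕ} [Fact p.Prime] (hm : 887040 = p ^ 1 * m) (hpm : ¬ p ∣ m)
    {u g : ↥(fixMasks [3])} (hu : orderOf u = p) (hg : orderOf g = p) :
    ∃ d : ↥(fixMasks [3]), ∃ k, k < p ∧ k ≠ 0 ∧ d * g * d⁻¹ = u ^ k := by
  let U : Sylow p ↥(fixMasks [3]) := Sylow.ofCard (zpowers u) (by
    rw [Nat.card_zpowers, hu, fac_prime Fact.out hm hpm, pow_one])
  obtain ⟨d, hd⟩ := exists_conj_mem_sylow U (isPGroup_zpowers (k := 1) (by rw [hg, pow_one]))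
  obtain ⟨k, hk⟩ := (mem_powers_iff_mem_zpowers (x := u)).2 (show d * g * d⁻¹ ∈ zpowers u from hd)
  change u ^ k = _ at hk
  refine ⟨d, k % p, Nat.mod_lt _ (Nat.Prime.pos Fact.out), fun e => ?_, ?_⟩
  · have e1 : d * g * d⁻¹ = 1 := by rw [← hk, ← pow_mod_orderOf, hu, e, pow_zero]
    rw [conj_eq_one_iff] at e1
    rw [e1, orderOf_one] at hg
    exact Nat.Prime.ne_one Fact.out hg.symm
  · rw [← hk, ← hu, pow_mod_orderOf]

/-- A fusing element joins an element to its iterated powers. -/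
theorem isConj_pow_pow {A : Type*} [Group A] {u n : A} {r : ℕ} (h : n * u * n⁻¹ = u ^ r) :
    ∀ i : ℕ, IsConj u (u ^ r ^ i)
  | 0 => by rw [pow_zero, pow_one]
  | i + 1 => by
    refine (isConj_pow_pow h i).trans (isConj_iff.2 ⟨n, ?_⟩)
    rw [← conj_pow, h, ← pow_mul, pow_succ']

theorem fuse_of_sameW {g n : ℕ} (hg : g ∈ [e5, e11, e7, n5, n7, g11, a3, z7])
    (hn : n ∈ [e5, e11, e7, n5, n7, g11, a3, z7]) (h : sameW [n, g] [g, g, n] = true) :
    elt n hn * elt g hg * (elt n hn)⁻¹ = elt g hg ^ 2 := by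
  have e := (sameW_iff (by simp [(gen_ok hg).1, (gen_ok hn).1])
    (by simp [(gen_ok hg).1, (gen_ok hn).1])).1 h
  simp only [List.map_cons, List.map_nil, List.prod_cons, List.prod_nil, mul_one] at e
  refine Subtype.ext ?_
  show permOf n * permOf g * (permOf n)⁻¹ = permOf g ^ 2
  rw [e, pow_two, mul_assoc, mul_assoc, mul_inv_cancel, mul_one]

theorem valids : valid qFiveP = true ∧ valid qElevenP = true ∧ valid qSevenP = true := by
  decide +kernel

theorem g5_mem : e5 ∈ [e5, e11, e7, n5, n7, g11, a3, z7] := by simp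
theorem g11_mem : e11 ∈ [e5, e11, e7, n5, n7, g11, a3, z7] := by simp
theorem g7_mem : e7 ∈ [e5, e11, e7, n5, n7, g11, a3, z7] := by simp
theorem g3_mem : a3 ∈ [e5, e11, e7, n5, n7, g11, a3, z7] := by simp

/-- The element of order five. -/
noncomputable def u5 : ↥(fixMasks [3]) := elt e5 g5_mem
/-- The element of order seven. -/
noncomputable def u7 : ↥(fixMasks [3]) := elt e7 g7_mem
/-- The element of order eleven. -/
noncomputable def u11 : ↥(fixMasks [3]) := elt e11 g11_mem
/-- The element of order three. -/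
noncomputable def u3 : ↥(fixMasks [3]) := elt a3 g3_mem

theorem u5_order : orderOf u5 = 5 := order_of_elt elt22_five valids.1 g5_mem conj_ok.1
theorem u11_order : orderOf u11 = 11 := order_of_elt elt22_eleven valids.2.1 g11_mem conj_ok.2.1
theorem u7_order : orderOf u7 = 7 := order_of_elt elt22_seven valids.2.2 g7_mem conj_ok.2.2.1

theorem u3_order : orderOf u3 = 3 := by
  have hv := (gen_ok g3_mem).1
  haveI : Fact (Nat.Prime 3) := ⟨Nat.prime_three⟩
  rw [← Subgroup.orderOf_coe]
  refine orderOf_eq_prime ?_ ?_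
  · have e := (sameW_iff (by simp [hv]) (by simp)).1 a3_ok.1
    simpa [u3, elt, pow_succ, mul_assoc] using e
  · intro e
    have := (sameW_iff (u := [a3]) (v := []) (by simp [hv]) (by simp)).2
      (by simpa [u3, elt] using e)
    rw [a3_ok.2] at this
    exact Bool.noConfusion this

theorem five_class : ncls (fun g : ↥(fixMasks [3]) => orderOf g = 5) = 1 := by
  haveI : Fact (Nat.Prime 5) := ⟨by norm_num⟩
  refine ncls_eq_one u5_order fun g hg => ?_
  obtain ⟨d, k, hk, hk0, e⟩ := exists_pow_conj (m := 177408) (by norm_num) (by norm_num) u5_order hg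
  have hp : ∀ k < 5, k ≠ 0 → ∃ i < 4, 2 ^ i % 5 = k := by decide
  obtain ⟨i, -, hi⟩ := hp k hk hk0
  have h := isConj_pow_pow (fuse_of_sameW g5_mem (n := n5) (by simp) fuse_ok.1) i
  rw [← pow_mod_orderOf, show orderOf (elt e5 g5_mem) = 5 from u5_order, hi] at h
  exact (isConj_iff.2 ⟨d, e⟩).trans h.symm

theorem eleven_class : ncls (fun g : ↥(fixMasks [3]) => orderOf g = 11) = 1 := by
  haveI : Fact (Nat.Prime 11) := ⟨by norm_num⟩
  refine ncls_eq_one u11_order fun g hg => ?_
  obtain ⟨d, k, hk, hk0, e⟩ := exists_pow_conj (m := 80640) (by norm_num) (by norm_num) u11_order hg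
  have hp : ∀ k < 11, k ≠ 0 → ∃ i < 10, 2 ^ i % 11 = k := by decide
  obtain ⟨i, -, hi⟩ := hp k hk hk0
  have h := isConj_pow_pow (fuse_of_sameW g11_mem (n := g11) (by simp) fuse_ok.2.1) i
  rw [← pow_mod_orderOf, show orderOf (elt e11 g11_mem) = 11 from u11_order, hi] at h
  exact (isConj_iff.2 ⟨d, e⟩).trans h.symm

/-- No element inverts the one of order seven. -/
theorem seven_not_inv : ¬ IsConj u7 u7⁻¹ := by
  intro h
  obtain ⟨d, hd⟩ := isConj_iff.1 h
  have hd' : (d : Equiv.Perm GolayPt) * permOf e7 * (d : Equiv.Perm GolayPt)⁻¹ = (permOf e7)⁻¹ :=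
    congrArg Subtype.val hd
  have hz := gen_ok (g := z7) (by simp)
  have hzc : permOf z7 * permOf e7 = permOf e7 * permOf z7 := by
    have e := (sameW_iff (by simp [hz.1, (gen_ok g7_mem).1])
      (by simp [hz.1, (gen_ok g7_mem).1])).1 conj_ok.2.2.2
    simpa using e
  have hz0 : permOf z7 (pt 0) = pt 1 := by
    rw [permOf_pt hz.1 (by norm_num), Nat.eq_of_beq_eq_true swap_ok.1]
  have hz1 : permOf z7 (pt 1) = pt 0 := by
    rw [permOf_pt hz.1 (by norm_num), Nat.eq_of_beq_eq_true swap_ok.2]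
  obtain ⟨s, hs, h0, h1, hsi⟩ : ∃ s : Equiv.Perm GolayPt, s ∈ fixMasks [3] ∧ s (pt 0) = pt 0 ∧
      s (pt 1) = pt 1 ∧ s * permOf e7 * s⁻¹ = (permOf e7)⁻¹ := by
    rcases pair_cases d.2 with ⟨a, b⟩ | ⟨a, b⟩
    · exact ⟨d, d.2, a, b, hd'⟩
    · refine ⟨(d : Equiv.Perm GolayPt) * permOf z7, mul_mem d.2 hz.2, ?_, ?_, ?_⟩
      · rw [Equiv.Perm.mul_apply, hz0, b]
      · rw [Equiv.Perm.mul_apply, hz1, a]
      · calc (d : Equiv.Perm GolayPt) * permOf z7 * permOf e7 *
              ((d : Equiv.Perm GolayPt) * permOf z7)⁻¹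
            = (d : Equiv.Perm GolayPt) * (permOf z7 * permOf e7) * (permOf z7)⁻¹ *
              (d : Equiv.Perm GolayPt)⁻¹ := by group
          _ = (d : Equiv.Perm GolayPt) * permOf e7 * (d : Equiv.Perm GolayPt)⁻¹ := by
              rw [hzc]; group
          _ = _ := hd'
  refine noinv22_seven _ (to22 hs h0 h1) ?_
  have e := conj_of_sameW (gen_ok g7_mem).1 valids.2.2 conj_ok.2.2.1
  calc (permOf cw)⁻¹ * s * permOf cw * permOf qSevenP * ((permOf cw)⁻¹ * s * permOf cw)⁻¹
      = (permOf cw)⁻¹ * (s * (permOf cw * permOf qSevenP * (permOf cw)⁻¹) * s⁻¹) * permOf cw := by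
        group
    _ = (permOf qSevenP)⁻¹ := by rw [← e, hsi, e]; group

theorem seven_class : ncls (fun g : ↥(fixMasks [3]) => orderOf g = 7) = 2 := by
  haveI : Fact (Nat.Prime 7) := ⟨by norm_num⟩
  rw [ncls, show ConjClasses.mk '' {g : ↥(fixMasks [3]) | orderOf g = 7} =
      {ConjClasses.mk u7, ConjClasses.mk u7⁻¹} from ?_,
    Set.ncard_pair fun h => seven_not_inv (ConjClasses.mk_eq_mk_iff_isConj.1 h)]
  ext c
  constructor
  · rintro ⟨g, hg, rfl⟩
    obtain ⟨d, k, hk, hk0, e⟩ :=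
      exists_pow_conj (m := 126720) (by norm_num) (by norm_num) u7_order hg
    have hp : ∀ k < 7, k ≠ 0 → ∃ i < 3, 2 ^ i % 7 = k ∨ 2 ^ i * 6 % 7 = k := by decide
    obtain ⟨i, -, hi⟩ := hp k hk hk0
    have hf := fuse_of_sameW g7_mem (n := n7) (by simp) fuse_ok.2.2
    have hg' : IsConj g (u7 ^ k) := isConj_iff.2 ⟨d, e⟩
    rcases hi with hi | hi
    · refine Or.inl (ConjClasses.mk_eq_mk_iff_isConj.2 (hg'.trans ?_))
      have h := isConj_pow_pow hf i
      rw [← pow_mod_orderOf, show orderOf (elt e7 g7_mem) = 7 from u7_order, hi] at h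
      exact h.symm
    · refine Or.inr (ConjClasses.mk_eq_mk_iff_isConj.2 (hg'.trans ?_))
      have h6 : u7⁻¹ = u7 ^ 6 := by
        refine inv_eq_of_mul_eq_one_right ?_
        rw [← pow_succ']
        have h7 := pow_orderOf_eq_one u7
        rwa [u7_order] at h7
      have hf' : elt n7 (by simp) * u7 ^ 6 * (elt n7 (by simp))⁻¹ = (u7 ^ 6) ^ 2 := by
        rw [← conj_pow, show elt n7 (by simp) * u7 * (elt n7 (by simp))⁻¹ = u7 ^ 2 from hf,
          ← pow_mul, ← pow_mul]
      have h := isConj_pow_pow hf' i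
      have e2 : u7 ^ (6 * 2 ^ i) = u7 ^ k := by rw [← pow_mod_orderOf, u7_order, mul_comm, hi]
      rw [← pow_mul, e2] at h
      rw [h6]
      exact h.symm
  · rintro (rfl | rfl)
    · exact ⟨u7, u7_order, rfl⟩
    · exact ⟨u7⁻¹, by rw [Set.mem_ofPred_eq, orderOf_inv, u7_order], rfl⟩

theorem els_valid {k : ℕ} (hk : k < 9) :
    valid (els.getD k 0) = true ∧ permOf (els.getD k 0) ∈ fixMasks [3] := by
  have hk' : k < els.length := els_ok.1.symm ▸ hk
  rw [List.getD_eq_getElem _ _ hk']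
  exact fix_of_all mem_ok.2.1 (List.getElem_mem hk')

theorem wit_valid {k : ℕ} (hk : k < 9) :
    valid (wit.getD k 0) = true ∧ permOf (wit.getD k 0) ∈ fixMasks [3] := by
  have hk' : k < wit.length := els_ok.2.1.symm ▸ hk
  rw [List.getD_eq_getElem _ _ hk']
  exact fix_of_all mem_ok.2.2 (List.getElem_mem hk')

/-- The listed elements of three-power order. -/
noncomputable def E3 (k : Fin 9) : ↥(fixMasks [3]) := ⟨permOf (els.getD k 0), (els_valid k.2).2⟩

theorem E3_zero : E3 0 = 1 := by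
  refine Subtype.ext ?_
  have hv := (els_valid (k := 0) (by norm_num)).1
  have e := (sameW_iff (u := [els.getD 0 0]) (v := []) (by simpa using hv) (by simp)).1 els_ok.2.2.1
  simpa [E3] using e

theorem E3_mul (i j : Fin 9) : ∃ k, E3 i * E3 j = E3 k := by
  have h := List.all_eq_true.1 (List.all_eq_true.1 els_ok.2.2.2.1 i (List.mem_range.2 i.2)) j
    (List.mem_range.2 j.2)
  obtain ⟨k, hk, hs⟩ := List.any_eq_true.1 h
  refine ⟨⟨k, List.mem_range.1 hk⟩, Subtype.ext ?_⟩
  have e := (sameW_iff (u := [els.getD i 0, els.getD j 0]) (v := [els.getD k 0])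
    (by simp only [List.forall_mem_cons]
        exact ⟨(els_valid i.2).1, (els_valid j.2).1, by simp⟩)
    (by simpa using (els_valid (List.mem_range.1 hk)).1)).1 hs
  simpa [E3] using e

theorem E3_inj : Function.Injective E3 := by
  intro i j h
  have hb := List.all_eq_true.1 (List.all_eq_true.1 els_ok.2.2.2.2.1 i (List.mem_range.2 i.2)) j
    (List.mem_range.2 j.2)
  simp only [Bool.or_eq_true, Bool.not_eq_true'] at hb
  rcases hb with hb | hb
  · exact Fin.ext (Nat.eq_of_beq_eq_true hb)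
  · exfalso
    have := (sameW_iff (u := [els.getD i 0]) (v := [els.getD j 0])
      (by simpa using (els_valid i.2).1) (by simpa using (els_valid j.2).1)).2
      (by simpa [E3] using congrArg Subtype.val h)
    rw [hb] at this
    exact Bool.noConfusion this

theorem E3_conj (k : Fin 9) (hk : (k : ℕ) ≠ 0) : IsConj (E3 k) u3 := by
  have h := List.all_eq_true.1 els_ok.2.2.2.2.2 k (List.mem_range.2 k.2)
  simp only [Bool.or_eq_true] at h
  rcases h with h | h
  · exact absurd (Nat.eq_of_beq_eq_true h) hk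
  · have hw := wit_valid k.2
    have e := (sameW_iff (u := [wit.getD k 0, a3]) (v := [els.getD k 0, wit.getD k 0])
      (by simp only [List.forall_mem_cons]; exact ⟨hw.1, (gen_ok g3_mem).1, by simp⟩)
      (by simp only [List.forall_mem_cons]; exact ⟨(els_valid k.2).1, hw.1, by simp⟩)).1 h
    simp only [List.map_cons, List.map_nil, List.prod_cons, List.prod_nil, mul_one] at e
    refine (isConj_iff.2 ⟨⟨_, hw.2⟩, Subtype.ext ?_⟩).symm
    show permOf (wit.getD k 0) * permOf a3 * (permOf (wit.getD k 0))⁻¹ = permOf (els.getD k 0)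
    rw [e, mul_inv_cancel_right]

/-- The Sylow subgroup for the prime three. -/
noncomputable def P3 : Subgroup ↥(fixMasks [3]) :=
  have hone : (1 : ↥(fixMasks [3])) ∈ Set.range E3 := ⟨0, E3_zero⟩
  have hmul : ∀ {a b : ↥(fixMasks [3])}, a ∈ Set.range E3 → b ∈ Set.range E3 →
      a * b ∈ Set.range E3 := by
    rintro _ _ ⟨i, rfl⟩ ⟨j, rfl⟩
    obtain ⟨k, e⟩ := E3_mul i j
    exact ⟨k, e.symm⟩
  { carrier := Set.range E3
    one_mem' := hone
    mul_mem' := hmul
    inv_mem' := fun {a} ha => by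
      have hpow : ∀ n : ℕ, a ^ n ∈ Set.range E3 := fun n => by
        induction n with
        | zero => rw [pow_zero]; exact hone
        | succ n ih => rw [pow_succ]; exact hmul ih ha
      obtain ⟨n, hn⟩ := (mem_powers_iff_mem_zpowers (x := a) (y := a⁻¹)).2
        (inv_mem (mem_zpowers a))
      rw [← hn]
      exact hpow n }

theorem card_P3 : Nat.card P3 = 3 ^ 2 := by
  show Nat.card (Set.range E3) = 3 ^ 2
  rw [Nat.card_range_of_injective E3_inj, Nat.card_fin]
  norm_num

theorem three_power {g : ↥(fixMasks [3])} (hg : IsPGroup 3 (zpowers g)) :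
    g = 1 ∨ IsConj g u3 := by
  haveI : Fact (Nat.Prime 3) := ⟨Nat.prime_three⟩
  obtain ⟨d, hd⟩ := exists_conj_mem_sylow (Sylow.ofCard P3 (by
    rw [card_P3, fac_prime Nat.prime_three (m := 98560) (a := 2) (by norm_num) (by norm_num)])) hg
  obtain ⟨k, hk⟩ := (show d * g * d⁻¹ ∈ Set.range E3 from hd)
  by_cases h0 : (k : ℕ) = 0
  · left
    rw [show k = 0 from Fin.ext h0, E3_zero] at hk
    exact conj_eq_one_iff.1 hk.symm
  · exact .inr ((isConj_iff.2 ⟨d, hk.symm⟩).trans (E3_conj k h0))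

theorem three_class : ncls (fun g : ↥(fixMasks [3]) => orderOf g = 3) = 1 := by
  refine ncls_eq_one u3_order fun g hg => ?_
  rcases three_power (isPGroup_zpowers (p := 3) (k := 1) (by rw [hg, pow_one])) with h | h
  · rw [h, orderOf_one] at hg; norm_num at hg
  · exact h

theorem large_prime {x e p r m : ℕ} [Fact p.Prime] (hx : OddElt (fixMasks X22) p p r (permOf x))
    (hvx : valid x = true) (he : e ∈ [e5, e11, e7, n5, n7, g11, a3, z7])
    (h : sameW [cw, x] [e, cw] = true) (hm : 887040 = p ^ 1 * m) (hpm : ¬ p ∣ m)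
    {g : ↥(fixMasks [3])} (ho : Odd (orderOf g)) (hd : p ∣ orderOf g) : orderOf g = p := by
  have hp : p.Prime := Fact.out
  obtain ⟨q, hq⟩ := hd
  have hn : 0 < orderOf g := orderOf_pos g
  have hq0 : q ≠ 0 := fun e => by rw [e, mul_zero] at hq; omega
  have hh : orderOf (g ^ q) = p := by
    rw [orderOf_pow' g hq0, hq, Nat.gcd_mul_left_left, Nat.mul_div_cancel _ (Nat.pos_of_ne_zero hq0)]
  have hu : orderOf (elt e he) = p := order_of_elt hx hvx he h
  obtain ⟨d, k, hk, hk0, ek⟩ := exists_pow_conj hm hpm hu hh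
  have hcp : Commute (d * g * d⁻¹) (elt e he ^ k) := by
    rw [← ek, ← conj_pow]
    exact Commute.self_pow _ _
  have hk' : Nat.Coprime k (orderOf (elt e he)) := by
    rw [hu]
    exact ((Nat.Prime.coprime_iff_not_dvd hp).2 fun hd =>
      absurd (Nat.le_of_dvd (Nat.pos_of_ne_zero hk0) hd) (by omega)).symm
  obtain ⟨l, hl⟩ := exists_pow_eq_self_of_coprime hk'
  have hc : (d * g * d⁻¹) * elt e he = elt e he * (d * g * d⁻¹) := by
    have := hcp.pow_right l
    rw [hl] at this
    exact this.eq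
  have hle := cent_small hx hvx he h (σ := d * g * d⁻¹) (by rw [orderOf_conj']; exact ho) hc
  rw [orderOf_conj', hq] at hle
  have : q = 1 := by
    have := Nat.le_of_mul_le_mul_left (show p * q ≤ p * 1 by rw [mul_one]; exact hle) hp.pos
    omega
  rw [hq, this, mul_one]

theorem odd_order_cases {g : ↥(fixMasks [3])} (ho : Odd (orderOf g)) :
    orderOf g ∈ [1, 3, 5, 7, 11] := by
  haveI : Fact (Nat.Prime 5) := ⟨by norm_num⟩
  haveI : Fact (Nat.Prime 7) := ⟨by norm_num⟩
  haveI : Fact (Nat.Prime 11) := ⟨by norm_num⟩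
  by_cases h5 : 5 ∣ orderOf g
  · simp [large_prime (m := 177408) elt22_five valids.1 g5_mem conj_ok.1 (by norm_num)
      (by norm_num) ho h5]
  by_cases h11 : 11 ∣ orderOf g
  · simp [large_prime (m := 80640) elt22_eleven valids.2.1 g11_mem conj_ok.2.1 (by norm_num)
      (by norm_num) ho h11]
  by_cases h7 : 7 ∣ orderOf g
  · simp [large_prime (m := 126720) elt22_seven valids.2.2 g7_mem conj_ok.2.2.1 (by norm_num)
      (by norm_num) ho h7]
  have hdvd : orderOf g ∣ 3 ^ 2 * (2 ^ 8 * 5 * 7 * 11) := by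
    rw [show 3 ^ 2 * (2 ^ 8 * 5 * 7 * 11) = 887040 by norm_num, ← card_pairStab]
    exact orderOf_dvd_natCard g
  have hcop : Nat.Coprime (orderOf g) (2 ^ 8 * 5 * 7 * 11) := by
    have hc : ∀ p : ℕ, p.Prime → ¬ p ∣ orderOf g → Nat.Coprime (orderOf g) p := fun p hp h =>
      ((Nat.Prime.coprime_iff_not_dvd hp).2 h).symm
    exact Nat.Coprime.mul_right (Nat.Coprime.mul_right (Nat.Coprime.mul_right
      (Nat.Coprime.pow_right 8 (hc 2 Nat.prime_two
        (Nat.not_even_iff_odd.2 ho ∘ even_iff_two_dvd.2)))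
      (hc 5 (by norm_num) h5)) (hc 7 (by norm_num) h7)) (hc 11 (by norm_num) h11)
  have h9 : orderOf g ∣ 3 ^ 2 := hcop.dvd_of_dvd_mul_right hdvd
  obtain ⟨i, -, hi⟩ := (Nat.dvd_prime_pow Nat.prime_three).1 h9
  rcases three_power (isPGroup_zpowers hi) with h | h
  · simp [h]
  · simp [orderOf_of_isConj h, u3_order]

theorem one_class : ncls (fun g : ↥(fixMasks [3]) => orderOf g = 1) = 1 :=
  ncls_eq_one (a := 1) orderOf_one fun g hg => by rw [orderOf_eq_one_iff.1 hg]

theorem ncls_orderOf_list {A : Type*} [Group A] [Finite A] : ∀ {L : List ℕ}, L.Nodup →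
    ncls (fun g : A => orderOf g ∈ L) = (L.map fun n => ncls fun g : A => orderOf g = n).sum
  | [], _ => ncls_eq_zero fun g => List.not_mem_nil
  | n :: L, h => by
    obtain ⟨hn, hL⟩ := List.nodup_cons.1 h
    rw [ncls_split _ (fun g : A => orderOf g = n) fun a b hab ha => (orderOf_of_isConj hab).symm.trans ha,
      List.map_cons, List.sum_cons, ← ncls_orderOf_list hL]
    congr 1
    · exact ncls_congr fun g => ⟨fun h => h.2, fun h => ⟨List.mem_cons.2 (.inl h), h⟩⟩
    · refine ncls_congr fun g => ⟨fun h => ((List.mem_cons.1 h.1).resolve_left h.2),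
        fun h => ⟨List.mem_cons.2 (.inr h), fun e => hn (e ▸ h)⟩⟩

/-- The six classes. -/
theorem odd_pairStab : ncls (fun g : ↥(fixMasks [3]) => OddOrd g) = 6 := by
  have h : ∀ g : ↥(fixMasks [3]), OddOrd g ↔ orderOf g ∈ [1, 3, 5, 7, 11] := by
    intro g
    refine ⟨odd_order_cases, fun h => ?_⟩
    show Odd (orderOf g)
    simp only [List.mem_cons, List.not_mem_nil, or_false] at h
    rcases h with e | e | e | e | e <;> rw [e] <;> decide
  rw [ncls_congr h, ncls_orderOf_list (by decide)]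
  simp only [List.map_cons, List.map_nil, List.sum_cons, List.sum_nil, one_class, three_class,
    five_class, seven_class, eleven_class, add_zero, Nat.reduceAdd]

end CfsgLib.J4Type.Classes.OddT
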