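import Cfsg.Agent.Lib.J4Type.Classes.OddQuot
import Cfsg.Agent.Lib.J4Type.Classes.OddCentPerm
import Cfsg.Agent.Lib.J4Type.Order.TSetup

/-!
The centraliser of an involution of pair type has six classes of elements of odd order.
-/

set_option autoImplicit false
set_option linter.unusedSectionVars false

namespace CfsgLib.J4Type.Classes

open Cfsg Subgroup CfsgLib.Golay
open CfsgLib.J4Type.Order

variable {G : Type*} [Group G] [Finite G] {z : G} {P : Subgroup G} {F : Frame z P} {D : VData F}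

theorem classesIn_eq_ncls (H : Subgroup G) (T : G → Prop) :
    classesIn H T = ncls (fun h : ↥H => T (h : G)) := by
  rw [ncls, ← Nat.card_coe_set_eq]
  exact Nat.card_congr (Equiv.subtypeEquivRight fun c =>
    ⟨fun ⟨h, e, hs⟩ => ⟨h, hs, e⟩, fun ⟨h, hs, e⟩ => ⟨h, e, hs⟩⟩)

/-- The six classes of elements of odd order. -/
theorem odd_ct (S : Order.TSetup D) [IsSimpleGroup G] :
    classesIn (centralizer ({Order.TSetup.t0 D} : Set G)) OddOrd = 6 := by
  let f : ↥(centralizer ({Order.TSetup.t0 D} : Set G)) →* ↥(fixMasks [3]) :=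
    MonoidHom.mk' (fun n => ⟨S.M.perm (n : G), (S.mem_cent.1 n.2).2⟩) fun a b =>
      Subtype.ext (S.M.perm_mul _ (S.mem_cent.1 a.2).1 _ (S.mem_cent.1 b.2).1)
  have hf : Function.Surjective f := by
    intro σ
    have hσ : (σ : Equiv.Perm GolayPt) ∈ M24 := fixMasks_le _ σ.2
    refine ⟨⟨S.kap (σ : Equiv.Perm GolayPt), S.mem_cent.2 ⟨S.kap_N hσ, ?_⟩⟩,
      Subtype.ext (S.kap_spec hσ).2⟩
    rw [(S.kap_spec hσ).2]
    exact σ.2
  have hK : ∀ a ∈ f.ker, a * a = 1 := by
    intro a ha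
    have h1 : S.M.perm (a : G) = 1 := congrArg Subtype.val (MonoidHom.mem_ker.1 ha)
    have hV : (a : G) ∈ D.V := (S.M.perm_eq_one _ (S.mem_cent.1 a.2).1).1 h1
    exact Subtype.ext (Frame.V_sq D hV)
  rw [classesIn_eq_ncls,
    ncls_congr (S := fun h : ↥(centralizer ({Order.TSetup.t0 D} : Set G)) => OddOrd (h : G))
      (T := fun h : ↥(centralizer ({Order.TSetup.t0 D} : Set G)) => OddOrd h) fun h =>
      iff_of_eq (congrArg Odd (Subgroup.orderOf_coe h)),
    ncls_odd_quot f hf hK, OddT.odd_pairStab]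

end CfsgLib.J4Type.Classes
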