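import Cfsg.Agent.Lib.J4Type.Classes.Defs
import Cfsg.Agent.Lib.J4Type.Eleven.Local.Final
import Cfsg.Agent.Lib.J4Type.Eleven.Local.FromType

/-!
The classes of elements of odd order divisible by eleven: the two classes of elements of order
eleven, and two classes of order thirty-three above the first of them.
-/

set_option autoImplicit false
set_option linter.style.haveILetI false
set_option linter.unusedSectionVars false

namespace CfsgLib.J4Type.Classes.OddEleven

open Cfsg Subgroup CfsgLib.J4Type.Eleven CfsgLib.J4Type.BigPrimes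

variable {G : Type*} [Group G] [Finite G] {z t : G} (D : Setup z t)

include D

/-- An element of order a power of eleven has a conjugate in `S`. -/
theorem exists_conj_mem_S {w : G} {n : ℕ} (hw : orderOf w = 11 ^ n) :
    ∃ c : G, c * w * c⁻¹ ∈ D.S := by
  haveI : Fact (Nat.Prime 11) := ⟨by norm_num⟩
  obtain ⟨T, hT⟩ := (IsPGroup.of_card (n := n) (show Nat.card (zpowers w) = 11 ^ n by
    rw [Nat.card_zpowers, hw])).exists_le_sylow
  have hS : Nat.card D.S = 11 ^ (Nat.card G).factorization 11 := by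
    rw [D.shape.card_S, D.env.facts.card,
      show bigOrder = 11 ^ 3 * 65195770883604480 by norm_num [bigOrder],
      Nat.factorization_mul (by norm_num) (by norm_num), Finsupp.add_apply,
      Nat.Prime.factorization_pow (by norm_num), Finsupp.single_eq_same,
      Nat.factorization_eq_zero_of_not_dvd (by norm_num)]
    norm_num
  obtain ⟨c, hc⟩ := MulAction.exists_smul_eq G T (Sylow.ofCard D.S hS)
  have h : (T : Subgroup G).map (MulAut.conj c).toMonoidHom = D.S :=
    congrArg (fun P : Sylow 11 G => (P : Subgroup G)) hc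
  exact ⟨c, h.le ⟨w, hT (mem_zpowers w), rfl⟩⟩

theorem not_conj_second {y u : G} (hyX : y ∈ centralizer ({u} : Set G)) (htu : IsConj t u) :
    ¬ IsConj D.pick.x y := by
  intro h
  obtain ⟨c, hc⟩ := isConj_iff.1 h
  rw [← hc] at hyX
  have hyu' : D.pick.x ∈ centralizer ({c⁻¹ * u * c} : Set G) :=
    mem_cent_symm.1 (mem_cent_conj.1 (mem_cent_symm.1 hyX))
  exact D.not_second (htu.trans (isConj_iff.2 ⟨c⁻¹, by rw [inv_inv]⟩)) (mem_zpowers _)
    (ne_one_of_orderOf D.pick.ord_x (by norm_num)) hyu'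

/-- An element of order eleven commuting with one of order three is conjugate to `x`. -/
theorem conj_x_of_three {s y : G} (hs : orderOf s = 3) (hy : orderOf y = 11)
    (hc : s * y = y * s) : IsConj D.pick.x y := by
  haveI : Fact (Nat.Prime 11) := ⟨by norm_num⟩
  obtain ⟨g, hg⟩ := D.env.three s y hs hy hc
  have hy' : g⁻¹ * y * g ∈ centralizer ({z} : Set G) := mem_cent_conj.1 hg
  have hy'o : orderOf (g⁻¹ * y * g) = 11 := by simpa using (orderOf_conj' g⁻¹ y).trans hy
  obtain ⟨h, -, he⟩ := exists_conj_zpowers (p := 11) (H := centralizer ({z} : Set G))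
    (by rw [D.env.card_cz]; norm_num [zOrder]) (by rw [D.env.card_cz]; norm_num [zOrder])
    D.pick.mem_x hy' D.pick.ord_x hy'o
  have hq : h * (g⁻¹ * y * g) * h⁻¹ ∈ D.X := he.le (mem_zpowers _)
  obtain ⟨n, -, hn⟩ := D.X_conj hq
    (ne_one_of_orderOf ((orderOf_conj' _ _).trans hy'o) (by norm_num))
  refine isConj_iff.2 ⟨g * h⁻¹ * n, ?_⟩
  calc g * h⁻¹ * n * D.pick.x * (g * h⁻¹ * n)⁻¹
      = g * h⁻¹ * (n * D.pick.x * n⁻¹) * h * g⁻¹ := by group
    _ = y := by rw [hn]; group

/-- An element of order three of `K0` is not inverted in the centraliser of `x`. -/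
theorem not_inverted {f c : G} (hf : f ∈ D.pick.K0) (hfo : orderOf f = 3) (hc : c ∈ D.CX) :
    c * f * c⁻¹ ≠ f⁻¹ := by
  intro hinv
  have hK : D.pick.K0 ≤ D.CX := fun g hg => (D.pick.K0_le hg).2
  have hdisj : ∀ g : G, g ∈ D.S → g ∈ D.pick.K0 → g = 1 := fun g h1 h2 => by
    have d1 := Subgroup.orderOf_dvd_natCard _ h1
    have d2 := Subgroup.orderOf_dvd_natCard _ h2
    rw [D.shape.card_S] at d1
    rw [D.pick.card_K0] at d2
    exact orderOf_eq_one_iff.1 (Nat.eq_one_of_dvd_coprimes (by norm_num) d1 d2)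
  let φ : ↥D.S × ↥D.pick.K0 → ↥D.CX := fun p =>
    ⟨(p.1 : G) * p.2, mul_mem (D.shape.le_cent p.1.2) (hK p.2.2)⟩
  have hφ : Function.Injective φ := by
    rintro ⟨s, k⟩ ⟨s', k'⟩ h
    have h' : (s : G) * k = s' * k' := congrArg Subtype.val h
    have h1 : (s' : G)⁻¹ * s = k' * (k : G)⁻¹ := by
      rw [eq_mul_inv_iff_mul_eq, mul_assoc, h', inv_mul_cancel_left]
    have h2 := hdisj _ (mul_mem (inv_mem s'.2) s.2) (h1 ▸ mul_mem k'.2 (inv_mem k.2))
    have hs : (s : G) = s' := (inv_mul_eq_one.1 h2).symm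
    rw [hs] at h'
    exact Prod.ext (Subtype.ext hs) (Subtype.ext (mul_left_cancel h'))
  obtain ⟨⟨⟨s, hs⟩, ⟨k, hk⟩⟩, hsk⟩ := (hφ.bijective_of_nat_card_le (by
    rw [Nat.card_prod, D.shape.card_C, D.shape.card_S, D.pick.card_K0])).2 ⟨c, hc⟩
  have hce : s * k = c := congrArg Subtype.val hsk
  set f' := k * f * k⁻¹ with hf'
  have hf'K : f' ∈ D.pick.K0 := mul_mem (mul_mem hk hf) (inv_mem hk)
  have he : s * (f' * s⁻¹ * f'⁻¹) = f⁻¹ * f'⁻¹ := by
    rw [← hinv, ← hce, hf']; group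
  have hSK : f⁻¹ * f'⁻¹ = 1 := by
    refine hdisj _ (he ▸ mul_mem hs ?_) (mul_mem (inv_mem hf) (inv_mem hf'K))
    exact (mem_normalizer_iff.1 (D.shape.cent_le_norm (hK hf'K)) _).1 (inv_mem hs)
  have hkf : k * f * k⁻¹ = f⁻¹ := by
    rw [← hf', eq_inv_iff_mul_eq_one]
    have := congrArg (fun v => v⁻¹) hSK
    simpa using this
  haveI : (D.pick.Q.subgroupOf D.pick.K0).Normal := (normal_subgroupOf_iff_le_normalizer D.pick.Q_le).2
    fun g hg => (D.pick.norm ⟨(D.pick.K0_le hg).1, D.CX_le_NX (hK hg)⟩).1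
  have hq : Nat.card (↥D.pick.K0 ⧸ D.pick.Q.subgroupOf D.pick.K0) = 3 := by
    have h := Subgroup.card_eq_card_quotient_mul_card_subgroup (D.pick.Q.subgroupOf D.pick.K0)
    rw [Nat.card_congr (subgroupOfEquivOfLe D.pick.Q_le).toEquiv, D.pick.card_Q,
      D.pick.card_K0] at h
    omega
  haveI : Fact (Nat.Prime 3) := ⟨Nat.prime_three⟩
  haveI : IsCyclic (↥D.pick.K0 ⧸ D.pick.Q.subgroupOf D.pick.K0) := isCyclic_of_prime_card (p := 3) hq
  let π := QuotientGroup.mk' (D.pick.Q.subgroupOf D.pick.K0)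
  have h1 : π ⟨k, hk⟩ * π ⟨f, hf⟩ * (π ⟨k, hk⟩)⁻¹ = (π ⟨f, hf⟩)⁻¹ := by
    rw [← map_mul, ← map_inv, ← map_mul, ← map_inv]
    exact congrArg π (Subtype.ext hkf)
  rw [IsCyclic.commGroup.mul_comm (π ⟨k, hk⟩), mul_inv_cancel_right, eq_inv_iff_mul_eq_one,
    ← map_mul] at h1
  have h1' : ((((⟨f, hf⟩ : ↥D.pick.K0) * ⟨f, hf⟩ : ↥D.pick.K0)) :
      ↥D.pick.K0 ⧸ D.pick.Q.subgroupOf D.pick.K0) = 1 := h1
  have h2 : f * f ∈ D.pick.Q := mem_subgroupOf.1 ((QuotientGroup.eq_one_iff _).1 h1')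
  have d1 := Subgroup.orderOf_dvd_natCard _ h2
  rw [D.pick.card_Q] at d1
  have d2 : orderOf (f * f) ∣ 3 := orderOf_dvd_of_pow_eq_one (by
    rw [← pow_two, ← pow_mul, mul_comm, pow_mul, ← hfo, pow_orderOf_eq_one, one_pow])
  have h3 := orderOf_eq_one_iff.1 (Nat.eq_one_of_dvd_coprimes (by norm_num) d1 d2)
  rw [← pow_two, ← orderOf_dvd_iff_pow_eq_one, hfo] at h3
  norm_num at h3

variable (hne : ¬ ∀ a ∈ D.S, ∀ b ∈ D.S, a * b = b * a)

include hne

theorem classify {y w : G} (hy : y ∈ D.S) (hyX : y ∉ D.X) (hw : orderOf w = 11) :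
    IsConj D.pick.x w ∨ IsConj y w := by
  obtain ⟨c, hc⟩ := exists_conj_mem_S D (n := 1) (by rw [hw, pow_one])
  have hconj : IsConj (c * w * c⁻¹) w := (isConj_iff.2 ⟨c, rfl⟩ : IsConj w (c * w * c⁻¹)).symm
  by_cases hX : c * w * c⁻¹ ∈ D.X
  · obtain ⟨n, -, hn⟩ := D.X_conj hX
      (ne_one_of_orderOf ((orderOf_conj' c w).trans hw) (by norm_num))
    exact Or.inl ((isConj_iff.2 ⟨n, hn⟩ : IsConj D.pick.x _).trans hconj)
  · obtain ⟨n, -, hn⟩ := ((D.outer_orbit hne hy hyX).1.ge ⟨hc, hX⟩ : _ ∈ orbOf D.NX y)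
    exact Or.inr ((isConj_iff.2 ⟨n, hn⟩ : IsConj y _).trans hconj)

/-- An element of odd order divisible by eleven has order 11 or 33. -/
theorem order_cases {g : G} (ho : Odd (orderOf g)) (h11 : 11 ∣ orderOf g) :
    orderOf g = 11 ∨ orderOf g = 33 := by
  set h := g ^ (orderOf g / 11) with hh
  have hho : orderOf h = 11 := orderOf_pow_orderOf_div (orderOf_pos g).ne' h11
  have hgh : g ∈ centralizer ({h} : Set G) := mem_cent.2 ((Commute.refl g).pow_right _).eq
  have hd := (Subgroup.orderOf_dvd_natCard _ hgh).trans (cent_eleven_dvd D.env hho).1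
  rw [show 24 * 1331 = 3993 * 8 by norm_num] at hd
  have hd' : orderOf g ∣ 3993 :=
    (Nat.Coprime.pow_right 3 (Nat.coprime_two_right.2 ho) :
      Nat.Coprime (orderOf g) (2 ^ 3)).dvd_of_dvd_mul_right hd
  have h121 : ¬ 121 ∣ orderOf g := by
    intro h
    have hwo := orderOf_pow_orderOf_div (orderOf_pos g).ne' h
    obtain ⟨c, hc⟩ := exists_conj_mem_S D (n := 2) (hwo.trans (by norm_num))
    have h1 := orderOf_dvd_of_pow_eq_one (D.shape.pow_eleven _ hc)
    rw [orderOf_conj', hwo] at h1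
    norm_num at h1
  have key : ∀ n ∈ Nat.divisors 3993, 11 ∣ n → ¬ 121 ∣ n → n = 11 ∨ n = 33 := by
    decide +kernel
  exact key _ (Nat.mem_divisors.2 ⟨hd', by norm_num⟩) h11 h121

theorem count_eleven : classesIn (⊤ : Subgroup G) (fun g => OddOrd g ∧ 11 ∣ orderOf g) = 4 := by
  haveI : Fact (Nat.Prime 3) := ⟨Nat.prime_three⟩
  obtain ⟨y, hy, hyX, u, -, htu, hyu⟩ := D.exists_second
  obtain ⟨⟨f, hf⟩, hfo⟩ := exists_prime_orderOf_dvd_card' (G := D.pick.K0) 3
    (by rw [D.pick.card_K0]; norm_num)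
  rw [Subgroup.orderOf_mk] at hfo
  set x := D.pick.x with hx
  have hxo : orderOf x = 11 := D.pick.ord_x
  have hyo : orderOf y = 11 := D.orderOf_S hy fun h => hyX (h ▸ one_mem _)
  have hxy : ¬ IsConj x y := not_conj_second D hyu htu
  have hfC : f ∈ D.CX := (D.pick.K0_le hf).2
  have hcm : ∀ v : G, v ∈ D.CX → Commute x v := fun v hv => (mem_cent.1 hv).symm
  have hmul : ∀ v : G, v ∈ D.CX → orderOf v = 3 →
      orderOf (x * v) = 33 ∧ (x * v) ^ 12 = x ∧ (x * v) ^ 22 = v := fun v hv hvo => by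
    refine ⟨?_, ?_, ?_⟩
    · rw [(hcm v hv).orderOf_mul_eq_mul_orderOf_of_coprime (by rw [hxo, hvo]; norm_num), hxo, hvo]
    · rw [(hcm v hv).mul_pow, ← pow_mod_orderOf x, hxo, ← pow_mod_orderOf v, hvo]
      simp
    · rw [(hcm v hv).mul_pow, ← pow_mod_orderOf x, hxo, ← pow_mod_orderOf v, hvo]
      simp
  have hfi : orderOf f⁻¹ = 3 := (orderOf_inv f).trans hfo
  let rep : Fin 4 → G := ![x, y, x * f, x * f⁻¹]
  have hord : ∀ i, orderOf (rep i) = ![11, 11, 33, 33] i := fun i => by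
    fin_cases i
    · exact hxo
    · exact hyo
    · exact (hmul f hfC hfo).1
    · exact (hmul f⁻¹ (inv_mem hfC) hfi).1
  let F : Fin 4 → {c : ConjClasses ↥(⊤ : Subgroup G) // ∃ h : ↥(⊤ : Subgroup G),
      ConjClasses.mk h = c ∧ (OddOrd (h : G) ∧ 11 ∣ orderOf (h : G))} :=
    fun i => ⟨ConjClasses.mk ⟨rep i, trivial⟩, ⟨rep i, trivial⟩, rfl, by
      have hall : ∀ i : Fin 4, ![11, 11, 33, 33] i % 2 = 1 ∧ 11 ∣ ![11, 11, 33, 33] i := by decide
      show OddOrd (rep i) ∧ _
      rw [OddOrd, Nat.odd_iff]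
      simp only [hord i]
      exact hall i⟩
  have hbij : Function.Bijective F := by
    constructor
    · intro i j h
      obtain ⟨⟨k, hkt⟩, hk⟩ :=
        isConj_iff.1 (ConjClasses.mk_eq_mk_iff_isConj.1 (congrArg Subtype.val h))
      have hk : k * rep i * k⁻¹ = rep j := congrArg Subtype.val hk
      have hij : IsConj (rep i) (rep j) := isConj_iff.2 ⟨k, hk⟩
      have ho : ![11, 11, 33, 33] i = ![11, 11, 33, 33] j := by
        rw [← hord, ← hord, ← hk, orderOf_conj']
      have h33 : ¬ IsConj (x * f) (x * f⁻¹) := by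
        intro hcj
        obtain ⟨c, hc⟩ := isConj_iff.1 hcj
        have h12 := congrArg (· ^ 12) hc
        have h22 := congrArg (· ^ 22) hc
        simp only [conj_pow, (hmul f hfC hfo).2.1, (hmul f⁻¹ (inv_mem hfC) hfi).2.1,
          (hmul f hfC hfo).2.2, (hmul f⁻¹ (inv_mem hfC) hfi).2.2] at h12 h22
        exact not_inverted D hf hfo (mem_cent.2 (mul_inv_eq_iff_eq_mul.1 h12)) h22
      fin_cases i <;> fin_cases j <;> first
        | rfl
        | (exfalso; revert ho; decide)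
        | exact absurd hij hxy
        | exact absurd hij.symm hxy
        | exact absurd hij h33
        | exact absurd hij.symm h33
    · rintro ⟨_, ⟨g, hgt⟩, rfl, ho, h11⟩
      suffices h : ∃ i, IsConj g (rep i) by
        obtain ⟨i, hi⟩ := h
        obtain ⟨c, hc⟩ := isConj_iff.1 hi.symm
        exact ⟨i, Subtype.ext (ConjClasses.mk_eq_mk_iff_isConj.2
          (isConj_iff.2 ⟨⟨c, trivial⟩, Subtype.ext hc⟩))⟩
      change OddOrd g at ho
      change 11 ∣ orderOf g at h11
      rcases order_cases D hne ho h11 with hgo | hgo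
      · rcases classify D hne hy hyX hgo with h | h
        · exact ⟨0, h.symm⟩
        · exact ⟨1, h.symm⟩
      · have hwo : orderOf (g ^ 12) = 11 := by rw [orderOf_pow, hgo]; norm_num
        have hso : orderOf (g ^ 22) = 3 := by rw [orderOf_pow, hgo]; norm_num
        have hsp : g ^ 12 * g ^ 22 = g := by
          rw [← pow_add, ← pow_mod_orderOf, hgo]; simp
        obtain ⟨c, hc⟩ := isConj_iff.1 (conj_x_of_three D hso hwo
          ((Commute.refl g).pow_pow 22 12).eq).symm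
        set v := c * g ^ 22 * c⁻¹ with hv
        have hvo : orderOf v = 3 := (orderOf_conj' _ _).trans hso
        have hcx : c * g ^ 12 * c⁻¹ = x := hc
        have hvC : v ∈ D.CX := mem_cent.2 (show v * x = x * v by
          rw [← hcx, hv, conj_mul, conj_mul, ((Commute.refl g).pow_pow 22 12).eq])
        obtain ⟨k, hk, hke⟩ := exists_conj_zpowers (p := 3) (H := D.CX)
          (by rw [D.shape.card_C]; norm_num) (by rw [D.shape.card_C]; norm_num) hfC hvC hfo hvo
        obtain ⟨j, hj⟩ := (isOfFinOrder_of_finite f).mem_powers_iff_mem_zpowers.2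
          (hke.le (mem_zpowers _))
        change f ^ j = k * v * k⁻¹ at hj
        have hconj : IsConj g (x * f ^ j) := by
          refine isConj_iff.2 ⟨k * c, ?_⟩
          calc k * c * g * (k * c)⁻¹ = k * c * (g ^ 12 * g ^ 22) * (k * c)⁻¹ := by rw [hsp]
            _ = (k * (c * g ^ 12 * c⁻¹) * k⁻¹) * (k * v * k⁻¹) := by rw [hv]; group
            _ = x * f ^ j := by
              rw [hc, hj, mem_cent.1 hk, mul_inv_cancel_right]
        rw [← pow_mod_orderOf, hfo] at hconj
        have hj3 : j % 3 ≠ 0 := fun h => by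
          have h1 : f ^ j = 1 := orderOf_dvd_iff_pow_eq_one.1 (by rw [hfo]; omega)
          rw [h1] at hj
          have h3 := (orderOf_conj' k v).trans hvo
          rw [← hj, orderOf_one] at h3
          norm_num at h3
        rcases (show j % 3 = 1 ∨ j % 3 = 2 by omega) with h | h <;> rw [h] at hconj
        · exact ⟨2, by simpa [rep] using hconj⟩
        · refine ⟨3, ?_⟩
          have hf2 : f ^ 2 = f⁻¹ := eq_inv_of_mul_eq_one_left (by
            rw [← pow_succ, show 2 + 1 = orderOf f by rw [hfo], pow_orderOf_eq_one])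
          rw [hf2] at hconj
          exact hconj
  rw [classesIn, ← Nat.card_congr (Equiv.ofBijective F hbij), Nat.card_fin]

omit hne D

/-- The elements of odd order divisible by eleven fall into four classes. -/
theorem eleven [IsSimpleGroup G] (hG : ¬ IsMulCommutative G) (hJ : IsOfJankoFourType G) :
    classesIn (⊤ : Subgroup G) (fun g => OddOrd g ∧ 11 ∣ orderOf g) = 4 := by
  obtain ⟨z, t, hz, E, ⟨k⟩⟩ := exists_env_pick hG hJ
  obtain ⟨D⟩ := exists_setup E k
  refine count_eleven D fun h => ?_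
  obtain ⟨⟨u, A⟩⟩ := D.exists_abData h
  exact no_abData hG hJ z u hz A

end CfsgLib.J4Type.Classes.OddEleven
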