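import Cfsg.Agent.Lib.J4Type.Classes.Counting

/-!
Classes of elements of odd order of a group and of a quotient by a kernel of exponent two.
-/

set_option autoImplicit false

namespace CfsgLib.J4Type.Classes

open Subgroup

variable {A B : Type*} [Group A] [Group B]

/-- Two elements of the same odd period with the same image are conjugate by the kernel. -/
theorem isConj_of_map_eq (f : A →* B) (hK : ∀ a ∈ f.ker, a * a = 1) {g h : A} {n : ℕ} (hn : Odd n)
    (hg : g ^ n = 1) (hh : h ^ n = 1) (e : f g = f h) : IsConj g h := by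
  have hcomm : ∀ x ∈ f.ker, ∀ y ∈ f.ker, x * y = y * x := fun x hx y hy => by
    have hxi : x⁻¹ = x := inv_eq_of_mul_eq_one_right (hK x hx)
    have hyi : y⁻¹ = y := inv_eq_of_mul_eq_one_right (hK y hy)
    have := inv_eq_of_mul_eq_one_right (hK (x * y) (mul_mem hx hy))
    rw [mul_inv_rev, hxi, hyi] at this
    exact this.symm
  set u := g * h⁻¹ with hu
  have huK : u ∈ f.ker := by
    rw [MonoidHom.mem_ker, hu, map_mul, map_inv, e, mul_inv_cancel]
  let P : ℕ → A := fun i => h ^ i * (g ^ i)⁻¹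
  have hP : ∀ i, P i ∈ f.ker := fun i => by
    rw [MonoidHom.mem_ker]
    simp [P, e]
  have hPs : ∀ i, h * P i * h⁻¹ = P (i + 1) * u := fun i => by
    simp only [P, hu, pow_succ', mul_inv_rev]
    have hgi : g * g ^ i = g ^ i * g := (Commute.self_pow g i).eq
    calc h * (h ^ i * (g ^ i)⁻¹) * h⁻¹ = h * h ^ i * ((g * g ^ i)⁻¹ * g) * h⁻¹ := by
          rw [hgi]; group
      _ = _ := by group
  let Q : ℕ → A := Nat.rec 1 fun i q => q * P i
  have hQ : ∀ i, Q i ∈ f.ker := fun i => by
    induction i with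
    | zero => exact one_mem _
    | succ i ih => exact mul_mem ih (hP i)
  have hQs : ∀ k, h * Q k * h⁻¹ = Q (k + 1) * u ^ k := fun k => by
    induction k with
    | zero =>
      show h * 1 * h⁻¹ = 1 * (h ^ 0 * (g ^ 0)⁻¹) * u ^ 0
      simp
    | succ k ih =>
      show h * (Q k * P k) * h⁻¹ = Q (k + 1) * P (k + 1) * u ^ (k + 1)
      calc h * (Q k * P k) * h⁻¹ = (h * Q k * h⁻¹) * (h * P k * h⁻¹) := by group
        _ = Q (k + 1) * (u ^ k * P (k + 1)) * u := by rw [ih, hPs]; group
        _ = Q (k + 1) * (P (k + 1) * u ^ k) * u := by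
            rw [hcomm _ (pow_mem huK k) _ (hP (k + 1))]
        _ = _ := by rw [pow_succ]; group
  have hun : u ^ n = u := by
    obtain ⟨j, hj⟩ := hn
    rw [hj, pow_succ, pow_mul, pow_two, hK u huK, one_pow, one_mul]
  have key : h * Q n * h⁻¹ = Q n * u := by
    rw [hQs n]
    show Q n * (h ^ n * (g ^ n)⁻¹) * u ^ n = Q n * u
    rw [hg, hh, hun, inv_one, mul_one, mul_one]
  refine isConj_iff.2 ⟨Q n, ?_⟩
  have : h * Q n = Q n * g := by
    calc h * Q n = (h * Q n * h⁻¹) * h := by group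
      _ = Q n * g := by rw [key, hu]; group
  rw [← this, mul_inv_cancel_right]

theorem orderOf_map_of_odd [Finite A] (f : A →* B) (hK : ∀ a ∈ f.ker, a * a = 1) {g : A}
    (hg : Odd (orderOf g)) : orderOf (f g) = orderOf g := by
  refine Nat.dvd_antisymm (orderOf_map_dvd f g) (orderOf_dvd_of_pow_eq_one ?_)
  have hm : g ^ orderOf (f g) ∈ f.ker := by
    rw [MonoidHom.mem_ker, map_pow, pow_orderOf_eq_one]
  have h2 : orderOf (g ^ orderOf (f g)) ∣ 2 :=
    orderOf_dvd_of_pow_eq_one (by rw [pow_two]; exact hK _ hm)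
  have hd : orderOf (g ^ orderOf (f g)) ∣ orderOf g := orderOf_pow_dvd _
  rw [← orderOf_eq_one_iff]
  exact Nat.eq_one_of_dvd_coprimes (Nat.coprime_two_right.2 hg) hd h2

/-- The classes of elements of odd order do not change modulo a kernel of exponent two. -/
theorem ncls_odd_quot [Finite A] (f : A →* B) (hf : Function.Surjective f)
    (hK : ∀ a ∈ f.ker, a * a = 1) :
    ncls (fun a : A => OddOrd a) = ncls (fun b : B => OddOrd b) := by
  have himg : ConjClasses.map f '' (ConjClasses.mk '' {a : A | OddOrd a}) =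
      ConjClasses.mk '' {b : B | OddOrd b} := by
    ext c
    constructor
    · rintro ⟨_, ⟨a, ha, rfl⟩, rfl⟩
      refine ⟨f a, ?_, rfl⟩
      show Odd (orderOf (f a))
      rw [orderOf_map_of_odd f hK ha]
      exact ha
    · rintro ⟨b, hb, rfl⟩
      have hb' : Odd (orderOf b) := hb
      obtain ⟨a, rfl⟩ := hf b
      obtain ⟨j, hj⟩ := exists_pow_eq_self_of_coprime (x := f a) (n := 2)
        (Nat.coprime_two_left.2 hb')
      refine ⟨ConjClasses.mk ((a ^ 2) ^ j), ⟨(a ^ 2) ^ j, ?_, rfl⟩, ?_⟩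
      · have hker : a ^ orderOf (f a) ∈ f.ker := by
          rw [MonoidHom.mem_ker, map_pow, pow_orderOf_eq_one]
        have h1 : ((a ^ 2) ^ j) ^ orderOf (f a) = 1 := by
          rw [← pow_mul, ← pow_mul, show 2 * (j * orderOf (f a)) = orderOf (f a) * 2 * j by ring,
            pow_mul, pow_mul, pow_two, hK _ hker, one_pow]
        exact hb'.of_dvd_nat (orderOf_dvd_of_pow_eq_one h1)
      · show ConjClasses.mk (f ((a ^ 2) ^ j)) = ConjClasses.mk (f a)
        rw [map_pow, map_pow, hj]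
  rw [ncls, ncls, ← himg]
  refine (Set.InjOn.ncard_image ?_).symm
  rintro _ ⟨a, ha, rfl⟩ _ ⟨b, hb, rfl⟩ e
  obtain ⟨c, hc⟩ := isConj_iff.1
    (ConjClasses.mk_eq_mk_iff_isConj.1 (show ConjClasses.mk (f a) = ConjClasses.mk (f b) from e))
  obtain ⟨c, rfl⟩ := hf c
  rw [← map_mul, ← map_inv, ← map_mul] at hc
  refine ConjClasses.mk_eq_mk_iff_isConj.2 ((isConj_iff.2 ⟨c, rfl⟩).trans
    (isConj_of_map_eq f hK (n := orderOf b) hb ?_ (pow_orderOf_eq_one b) hc))
  have ho : orderOf (c * a * c⁻¹) = orderOf a := by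
    simpa using (MulAut.conj c).orderOf_eq a
  rw [← orderOf_map_of_odd f hK hb, ← hc, orderOf_map_of_odd f hK (by rw [ho]; exact ha)]
  exact pow_orderOf_eq_one _

end CfsgLib.J4Type.Classes
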