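import Cfsg.Agent.Lib.J4Type.Classes.Defs
import Cfsg.Agent.Lib.J4Type.Seven.Results
import Cfsg.Agent.Lib.J4Type.Ident.Main
import Cfsg.Agent.Lib.J4Type.PlaneUnique
import Cfsg.Agent.Lib.J4Type.FusedMain

/-!
The classes of elements of odd order divisible by seven: two orbits of the automiser on the
generators of a Sylow subgroup, times the three classes of elements of odd order of `S₅`.
-/

set_option autoImplicit false
set_option maxRecDepth 100000

namespace CfsgLib.J4Type.Classes.OddSeven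

open Cfsg Subgroup

/-- Representatives of the classes of elements of odd order. -/
def perm5 : Fin 3 → Equiv.Perm (Fin 5) :=
  ![1, Equiv.swap 0 1 * Equiv.swap 1 2, finRotate 5]

theorem perm5_cases : ∀ σ : Equiv.Perm (Fin 5), σ ^ 15 = 1 →
    ∃ τ : Equiv.Perm (Fin 5), ∃ j : Fin 3, τ * σ * τ⁻¹ = perm5 j := by
  decide +kernel

theorem perm5_orders : ∀ j, orderOf (perm5 j) = ![1, 3, 5] j := by
  intro j
  fin_cases j
  · simp [perm5]
  · haveI : Fact (Nat.Prime 3) := ⟨by norm_num⟩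
    show orderOf (perm5 1) = 3
    exact orderOf_eq_prime (by decide +kernel) (by decide +kernel)
  · haveI : Fact (Nat.Prime 5) := ⟨by norm_num⟩
    show orderOf (perm5 2) = 5
    exact orderOf_eq_prime (by decide +kernel) (by decide +kernel)

variable {G : Type*} [Group G] [Finite G]

theorem count_seven {a : G} (ha : orderOf a = 7) (h49 : ¬ 49 ∣ Nat.card G) {I : Subgroup G}
    (hI : IsInternalDirectProduct (zpowers a) I (centralizer (zpowers a : Set G)))
    (e : ↥I ≃* Equiv.Perm (Fin 5))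
    (hN : Nat.card ↥(normalizer (zpowers a : Set G)) =
      3 * Nat.card ↥(centralizer (zpowers a : Set G))) :
    classesIn (⊤ : Subgroup G)
      (fun g => OddOrd g ∧ 7 ∣ orderOf g ∧ ¬ 11 ∣ orderOf g) = 6 := by
  obtain ⟨h1, h2, h3, h4, h5⟩ := hI
  set N := normalizer (zpowers a : Set G) with hNdef
  set C := centralizer (zpowers a : Set G) with hCdef
  haveI : Fact (Nat.Prime 7) := ⟨by norm_num⟩
  have ha7 : a ^ 7 = 1 := ha ▸ pow_orderOf_eq_one a
  have ha1 : a ≠ 1 := fun h => by rw [h, orderOf_one] at ha; omega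
  have hpa : ∀ i : ℕ, i % 7 ≠ 0 → orderOf (a ^ i) = 7 := fun i hi =>
    orderOf_eq_prime (by rw [← pow_mul, mul_comm, pow_mul, ha7, one_pow]) fun h => by
      have := orderOf_dvd_of_pow_eq_one h
      rw [ha] at this
      omega
  have hCa : ∀ x : G, x ∈ C ↔ x * a = a * x := by
    intro x
    rw [hCdef, mem_centralizer_iff]
    refine ⟨fun h => (h a (mem_zpowers a)).symm, fun h w hw => ?_⟩
    obtain ⟨k, rfl⟩ := mem_zpowers_iff.1 hw
    exact ((show Commute x a from h).zpow_right k).eq.symm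
  have hcardI : Nat.card ↥I = 120 := by
    rw [Nat.card_congr e.toEquiv, Nat.card_eq_fintype_card, Fintype.card_perm, Fintype.card_fin]
    rfl
  have hI120 : ∀ u ∈ I, u ^ 120 = 1 := fun u hu => by
    have := pow_card_eq_one' (x := (⟨u, hu⟩ : ↥I))
    rw [hcardI] at this
    exact congrArg Subtype.val this
  have hdec : ∀ x ∈ C, ∃ i : ℕ, ∃ u ∈ I, x = a ^ i * u := by
    intro x hx
    have hle : zpowers a ≤ normalizer (I : Set G) := fun w hw => by
      refine centralizer_le_normalizer (I : Set G) ?_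
      exact mem_centralizer_iff.2 fun b hb => (h3 w hw b hb).symm
    have hx' : x ∈ ((zpowers a ⊔ I : Subgroup G) : Set G) := by rw [h5]; exact hx
    rw [Subgroup.coe_mul_of_left_le_normalizer_right _ _ hle] at hx'
    obtain ⟨w, hw, u, hu, rfl⟩ := hx'
    obtain ⟨i, rfl⟩ := mem_powers_iff_mem_zpowers.2 hw
    exact ⟨i, u, hu, rfl⟩
  have hsplit : ∀ (i : ℕ) (u : G), u ∈ I → Commute (a ^ i) u := fun i u hu =>
    h3 _ (pow_mem (mem_zpowers a) i) u hu
  have hmemI : ∀ x ∈ C, x ^ 120 = 1 → x ∈ I := by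
    intro x hx h120
    obtain ⟨i, u, hu, rfl⟩ := hdec x hx
    rw [(hsplit i u hu).mul_pow, hI120 u hu, mul_one, ← pow_mul] at h120
    have := orderOf_dvd_of_pow_eq_one h120
    rw [ha] at this
    have h7 : a ^ i = 1 := orderOf_dvd_iff_pow_eq_one.1 (by rw [ha]; omega)
    rwa [h7, one_mul]
  have hCN : C ≤ N := centralizer_le_normalizer _
  have hnorm : ∀ n ∈ N, ∀ c ∈ C, n * c * n⁻¹ ∈ C := by
    intro n hn c hc
    refine mem_centralizer_iff.2 fun w hw => ?_
    have hw' : n⁻¹ * w * n⁻¹⁻¹ ∈ zpowers a :=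
      (Subgroup.mem_normalizer_iff.1 (inv_mem hn) w).1 hw
    rw [inv_inv] at hw'
    have := mem_centralizer_iff.1 hc _ hw'
    calc w * (n * c * n⁻¹) = n * (n⁻¹ * w * n * c) * n⁻¹ := by group
      _ = n * (c * (n⁻¹ * w * n)) * n⁻¹ := by rw [this]
      _ = _ := by group
  have hauto : ∀ n ∈ N, ∃ l : ℕ, (l % 7 = 1 ∨ l % 7 = 2 ∨ l % 7 = 4) ∧ n * a * n⁻¹ = a ^ l := by
    intro n hn
    obtain ⟨l, hl⟩ := mem_powers_iff_mem_zpowers.2
      ((Subgroup.mem_normalizer_iff.1 hn a).1 (mem_zpowers a))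
    change a ^ l = n * a * n⁻¹ at hl
    refine ⟨l, ?_, hl.symm⟩
    have hcu : ∀ j : ℕ, n ^ j * a * (n ^ j)⁻¹ = a ^ (l ^ j) := fun j => by
      induction j with
      | zero => simp
      | succ j ih =>
        rw [pow_succ', show n * n ^ j * a * (n * n ^ j)⁻¹ = n * (n ^ j * a * (n ^ j)⁻¹) * n⁻¹ by group,
          ih, ← conj_pow, ← hl, ← pow_mul, pow_succ']
    haveI : (C.subgroupOf N).Normal :=
      ⟨fun c hc m => hnorm m.1 m.2 c.1 hc⟩
    have hidx : (C.subgroupOf N).index = 3 := by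
      have := (C.subgroupOf N).index_mul_card
      rw [Nat.card_congr (Subgroup.subgroupOfEquivOfLe hCN).toEquiv, hN] at this
      exact Nat.eq_of_mul_eq_mul_right Nat.card_pos this
    have h3' : n ^ 3 ∈ C := by
      have := Subgroup.pow_index_mem (C.subgroupOf N) (⟨n, hn⟩ : ↥N)
      rw [hidx] at this
      exact this
    have e3 := hcu 3
    rw [(hCa _).1 h3', mul_inv_cancel_right] at e3
    have hmod : l ^ 3 ≡ 1 [MOD 7] := by
      rw [← ha, ← pow_eq_pow_iff_modEq, pow_one]
      exact e3.symm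
    have hlt : ∀ r < 7, r ^ 3 % 7 = 1 → r = 1 ∨ r = 2 ∨ r = 4 := by decide
    exact hlt _ (Nat.mod_lt _ (by norm_num)) (by rw [← Nat.pow_mod]; exact hmod)
  obtain ⟨n2, hn2, hn2a⟩ : ∃ n ∈ N, n * a * n⁻¹ = a ^ 2 := by
    obtain ⟨n, hn, hnC⟩ : ∃ n ∈ N, n ∉ C := by
      by_contra hc
      push Not at hc
      have := Nat.le_of_dvd Nat.card_pos (Subgroup.card_dvd_of_le (show N ≤ C from hc))
      have := Nat.card_pos (α := ↥C)
      omega
    obtain ⟨l, hl, hla⟩ := hauto n hn
    have hmod : a ^ l = a ^ (l % 7) := by rw [← ha, pow_mod_orderOf]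
    rcases hl with h | h | h <;> rw [hmod, h] at hla
    · exact absurd ((hCa n).2 (by rw [pow_one] at hla; exact mul_inv_eq_iff_eq_mul.1 hla)) hnC
    · exact ⟨n, hn, hla⟩
    · refine ⟨n ^ 2, pow_mem hn 2, ?_⟩
      rw [pow_two, show n * n * a * (n * n)⁻¹ = n * (n * a * n⁻¹) * n⁻¹ by group, hla, ← conj_pow,
        hla, ← pow_mul, ← pow_mod_orderOf, ha]
  have hn2k : ∀ k : ℕ, n2 ^ k * a * (n2 ^ k)⁻¹ = a ^ (2 ^ k) := fun k => by
    induction k with
    | zero => simp
    | succ k ih =>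
      rw [pow_succ', show n2 * n2 ^ k * a * (n2 * n2 ^ k)⁻¹ = n2 * (n2 ^ k * a * (n2 ^ k)⁻¹) * n2⁻¹
        by group, ih, ← conj_pow, hn2a, ← pow_mul, pow_succ']
  let ex : Fin 2 → ℕ := ![1, 3]
  let rep : Fin 2 × Fin 3 → G := fun p => a ^ ex p.1 * (e.symm (perm5 p.2) : G)
  have hex : ∀ i, ex i % 7 ≠ 0 := by decide
  have huord : ∀ j, orderOf (e.symm (perm5 j) : G) = ![1, 3, 5] j := fun j => by
    rw [Subgroup.orderOf_coe, MulEquiv.orderOf_eq, perm5_orders]
  have hrord : ∀ p, orderOf (rep p) = 7 * ![1, 3, 5] p.2 := fun p => by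
    have hco : ∀ j : Fin 3, Nat.Coprime 7 (![1, 3, 5] j) := by decide
    rw [(hsplit _ _ (e.symm (perm5 p.2)).2).orderOf_mul_eq_mul_orderOf_of_coprime
      (by rw [hpa _ (hex p.1), huord]; exact hco _), hpa _ (hex p.1), huord]
  let f : Fin 2 × Fin 3 → {c : ConjClasses ↥(⊤ : Subgroup G) // ∃ h : ↥(⊤ : Subgroup G),
      ConjClasses.mk h = c ∧ (OddOrd (h : G) ∧ 7 ∣ orderOf (h : G) ∧ ¬ 11 ∣ orderOf (h : G))} :=
    fun p => ⟨ConjClasses.mk ⟨rep p, trivial⟩, ⟨rep p, trivial⟩, rfl, by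
      have hall : ∀ j : Fin 3,
          (7 * ![1, 3, 5] j) % 2 = 1 ∧ ¬ 11 ∣ 7 * ![1, 3, 5] j := by decide
      show OddOrd (rep p) ∧ _
      rw [OddOrd, Nat.odd_iff]
      simp only [hrord p]
      exact ⟨(hall p.2).1, dvd_mul_right 7 _, (hall p.2).2⟩⟩
  have hbij : Function.Bijective f := by
    constructor
    · rintro ⟨i, j⟩ ⟨i', j'⟩ h
      obtain ⟨⟨k, hkt⟩, hk⟩ := isConj_iff.1 (ConjClasses.mk_eq_mk_iff_isConj.1 (congrArg Subtype.val h))
      have hk : k * rep (i, j) * k⁻¹ = rep (i', j') := congrArg Subtype.val hk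
      have hj : j = j' := by
        have e1 : orderOf (k * rep (i, j) * k⁻¹) = orderOf (rep (i, j)) :=
          orderOf_injective (MulAut.conj k).toMonoidHom (MulEquiv.injective _) _
        rw [hk, hrord, hrord] at e1
        have hinj : ∀ x y : Fin 3, 7 * ![1, 3, 5] x = 7 * ![1, 3, 5] y → x = y := by decide
        exact (hinj _ _ e1).symm
      subst hj
      have h120 : ∀ i : Fin 2, rep (i, j) ^ 120 = a ^ (ex i * 120) := fun i => by
        show (a ^ ex i * (e.symm (perm5 j) : G)) ^ 120 = _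
        rw [(hsplit _ _ (e.symm (perm5 j)).2).mul_pow, hI120 _ (e.symm (perm5 j)).2, mul_one,
          ← pow_mul]
      have e2 : k * a ^ (ex i * 120) * k⁻¹ = a ^ (ex i' * 120) := by
        rw [← h120, ← h120, ← conj_pow, hk]
      have hgen : ∀ i : Fin 2, zpowers (a ^ (ex i * 120)) = zpowers a := fun i => by
        refine eq_of_le_of_card_ge (zpowers_le.2 (pow_mem (mem_zpowers a) _)) ?_
        rw [Nat.card_zpowers, Nat.card_zpowers, ha, hpa _ ?_]
        revert i; decide
      have hkN : k ∈ N := by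
        have : (zpowers a).map (MulAut.conj k).toMonoidHom = zpowers a := by
          conv_lhs => rw [← hgen i, MonoidHom.map_zpowers]
          rw [show (MulAut.conj k).toMonoidHom (a ^ (ex i * 120)) = a ^ (ex i' * 120) from e2, hgen]
        refine Subgroup.mem_normalizer_iff.2 fun w => ⟨fun hw => this ▸ ⟨w, hw, rfl⟩, fun hw => ?_⟩
        rw [← this] at hw
        obtain ⟨v, hv, hve⟩ := hw
        rwa [← (MulAut.conj k).injective hve]
      obtain ⟨l, hl, hla⟩ := hauto k hkN
      rw [← conj_pow, hla, ← pow_mul, pow_eq_pow_iff_modEq, ha] at e2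
      have hres : ∀ (i i' : Fin 2) (r : ℕ), r = 1 ∨ r = 2 ∨ r = 4 →
          (r * (ex i * 120)) % 7 = ex i' * 120 % 7 → i = i' := by
        intro i i' r hr
        rcases hr with rfl | rfl | rfl <;> revert i i' <;> decide
      refine Prod.ext (hres i i' _ hl ?_) rfl
      unfold Nat.ModEq at e2
      rw [← e2, Nat.mul_mod, Nat.mod_mod, ← Nat.mul_mod]
    · rintro ⟨_, ⟨g, hgt⟩, rfl, ho, h7, -⟩
      change OddOrd g at ho
      change 7 ∣ orderOf g at h7
      set h := g ^ (orderOf g / 7) with hh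
      have hho : orderOf h = 7 := orderOf_pow_orderOf_div (orderOf_pos g).ne' h7
      have hfac : (Nat.card G).factorization 7 = 1 := by
        have h7G : 7 ∣ Nat.card G := ha ▸ orderOf_dvd_natCard a
        have h1 := ((by norm_num : Nat.Prime 7).dvd_iff_one_le_factorization Nat.card_pos.ne').1 h7G
        have h2 : ¬ 2 ≤ (Nat.card G).factorization 7 := fun h =>
          h49 (((by norm_num : Nat.Prime 7).pow_dvd_iff_le_factorization Nat.card_pos.ne').2 h)
        omega
      obtain ⟨c, hc⟩ := MulAction.exists_smul_eq G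
        (Sylow.ofCard (p := 7) (zpowers h) (by rw [Nat.card_zpowers, hho, hfac, pow_one]))
        (Sylow.ofCard (p := 7) (zpowers a) (by rw [Nat.card_zpowers, ha, hfac, pow_one]))
      have hmem : c * h * c⁻¹ ∈ zpowers a := by
        have := congrArg (fun P : Sylow 7 G => (P : Subgroup G)) hc
        simp only [Sylow.coe_subgroup_smul] at this
        rw [show (zpowers a : Subgroup G) =
          ((Sylow.ofCard (p := 7) (zpowers a) (by rw [Nat.card_zpowers, ha, hfac, pow_one]) :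
            Sylow 7 G) : Subgroup G) from rfl, ← this]
        exact ⟨h, mem_zpowers h, rfl⟩
      set g1 := c * g * c⁻¹ with hg1
      have hg1o : orderOf g1 = orderOf g :=
        orderOf_injective (MulAut.conj c).toMonoidHom (MulEquiv.injective _) g
      have hg1C : g1 ∈ C := by
        have hz : zpowers (c * h * c⁻¹) = zpowers a := by
          refine eq_of_le_of_card_ge (zpowers_le.2 hmem) ?_
          rw [Nat.card_zpowers, Nat.card_zpowers, ha, show c * h * c⁻¹ = MulAut.conj c h from rfl,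
            MulEquiv.orderOf_eq, hho]
        refine (hCa g1).2 ?_
        obtain ⟨q, hq⟩ := mem_zpowers_iff.1 (hz ▸ mem_zpowers a : a ∈ zpowers (c * h * c⁻¹))
        rw [← hq, hg1, hh, ← conj_pow]
        exact (((Commute.refl (c * g * c⁻¹)).pow_right _).zpow_right q).eq
      obtain ⟨i, u, hu, hgu⟩ := hdec g1 hg1C
      have huo : u ^ 15 = 1 := by
        have hodd : Odd (orderOf g1) := hg1o ▸ ho
        have hp : (a ^ i * u) ^ (7 * orderOf g1) = 1 := by
          rw [← hgu, mul_comm, pow_mul, pow_orderOf_eq_one, one_pow]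
        rw [(hsplit i u hu).mul_pow, ← pow_mul, mul_comm i, mul_assoc, pow_mul, ha7, one_pow,
          one_mul] at hp
        have hd1 := orderOf_dvd_of_pow_eq_one hp
        have hd2 := orderOf_dvd_of_pow_eq_one (hI120 u hu)
        have hodd7 : Odd (orderOf u) :=
          Odd.of_dvd_nat (Nat.odd_mul.2 ⟨by decide, hodd⟩) hd1
        refine orderOf_dvd_iff_pow_eq_one.1
          ((Nat.Coprime.dvd_of_dvd_mul_right ?_ (show orderOf u ∣ 15 * 8 from hd2)))
        exact (Nat.Coprime.pow_right 3 (Nat.coprime_two_right.2 hodd7) : Nat.Coprime (orderOf u) (2 ^ 3))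
      have hi : i % 7 ≠ 0 := by
        intro hi
        have hai : a ^ i = 1 := orderOf_dvd_iff_pow_eq_one.1 (by rw [ha]; omega)
        rw [hai, one_mul] at hgu
        have := (hg1o ▸ h7 : 7 ∣ orderOf g1).trans
          (orderOf_dvd_of_pow_eq_one (hgu ▸ huo : g1 ^ 15 = 1))
        norm_num at this
      obtain ⟨k, -, i', hki⟩ : ∃ k < 3, ∃ i' : Fin 2, (2 ^ k * (i % 7)) % 7 = ex i' % 7 := by
        have hall : ∀ r < 7, r ≠ 0 → ∃ k < 3, ∃ i' : Fin 2, (2 ^ k * r) % 7 = ex i' % 7 := by decide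
        exact hall _ (Nat.mod_lt _ (by norm_num)) hi
      set n := n2 ^ k
      have hnN : n ∈ N := pow_mem hn2 k
      have hna : n * a ^ i * n⁻¹ = a ^ ex i' := by
        rw [← conj_pow, hn2k, ← pow_mul, pow_eq_pow_iff_modEq, ha]
        show (2 ^ k * i) % 7 = ex i' % 7
        rw [← hki, Nat.mul_mod, Nat.mul_mod (2 ^ k) (i % 7), Nat.mod_mod]
      set u' := n * u * n⁻¹
      have hu'I : u' ∈ I := hmemI u' (hnorm n hnN u (h2 hu)) (by
        rw [conj_pow, hI120 u hu, mul_one, mul_inv_cancel])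
      have hu'15 : (⟨u', hu'I⟩ : ↥I) ^ 15 = 1 := Subtype.ext (by
        show (n * u * n⁻¹) ^ 15 = 1
        rw [conj_pow, huo, mul_one, mul_inv_cancel])
      obtain ⟨τ, j, hτ⟩ := perm5_cases (e ⟨u', hu'I⟩) (by rw [← map_pow, hu'15, map_one])
      set w := e.symm τ
      have hw : (w : G) * u' * (w : G)⁻¹ = (e.symm (perm5 j) : G) := by
        have := congrArg e.symm hτ
        rw [map_mul, map_mul, map_inv, e.symm_apply_apply] at this
        exact congrArg Subtype.val this
      have hfin : (w : G) * n * c * g * ((w : G) * n * c)⁻¹ = rep (i', j) := by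
        calc (w : G) * n * c * g * ((w : G) * n * c)⁻¹
            = (w : G) * (n * g1 * n⁻¹) * (w : G)⁻¹ := by rw [hg1]; group
          _ = (w : G) * ((n * a ^ i * n⁻¹) * (n * u * n⁻¹)) * (w : G)⁻¹ := by rw [hgu]; group
          _ = ((w : G) * a ^ ex i' * (w : G)⁻¹) * ((w : G) * u' * (w : G)⁻¹) := by
            rw [hna, show n * u * n⁻¹ = u' from rfl]; group
          _ = rep (i', j) := by
            rw [hw, ← (hsplit _ _ w.2).eq, mul_inv_cancel_right]
      exact ⟨(i', j), Subtype.ext (ConjClasses.mk_eq_mk_iff_isConj.2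
        (isConj_iff.2 ⟨⟨(w : G) * n * c, trivial⟩, Subtype.ext hfin⟩).symm)⟩
  rw [classesIn, ← Nat.card_congr (Equiv.ofBijective f hbij), Nat.card_prod, Nat.card_fin,
    Nat.card_fin]

/-- The elements of odd order divisible by seven fall into six classes. -/
theorem seven [IsSimpleGroup G] (hG : ¬ IsMulCommutative G) (hJ : IsOfJankoFourType G) :
    classesIn (⊤ : Subgroup G)
      (fun g => OddOrd g ∧ 7 ∣ orderOf g ∧ ¬ 11 ∣ orderOf g) = 6 := by
  obtain ⟨z, P, hP⟩ := hJ
  obtain ⟨F⟩ := frame_exists hP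
  obtain ⟨D⟩ := vData_exists F
  have hf := fused_exists hG D
  obtain ⟨S⟩ := Seven.exists_setup F D hf
  obtain ⟨h49, ⟨I, hI, ⟨e⟩⟩, hN, -⟩ := Seven.seven F D hf (zpowers S.s)
    (by rw [Nat.card_zpowers, S.s_order]) (zpowers_le.2 S.s_mem.1)
  exact count_seven S.s_order h49 hI e hN

end CfsgLib.J4Type.Classes.OddSeven
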