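import Cfsg.Agent.Lib.J4Type.Classes.OddTop
import Cfsg.Agent.Lib.J4Type.Classes.OddSeven
import Cfsg.Agent.Lib.J4Type.Classes.OddEleven

/-!
The classes of elements of odd order.
-/

set_option autoImplicit false

namespace CfsgLib.J4Type.Classes

open Cfsg Subgroup

variable {G : Type*} [Group G] [Finite G] [IsSimpleGroup G]

/-- The classes of odd order, given those of order divisible by eleven. -/
theorem odd_top_of (hG : ¬ IsMulCommutative G) (hJ : IsOfJankoFourType G)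
    (h11 : classesIn (⊤ : Subgroup G) (fun g => OddOrd g ∧ 11 ∣ orderOf g) = 4) :
    classesIn (⊤ : Subgroup G) OddOrd = 25 := by
  have h7 := OddSeven.seven hG hJ
  have h5 := five hG hJ
  have hb := big hG hJ
  have hs := small hG hJ
  rw [classesIn_top] at h11 h7 h5 hb hs ⊢
  have inv : ∀ d : ℕ, ∀ a b : G, IsConj a b → d ∣ orderOf a → d ∣ orderOf b :=
    fun d a b h ha => orderOf_of_isConj h ▸ ha
  have invB : ∀ a b : G, IsConj a b → (∃ p ∈ [23, 29, 31, 37, 43], p ∣ orderOf a) →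
      ∃ p ∈ [23, 29, 31, 37, 43], p ∣ orderOf b := fun a b h ha => orderOf_of_isConj h ▸ ha
  rw [ncls_split _ (fun g : G => 11 ∣ orderOf g) (inv 11),
    ncls_split (fun g : G => OddOrd g ∧ ¬ 11 ∣ orderOf g) (fun g => 7 ∣ orderOf g) (inv 7),
    ncls_split (fun g : G => (OddOrd g ∧ ¬ 11 ∣ orderOf g) ∧ ¬ 7 ∣ orderOf g)
      (fun g => 5 ∣ orderOf g) (inv 5),
    ncls_split (fun g : G => ((OddOrd g ∧ ¬ 11 ∣ orderOf g) ∧ ¬ 7 ∣ orderOf g) ∧
      ¬ 5 ∣ orderOf g) (fun g => ∃ p ∈ [23, 29, 31, 37, 43], p ∣ orderOf g) invB, h11]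
  rw [ncls_congr (S := fun g : G => (OddOrd g ∧ ¬ 11 ∣ orderOf g) ∧ 7 ∣ orderOf g)
      (T := fun g : G => OddOrd g ∧ 7 ∣ orderOf g ∧ ¬ 11 ∣ orderOf g) fun g => by tauto, h7,
    ncls_congr (S := fun g : G => ((OddOrd g ∧ ¬ 11 ∣ orderOf g) ∧ ¬ 7 ∣ orderOf g) ∧
      5 ∣ orderOf g)
      (T := fun g : G => OddOrd g ∧ 5 ∣ orderOf g ∧ ¬ 7 ∣ orderOf g ∧ ¬ 11 ∣ orderOf g)
      fun g => by tauto, h5,
    ncls_congr (S := fun g : G => (((OddOrd g ∧ ¬ 11 ∣ orderOf g) ∧ ¬ 7 ∣ orderOf g) ∧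
      ¬ 5 ∣ orderOf g) ∧ ∃ p ∈ [23, 29, 31, 37, 43], p ∣ orderOf g)
      (T := fun g : G => OddOrd g ∧ ∃ p ∈ [23, 29, 31, 37, 43], p ∣ orderOf g)
      fun g => ⟨fun h => ⟨h.1.1.1.1, h.2⟩, fun h => ?_⟩, hb,
    ncls_congr (S := fun g : G => (((OddOrd g ∧ ¬ 11 ∣ orderOf g) ∧ ¬ 7 ∣ orderOf g) ∧
      ¬ 5 ∣ orderOf g) ∧ ¬ ∃ p ∈ [23, 29, 31, 37, 43], p ∣ orderOf g)
      (T := fun g : G => OddOrd g ∧ ∀ p ∈ [5, 7, 11, 23, 29, 31, 37, 43], ¬ p ∣ orderOf g)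
      fun g => by simp only [List.forall_mem_cons, List.forall_mem_nil, List.exists_mem_cons_iff,
        List.not_mem_nil, false_and, exists_false, or_false, and_true, not_or]; tauto, hs]
  obtain ⟨hodd, p, hp, hpd⟩ := h
  have e := orderOf_eq_big hG hJ (p := p) hp hpd
  refine ⟨⟨⟨⟨hodd, ?_⟩, ?_⟩, ?_⟩, p, hp, hpd⟩ <;>
    · rw [e]
      simp only [List.mem_cons, List.not_mem_nil, or_false] at hp
      rcases hp with rfl | rfl | rfl | rfl | rfl <;> norm_num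

/-- A group of Janko-four type has twenty-five classes of elements of odd order. -/
theorem odd_top (hG : ¬ IsMulCommutative G) (hJ : IsOfJankoFourType G) :
    classesIn (⊤ : Subgroup G) OddOrd = 25 :=
  odd_top_of hG hJ (OddEleven.eleven hG hJ)

end CfsgLib.J4Type.Classes
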