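import Cfsg.Agent.Lib.J4Type.Classes.Counting
import Cfsg.Agent.S5577
import Cfsg.Agent.S5572
import Cfsg.Agent.S5564
import Cfsg.Agent.S5565
import Mathlib.GroupTheory.Transfer

/-!
The classes of elements of odd order away from the primes seven and eleven.
-/

set_option autoImplicit false
set_option linter.unusedSectionVars false
set_option linter.style.haveILetI false

namespace CfsgLib.J4Type.Classes

open Cfsg Subgroup
open BigPrimes (bigList bigOrder)

section Extension

variable {J : Type*} [Group J] [Finite J]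

/-- An extension of a group of order eight by `L₃(2)` has one class of elements of order three. -/
theorem isConj_order_three (E : Subgroup J) [E.Normal] (hE : Nat.card E = 8)
    (e : J ⧸ E ≃* Matrix.SpecialLinearGroup (Fin 3) (ZMod 2)) {x y : J} (hx : orderOf x = 3)
    (hy : orderOf y = 3) : IsConj x y := by
  haveI : Fact (Nat.Prime 3) := ⟨Nat.prime_three⟩
  have hJ : Nat.card J = 1344 := by
    rw [← E.card_mul_index, hE, index_eq_card, Nat.card_congr e.toEquiv,
      Nat.card_eq_fintype_card,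
      show Fintype.card (Matrix.SpecialLinearGroup (Fin 3) (ZMod 2)) = 168 by decide +kernel]
  let T : Sylow 3 J := Sylow.ofCard (zpowers x) (by
    rw [Nat.card_zpowers, hx, hJ, show 1344 = 3 ^ 1 * 448 by norm_num,
      Nat.factorization_mul (by norm_num) (by norm_num), Finsupp.add_apply,
      Nat.Prime.factorization_pow Nat.prime_three, Finsupp.single_eq_same,
      Nat.factorization_eq_zero_of_not_dvd (by norm_num), add_zero, pow_one])
  have hTc : (T : Subgroup J) = zpowers x := rfl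
  have hx3 : x ^ 3 = 1 := hx ▸ pow_orderOf_eq_one x
  have hpow : ∀ w ∈ zpowers x, w ≠ 1 → w = x ∨ w = x ^ 2 := by
    intro w hw hw1
    obtain ⟨k, hk⟩ := (isOfFinOrder_of_finite x).mem_powers_iff_mem_zpowers.2 hw
    change x ^ k = w at hk
    have hmod : x ^ (k % orderOf x) = w := by rw [pow_mod_orderOf]; exact hk
    rw [hx] at hmod
    have := Nat.mod_lt k (show 3 > 0 by norm_num)
    interval_cases hkk : k % 3
    · exact absurd (by rw [← hmod, pow_zero]) hw1
    · exact Or.inl (by rw [← hmod, pow_one])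
    · exact Or.inr hmod.symm
  -- `x` is conjugate to its square
  have hinv : IsConj x (x ^ 2) := by
    by_contra hne
    have hNC : normalizer ((T : Subgroup J) : Set J) ≤ centralizer ((T : Subgroup J) : Set J) := by
      intro n hn
      rw [hTc] at hn ⊢
      rw [centralizer_zpowers_eq, mem_centralizer_singleton_iff]
      have hm := (mem_normalizer_iff.1 hn x).1 (mem_zpowers x)
      rcases hpow _ hm (fun h => by
        rw [conj_eq_one_iff] at h; rw [h, orderOf_one] at hx; omega) with h | h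
      · calc n * x = n * x * n⁻¹ * n := by group
          _ = x * n := by rw [h]
      · exact absurd (isConj_iff.2 ⟨n, h⟩) hne
    have hcomp := MonoidHom.ker_transferSylow_isComplement' T hNC
    set ψ := MonoidHom.transferSylow T hNC with hψ
    have hkerc : Nat.card ψ.ker = 448 := by
      have := hcomp.card_mul_card
      rw [show Nat.card ↥((T : Subgroup J)) = 3 from (Nat.card_zpowers x).trans hx, hJ] at this
      omega
    have hcube : ∀ a : J, ψ a ^ 3 = 1 := fun a => by
      have h : ψ a ^ Nat.card (T : Subgroup J) = 1 := pow_card_eq_one'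
      rwa [show Nat.card ↥((T : Subgroup J)) = 3 from (Nat.card_zpowers x).trans hx] at h
    let M : Matrix.SpecialLinearGroup (Fin 3) (ZMod 2) :=
      ⟨!![0, 0, 1; 1, 0, 0; 0, 1, 0], by decide +kernel⟩
    let R : Matrix.SpecialLinearGroup (Fin 3) (ZMod 2) :=
      ⟨!![0, 1, 0; 1, 0, 0; 0, 0, 1], by decide +kernel⟩
    have hM3 : M ^ 3 = 1 := by
      refine Subtype.ext ?_
      rw [Matrix.SpecialLinearGroup.coe_pow, Matrix.SpecialLinearGroup.coe_one]
      decide +kernel
    have hM1 : M ≠ 1 := fun h => absurd (congrArg Subtype.val h) (by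
      rw [Matrix.SpecialLinearGroup.coe_one]
      decide +kernel)
    have hRM : R * M = M ^ 2 * R := by
      refine Subtype.ext ?_
      rw [Matrix.SpecialLinearGroup.coe_mul, Matrix.SpecialLinearGroup.coe_mul,
        Matrix.SpecialLinearGroup.coe_pow]
      decide +kernel
    obtain ⟨a, ha⟩ := QuotientGroup.mk'_surjective E (e.symm M)
    obtain ⟨s, hs⟩ := QuotientGroup.mk'_surjective E (e.symm R)
    set m : J := (a ^ 2)⁻¹ * (s * a * s⁻¹) with hm
    have hmE : m ∈ E := by
      rw [← QuotientGroup.eq_one_iff, ← QuotientGroup.mk'_apply, hm, map_mul, map_inv, map_pow,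
        map_mul, map_mul, map_inv, ha, hs, ← map_mul, hRM, map_mul, map_pow, mul_inv_cancel_right,
        inv_mul_cancel]
    have hψm : ψ m = 1 := by
      have h1 : m ^ 8 = 1 := by
        rw [← hE]
        exact congrArg Subtype.val (pow_card_eq_one' (x := (⟨m, hmE⟩ : E)))
      have h2 : ψ m ^ 8 = 1 := by rw [← map_pow, h1, map_one]
      calc ψ m = (ψ m ^ 3) ^ 3 * (ψ m ^ 8)⁻¹ := by group
        _ = 1 := by rw [hcube, h2]; simp
    have hψa : a ∈ ψ.ker := by
      rw [MonoidHom.mem_ker]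
      have h := hψm
      rw [hm, map_mul, map_inv, map_pow, map_mul, map_mul, map_inv,
        show ψ s * ψ a * (ψ s)⁻¹ = ψ a from by
          have hc : IsCyclic (T : Subgroup J) := isCyclic_of_prime_card (p := 3) (by
            rw [hTc, Nat.card_zpowers, hx])
          letI := IsCyclic.commGroup (α := (T : Subgroup J))
          rw [mul_comm (ψ s) (ψ a), mul_inv_cancel_right], inv_mul_eq_one] at h
      calc ψ a = (ψ a)⁻¹ * ψ a ^ 2 := by group
        _ = 1 := by rw [h, inv_mul_cancel]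
    have h448 : a ^ 448 = 1 := by
      rw [← hkerc]
      exact congrArg Subtype.val (pow_card_eq_one' (x := (⟨a, hψa⟩ : ψ.ker)))
    have hM448 : M ^ 448 = 1 := by
      have h := congrArg (QuotientGroup.mk' E) h448
      rw [map_pow, ha, map_one, ← map_pow] at h
      exact e.symm.injective (h.trans (map_one e.symm).symm)
    refine hM1 ?_
    calc M = M ^ 448 * ((M ^ 3) ^ 149)⁻¹ := by group
      _ = 1 := by rw [hM448, hM3]; simp
  obtain ⟨c, hc⟩ := exists_conj_mem_sylow T (isPGroup_zpowers (p := 3) (k := 1) (x := y) (by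
    rw [hy, pow_one]))
  rw [hTc] at hc
  have hcy : IsConj y (c * y * c⁻¹) := isConj_iff.2 ⟨c, rfl⟩
  rcases hpow _ hc (fun h => by rw [conj_eq_one_iff] at h; rw [h, orderOf_one] at hy; omega) with
    h | h
  · exact (h ▸ hcy : IsConj y x).symm
  · exact hinv.trans (h ▸ hcy : IsConj y (x ^ 2)).symm

end Extension

variable {G : Type*} [Group G] [Finite G]

/-- Decomposition in an internal direct product. -/
theorem exists_mul_of_internal {S T U : Subgroup G} (h : IsInternalDirectProduct S T U) {u : G}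
    (hu : u ∈ U) : ∃ a ∈ S, ∃ b ∈ T, a * b = u ∧ Commute a b := by
  obtain ⟨-, -, h3, -, h5⟩ := h
  have hn : S ≤ normalizer (T : Set G) := fun s hs => centralizer_le_normalizer _
    (mem_centralizer_iff.2 fun t ht => (h3 s hs t ht).symm)
  have hu' : u ∈ ((S ⊔ T : Subgroup G) : Set G) := by rw [h5]; exact hu
  rw [coe_mul_of_left_le_normalizer_right S T hn] at hu'
  obtain ⟨a, ha, b, hb, e⟩ := Set.mem_mul.1 hu'
  exact ⟨a, ha, b, hb, e, h3 a ha b hb⟩

variable [IsSimpleGroup G] (hG : ¬ IsMulCommutative G) (hJ : IsOfJankoFourType G)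

include hG hJ

theorem natCard_G : Nat.card G = bigOrder := BigPrimes.natCard_eq hG hJ

theorem exists_orderOf {p : ℕ} (hp : p.Prime) (hd : p ∣ bigOrder) : ∃ x : G, orderOf x = p := by
  haveI : Fact p.Prime := ⟨hp⟩
  exact exists_prime_orderOf_dvd_card' (G := G) p (by rw [natCard_G hG hJ]; exact hd)

/-- The centraliser and normaliser data at the five large primes. -/
theorem big_data {p e : ℕ} (hp : (p, e) ∈ [(23, 22), (29, 28), (31, 10), (37, 12), (43, 14)]) :
    ∀ U : Sylow p G, centralizer ((U : Subgroup G) : Set G) = (U : Subgroup G) ∧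
      Nat.card ↥(normalizer ((U : Subgroup G) : Set G)) = p * e := by
  obtain ⟨h1, h2, h3, h4, h5⟩ := Cfsg.Agent.S5577.result hG hJ
  simp only [List.mem_cons, List.not_mem_nil, or_false, Prod.mk.injEq] at hp
  rcases hp with ⟨rfl, rfl⟩ | ⟨rfl, rfl⟩ | ⟨rfl, rfl⟩ | ⟨rfl, rfl⟩ | ⟨rfl, rfl⟩
  exacts [h1, h2, h3, h4, h5]

theorem big_sylow_card {p e : ℕ} [Fact p.Prime]
    (hp : (p, e) ∈ [(23, 22), (29, 28), (31, 10), (37, 12), (43, 14)]) (U : Sylow p G) :
    Nat.card (U : Subgroup G) = p := by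
  rw [U.card_eq_multiplicity, natCard_G hG hJ]
  have key : ∀ q ∈ bigList, q.Prime → (bigOrder).factorization q = 1 := by
    intro q hq hqp
    have h1 : ∀ q ∈ bigList, bigOrder % q = 0 ∧ bigOrder % (q ^ 2) ≠ 0 := by decide +kernel
    obtain ⟨a, b⟩ := h1 q hq
    have h0 : bigOrder ≠ 0 := by decide +kernel
    refine le_antisymm ?_ ((hqp.dvd_iff_one_le_factorization h0).1 (Nat.dvd_of_mod_eq_zero a))
    by_contra h
    exact b (Nat.mod_eq_zero_of_dvd ((hqp.pow_dvd_iff_le_factorization h0).2 (by omega)))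
  rw [key p ?_ Fact.out, pow_one]
  simp only [List.mem_cons, List.not_mem_nil, or_false, Prod.mk.injEq] at hp
  rcases hp with ⟨rfl, -⟩ | ⟨rfl, -⟩ | ⟨rfl, -⟩ | ⟨rfl, -⟩ | ⟨rfl, -⟩ <;> decide

/-- An element of order divisible by a large prime has that order. -/
theorem orderOf_eq_big {p : ℕ} (hp : p ∈ bigList) {g : G} (hg : p ∣ orderOf g) :
    orderOf g = p := by
  have hp' : p.Prime := BigPrimes.prime_of_big hp
  haveI : Fact p.Prime := ⟨hp'⟩
  obtain ⟨e, he⟩ : ∃ e, (p, e) ∈ [(23, 22), (29, 28), (31, 10), (37, 12), (43, 14)] := by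
    simp only [bigList, List.mem_cons, List.not_mem_nil, or_false] at hp
    rcases hp with rfl | rfl | rfl | rfl | rfl
    exacts [⟨22, by simp⟩, ⟨28, by simp⟩, ⟨10, by simp⟩, ⟨12, by simp⟩, ⟨14, by simp⟩]
  obtain ⟨U⟩ := (Sylow.nonempty : Nonempty (Sylow p G))
  have hUc := big_sylow_card hG hJ he U
  set n := orderOf g with hn
  have hn0 : n ≠ 0 := (orderOf_pos g).ne'
  have hy : orderOf (g ^ (n / p)) = p := by
    rw [orderOf_pow' _ (Nat.div_ne_zero_iff_of_dvd hg |>.2 ⟨hn0, hp'.ne_zero⟩), ← hn,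
      Nat.gcd_eq_right (Nat.div_dvd_of_dvd hg), Nat.div_div_self hg hn0]
  obtain ⟨c, hc⟩ := exists_conj_mem_sylow U (isPGroup_zpowers (k := 1) (by rw [hy, pow_one]))
  have hg' : c * g * c⁻¹ ∈ (U : Subgroup G) := by
    rw [← (big_data hG hJ he U).1]
    rw [eq_zpowers_of_card hp' hUc hc ((MulEquiv.orderOf_eq (MulAut.conj c) _).trans hy),
      centralizer_zpowers_eq,
      mem_centralizer_singleton_iff, ← conj_pow]
    exact Commute.self_pow _ _
  have hd : orderOf (c * g * c⁻¹) ∣ p := by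
    rw [← hUc, orderOf_dvd_iff_pow_eq_one]
    exact congrArg Subtype.val (pow_card_eq_one' (x := (⟨_, hg'⟩ : (U : Subgroup G))))
  rw [show orderOf (c * g * c⁻¹) = n from MulEquiv.orderOf_eq (MulAut.conj c) g] at hd
  exact (hp'.eq_one_or_self_of_dvd _ hd).resolve_left fun h => by
    rw [h, Nat.dvd_one] at hg; exact hp'.ne_one hg

theorem ncls_big_prime {p e : ℕ} [Fact p.Prime]
    (hp : (p, e) ∈ [(23, 22), (29, 28), (31, 10), (37, 12), (43, 14)]) :
    ncls (fun g : G => orderOf g = p) * e = p - 1 := by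
  obtain ⟨U⟩ := (Sylow.nonempty : Nonempty (Sylow p G))
  obtain ⟨h1, h2⟩ := big_data hG hJ hp U
  have hc := big_sylow_card hG hJ hp U
  exact ncls_orderOf_prime U hc (by rw [h2, h1, hc])

/-- The classes of the elements of large order. -/
theorem big : classesIn (⊤ : Subgroup G)
    (fun g => OddOrd g ∧ ∃ p ∈ [23, 29, 31, 37, 43], p ∣ orderOf g) = 11 := by
  rw [classesIn_top, ncls_congr (T := fun g : G => orderOf g ∈ bigList) fun g => ⟨?_, ?_⟩]
  rotate_left
  · rintro ⟨-, p, hp, hpd⟩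
    rw [orderOf_eq_big hG hJ hp hpd]
    exact hp
  · intro h
    refine ⟨?_, orderOf g, h, dvd_rfl⟩
    simp only [bigList, List.mem_cons, List.not_mem_nil, or_false] at h
    unfold OddOrd
    rcases h with h | h | h | h | h <;> rw [h] <;> decide
  have inv : ∀ p : ℕ, ∀ a b : G, IsConj a b → orderOf a = p → orderOf b = p :=
    fun p a b h ha => (orderOf_of_isConj h).symm.trans ha
  rw [ncls_split _ (fun g => orderOf g = 23) (inv 23),
    ncls_split (fun g => orderOf g ∈ bigList ∧ ¬ orderOf g = 23) (fun g => orderOf g = 29) (inv 29),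
    ncls_split (fun g => (orderOf g ∈ bigList ∧ ¬ orderOf g = 23) ∧ ¬ orderOf g = 29)
      (fun g => orderOf g = 31) (inv 31),
    ncls_split (fun g => ((orderOf g ∈ bigList ∧ ¬ orderOf g = 23) ∧ ¬ orderOf g = 29) ∧
      ¬ orderOf g = 31) (fun g => orderOf g = 37) (inv 37)]
  rw [ncls_congr (T := fun g : G => orderOf g = 23) fun g => by
      simp only [bigList, List.mem_cons, List.not_mem_nil, or_false]; omega,
    ncls_congr (S := fun g : G => (orderOf g ∈ bigList ∧ ¬ orderOf g = 23) ∧ orderOf g = 29)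
      (T := fun g : G => orderOf g = 29) fun g => by
      simp only [bigList, List.mem_cons, List.not_mem_nil, or_false]; omega,
    ncls_congr (S := fun g : G => ((orderOf g ∈ bigList ∧ ¬ orderOf g = 23) ∧ ¬ orderOf g = 29) ∧
      orderOf g = 31) (T := fun g : G => orderOf g = 31) fun g => by
      simp only [bigList, List.mem_cons, List.not_mem_nil, or_false]; omega,
    ncls_congr (S := fun g : G => (((orderOf g ∈ bigList ∧ ¬ orderOf g = 23) ∧ ¬ orderOf g = 29) ∧
      ¬ orderOf g = 31) ∧ orderOf g = 37) (T := fun g : G => orderOf g = 37) fun g => by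
        simp only [bigList, List.mem_cons, List.not_mem_nil, or_false]; omega,
    ncls_congr (S := fun g : G => (((orderOf g ∈ bigList ∧ ¬ orderOf g = 23) ∧ ¬ orderOf g = 29) ∧
      ¬ orderOf g = 31) ∧ ¬ orderOf g = 37) (T := fun g : G => orderOf g = 43) fun g => by
        simp only [bigList, List.mem_cons, List.not_mem_nil, or_false]; omega]
  have a := @ncls_big_prime G _ _ _ hG hJ 23 22 ⟨by norm_num⟩ (by simp)
  have b := @ncls_big_prime G _ _ _ hG hJ 29 28 ⟨by norm_num⟩ (by simp)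
  have c := @ncls_big_prime G _ _ _ hG hJ 31 10 ⟨by norm_num⟩ (by simp)
  have d := @ncls_big_prime G _ _ _ hG hJ 37 12 ⟨by norm_num⟩ (by simp)
  have f := @ncls_big_prime G _ _ _ hG hJ 43 14 ⟨by norm_num⟩ (by simp)
  omega

/-- The classes of elements of odd order divisible by five but neither seven nor eleven. -/
theorem five : classesIn (⊤ : Subgroup G)
    (fun g => OddOrd g ∧ 5 ∣ orderOf g ∧ ¬ 7 ∣ orderOf g ∧ ¬ 11 ∣ orderOf g) = 2 := by
  classical
  haveI : Fact (Nat.Prime 5) := ⟨by norm_num⟩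
  haveI : Fact (Nat.Prime 3) := ⟨by norm_num⟩
  obtain ⟨z, P, hP⟩ := id hJ
  obtain ⟨F⟩ := frame_exists hP
  obtain ⟨⟨q, hqz⟩, hq⟩ := exists_prime_orderOf_dvd_card' (G := Cen z) 5 (by
    rw [F.card_cen]; norm_num)
  rw [Subgroup.orderOf_mk] at hq
  have hQ : Nat.card (zpowers q) = 5 := by rw [Nat.card_zpowers, hq]
  obtain ⟨n25, ⟨J, hQJ, E, hE, -, hE8, ⟨e⟩, -⟩, -, hN⟩ :=
    Cfsg.Agent.S5572.result hG z ⟨P, hP⟩ (zpowers q) hQ (zpowers_le.2 hqz)
  have hJc : Nat.card J = 1344 := by
    rw [← E.card_mul_index, hE8, index_eq_card, Nat.card_congr e.toEquiv,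
      Nat.card_eq_fintype_card,
      show Fintype.card (Matrix.SpecialLinearGroup (Fin 3) (ZMod 2)) = 168 by decide +kernel]
  have hCc : Nat.card ↥(centralizer ((zpowers q : Subgroup G) : Set G)) = 5 * 1344 := by
    obtain ⟨h1, h2, h3, h4, -⟩ := id hQJ
    refine ((Nat.card_eq_of_bijective (fun x : ↥(zpowers q) × J =>
      (⟨(x.1 : G) * x.2, mul_mem (h1 x.1.2) (h2 x.2.2)⟩ :
        ↥(centralizer ((zpowers q : Subgroup G) : Set G)))) ⟨?_, ?_⟩).symm).trans
      (by rw [Nat.card_prod, hQ, hJc])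
    · rintro ⟨a, b⟩ ⟨c, d⟩ h
      have h' : (a : G) * b = c * d := congrArg Subtype.val h
      have : (c : G)⁻¹ * a ∈ zpowers q ⊓ J := ⟨Subgroup.mul_mem _ (Subgroup.inv_mem _ c.2) a.2, by
        rw [show (c : G)⁻¹ * a = d * (b : G)⁻¹ by
          rw [eq_mul_inv_iff_mul_eq, mul_assoc, h', inv_mul_cancel_left]]
        exact Subgroup.mul_mem _ d.2 (Subgroup.inv_mem _ b.2)⟩
      rw [h4, mem_bot, inv_mul_eq_one] at this
      obtain rfl : c = a := Subtype.ext this
      exact Prod.ext rfl (Subtype.ext (mul_left_cancel h'))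
    · rintro ⟨u, hu⟩
      obtain ⟨a, ha, b, hb, h, -⟩ := exists_mul_of_internal hQJ hu
      exact ⟨(⟨a, ha⟩, ⟨b, hb⟩), Subtype.ext h⟩
  have hf : (Nat.card G).factorization 5 = 1 := by
    have hp : Nat.Prime 5 := by norm_num
    refine le_antisymm ?_ ((hp.dvd_iff_one_le_factorization Nat.card_pos.ne').1
      (hQ ▸ card_subgroup_dvd_card _))
    by_contra h
    exact n25 ((hp.pow_dvd_iff_le_factorization Nat.card_pos.ne' (k := 2)).2 (by omega))
  let U : Sylow 5 G := Sylow.ofCard (zpowers q) (by rw [hf, hQ, pow_one])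
  have h5 : ncls (fun g : G => orderOf g = 5) = 1 := by
    have := ncls_orderOf_prime (e := 4) U hQ (by
      show Nat.card ↥(normalizer ((zpowers q : Subgroup G) : Set G)) = _
      rw [hN]
      show _ = Nat.card ↥(centralizer ((zpowers q : Subgroup G) : Set G)) * 4
      rw [hCc]; norm_num)
    omega
  have hconj5 : ∀ y : G, orderOf y = 5 → IsConj y q := by
    intro y hy
    rw [ncls, Set.ncard_eq_one] at h5
    obtain ⟨c, hc⟩ := h5
    exact ConjClasses.mk_eq_mk_iff_isConj.1
      ((hc.subset ⟨y, hy, rfl⟩ : _ = c).trans (hc.subset ⟨q, hq, rfl⟩ : _ = c).symm)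
  have hdec : ∀ u ∈ centralizer ((zpowers q : Subgroup G) : Set G), ∃ a j : G,
      a ∈ zpowers q ∧ j ∈ J ∧ a * j = u ∧ Commute a j ∧ a ^ 5 = 1 ∧ orderOf j ∣ 1344 ∧
        orderOf u = orderOf a * orderOf j := by
    intro u hu
    obtain ⟨a, ha, j, hj, h, hcm⟩ := exists_mul_of_internal hQJ hu
    have ha5 : a ^ 5 = 1 := by
      rw [← hQ]
      exact congrArg Subtype.val (pow_card_eq_one' (x := (⟨a, ha⟩ : zpowers q)))
    have hjd : orderOf j ∣ 1344 := by
      rw [orderOf_dvd_iff_pow_eq_one, ← hJc]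
      exact congrArg Subtype.val (pow_card_eq_one' (x := (⟨j, hj⟩ : J)))
    refine ⟨a, j, ha, hj, h, hcm, ha5, hjd, ?_⟩
    rw [← h]
    refine hcm.orderOf_mul_eq_mul_orderOf_of_coprime ?_
    exact Nat.Coprime.coprime_dvd_left (orderOf_dvd_of_pow_eq_one ha5)
      (Nat.Coprime.coprime_dvd_right hjd (by norm_num))
  have hshape : ∀ g : G, OddOrd g → 5 ∣ orderOf g → ¬ 7 ∣ orderOf g →
      orderOf g = 5 ∨ orderOf g = 15 := by
    intro g hodd h5g h7
    set n := orderOf g with hn
    have hn0 : n ≠ 0 := (orderOf_pos g).ne'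
    have hy : orderOf (g ^ (n / 5)) = 5 := by
      rw [orderOf_pow' _ (Nat.div_ne_zero_iff_of_dvd h5g |>.2 ⟨hn0, by norm_num⟩), ← hn,
        Nat.gcd_eq_right (Nat.div_dvd_of_dvd h5g), Nat.div_div_self h5g hn0]
    obtain ⟨c, hc⟩ := isConj_iff.1 (hconj5 _ hy)
    have hu : c * g * c⁻¹ ∈ centralizer ((zpowers q : Subgroup G) : Set G) := by
      rw [centralizer_zpowers_eq, mem_centralizer_singleton_iff, ← hc, ← conj_pow]
      exact Commute.self_pow _ _
    obtain ⟨a, j, -, -, -, -, ha5, hjd, ho⟩ := hdec _ hu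
    rw [show orderOf (c * g * c⁻¹) = n from MulEquiv.orderOf_eq (MulAut.conj c) g] at ho
    have hodd' : ¬ 2 ∣ n := by
      have : Odd n := hodd
      rw [Nat.odd_iff] at this
      omega
    have key : ∀ d ∈ Nat.divisors 1344, ¬ 2 ∣ d → ¬ 7 ∣ d → d = 1 ∨ d = 3 := by decide +kernel
    have hj13 := key _ (Nat.mem_divisors.2 ⟨hjd, by norm_num⟩)
      (fun h => hodd' (ho ▸ Dvd.dvd.mul_left h _)) (fun h => h7 (ho ▸ Dvd.dvd.mul_left h _))
    rcases (Nat.dvd_prime (by norm_num : Nat.Prime 5)).1 (orderOf_dvd_of_pow_eq_one ha5) with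
      h | h <;> rcases hj13 with h' | h' <;> rw [h, h'] at ho <;> omega
  rw [classesIn_top, ncls_split _ (fun g : G => orderOf g = 5)
    fun a b h ha => (orderOf_of_isConj h).symm.trans ha]
  rw [ncls_congr (S := fun g : G => (OddOrd g ∧ 5 ∣ orderOf g ∧ ¬ 7 ∣ orderOf g ∧
      ¬ 11 ∣ orderOf g) ∧ orderOf g = 5) (T := fun g : G => orderOf g = 5) fun g =>
      ⟨And.right, fun h => ⟨⟨by unfold OddOrd; rw [h]; decide, by norm_num [h], by norm_num [h],
        by norm_num [h]⟩, h⟩⟩, h5,
    ncls_congr (S := fun g : G => (OddOrd g ∧ 5 ∣ orderOf g ∧ ¬ 7 ∣ orderOf g ∧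
      ¬ 11 ∣ orderOf g) ∧ ¬ orderOf g = 5) (T := fun g : G => orderOf g = 15) fun g =>
      ⟨fun h => (hshape g h.1.1 h.1.2.1 h.1.2.2.1).resolve_left h.2, fun h =>
        ⟨⟨by unfold OddOrd; rw [h]; decide, by norm_num [h], by norm_num [h], by norm_num [h]⟩,
          by omega⟩⟩]
  obtain ⟨⟨x, hxJ⟩, hx⟩ := exists_prime_orderOf_dvd_card' (G := J) 3 (by rw [hJc]; norm_num)
  have hxo : orderOf x = 3 := by rw [← hx, Subgroup.orderOf_mk]
  have hqx : Commute q x := hQJ.2.2.1 q (mem_zpowers q) x hxJ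
  rw [ncls_eq_one (a := q * x) (by
    rw [hqx.orderOf_mul_eq_mul_orderOf_of_coprime (by rw [hq, hxo]; norm_num), hq, hxo]) ?_]
  intro g hg
  have hy : orderOf (g ^ 6) = 5 := by
    rw [orderOf_pow' _ (by norm_num), hg]
    norm_num
  obtain ⟨c, hc⟩ := isConj_iff.1 (hconj5 _ hy)
  set u := c * g * c⁻¹ with hu
  have huo : orderOf u = 15 := by rw [← hg]; exact MulEquiv.orderOf_eq (MulAut.conj c) g
  have huq : u ^ 6 = q := by rw [hu, conj_pow, hc]
  have huC : u ∈ centralizer ((zpowers q : Subgroup G) : Set G) := by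
    rw [centralizer_zpowers_eq, mem_centralizer_singleton_iff, ← huq]
    exact Commute.self_pow _ _
  obtain ⟨a, j, -, hj, h, hcm, ha5, hjd, ho⟩ := hdec u huC
  rw [huo] at ho
  have hj3 : orderOf j = 3 := by
    rcases (Nat.dvd_prime (by norm_num : Nat.Prime 5)).1 (orderOf_dvd_of_pow_eq_one ha5) with
      h' | h'
    · rw [h', one_mul] at ho
      rw [← ho] at hjd
      norm_num at hjd
    · rw [h'] at ho; omega
  have haq : a = q := by
    rw [← huq, ← h, hcm.mul_pow,
      show j ^ 6 = 1 by rw [pow_mul j 3 2, ← hj3, pow_orderOf_eq_one, one_pow], mul_one]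
    calc a = a ^ 5 * a := by rw [ha5, one_mul]
      _ = a ^ 6 := by rw [← pow_succ]
  obtain ⟨k, hk⟩ := isConj_iff.1 (isConj_order_three E hE8 e (x := (⟨j, hj⟩ : J))
    (y := ⟨x, hxJ⟩) (by rw [Subgroup.orderOf_mk, hj3]) hx)
  have hk' : (k : G) * j * (k : G)⁻¹ = x := congrArg Subtype.val hk
  refine (isConj_iff.2 ⟨c, rfl⟩ : IsConj g u).trans (isConj_iff.2 ⟨(k : G), ?_⟩)
  have hkq : Commute q (k : G) := hQJ.2.2.1 q (mem_zpowers q) k k.2
  rw [← h, haq, ← hk']
  calc (k : G) * (q * j) * (k : G)⁻¹ = k * q * j * (k : G)⁻¹ := by group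
    _ = q * (k * j * (k : G)⁻¹) := by rw [← hkq.eq]; group

/-- The remaining elements of odd order are the identity and the class of order three. -/
theorem small : classesIn (⊤ : Subgroup G)
    (fun g => OddOrd g ∧ ∀ p ∈ [5, 7, 11, 23, 29, 31, 37, 43], ¬ p ∣ orderOf g) = 2 := by
  classical
  haveI : Fact (Nat.Prime 3) := ⟨Nat.prime_three⟩
  obtain ⟨z, P, hP⟩ := id hJ
  obtain ⟨F⟩ := frame_exists hP
  obtain ⟨S⟩ := (Sylow.nonempty : Nonempty (Sylow 3 (Cen z)))
  have hSc : Nat.card (S : Subgroup (Cen z)) = 27 := by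
    rw [S.card_eq_multiplicity, F.card_cen, show 2 ^ 13 * 3 * 887040 = 3 ^ 3 * 807403520 by norm_num,
      Nat.factorization_mul (by norm_num) (by norm_num), Finsupp.add_apply,
      Nat.Prime.factorization_pow Nat.prime_three, Finsupp.single_eq_same,
      Nat.factorization_eq_zero_of_not_dvd (by norm_num)]
    norm_num
  have hG3 : (bigOrder).factorization 3 = 3 := by
    rw [show bigOrder = 3 ^ 3 * 3213910038743613440 by decide +kernel,
      Nat.factorization_mul (by norm_num) (by norm_num), Finsupp.add_apply,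
      Nat.Prime.factorization_pow Nat.prime_three, Finsupp.single_eq_same,
      Nat.factorization_eq_zero_of_not_dvd (by norm_num), add_zero]
  let R : Sylow 3 G := Sylow.ofCard ((S : Subgroup (Cen z)).map (Cen z).subtype) (by
    rw [Subgroup.card_map_of_injective (Cen z).subtype_injective, hSc, natCard_G hG hJ, hG3]
    norm_num)
  obtain ⟨-, -, hexp, -, -⟩ := Cfsg.Agent.S5565.result hG z ⟨P, hP⟩ R (map_subtype_le _)
  have h13 : ∀ g : G, OddOrd g → (∀ p ∈ [5, 7, 11, 23, 29, 31, 37, 43], ¬ p ∣ orderOf g) →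
      orderOf g = 1 ∨ orderOf g = 3 := by
    intro g hodd hnd
    have hd : orderOf g ∣ 3 ^ 3 * (2 ^ 21 * (5 * (7 * (11 ^ 3 * (23 * (29 * (31 * (37 * 43)))))))) := by
      have := orderOf_dvd_natCard g
      rwa [natCard_G hG hJ, show bigOrder = 3 ^ 3 * (2 ^ 21 * (5 * (7 * (11 ^ 3 *
        (23 * (29 * (31 * (37 * 43)))))))) by decide +kernel] at this
    have hc : ∀ p ∈ [5, 7, 11, 23, 29, 31, 37, 43], Nat.Coprime (orderOf g) p := by
      intro p hp
      have hp' : p.Prime := by
        simp only [List.mem_cons, List.not_mem_nil, or_false] at hp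
        rcases hp with rfl | rfl | rfl | rfl | rfl | rfl | rfl | rfl <;> norm_num
      exact ((hp'.coprime_iff_not_dvd).2 (hnd p hp)).symm
    have hc2 : Nat.Coprime (orderOf g) 2 := Nat.coprime_two_right.2 hodd
    have hcop : Nat.Coprime (orderOf g)
        (2 ^ 21 * (5 * (7 * (11 ^ 3 * (23 * (29 * (31 * (37 * 43)))))))) := by
      refine (hc2.pow_right 21).mul_right ?_
      exact (hc 5 (by simp)).mul_right ((hc 7 (by simp)).mul_right
        (((hc 11 (by simp)).pow_right 3).mul_right ((hc 23 (by simp)).mul_right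
          ((hc 29 (by simp)).mul_right ((hc 31 (by simp)).mul_right
            ((hc 37 (by simp)).mul_right (hc 43 (by simp))))))))
    obtain ⟨k, -, hk⟩ := (Nat.dvd_prime_pow Nat.prime_three).1 (hcop.dvd_of_dvd_mul_right hd)
    obtain ⟨c, hc'⟩ := exists_conj_mem_sylow R (isPGroup_zpowers (k := k) hk)
    have h3 : (c * g * c⁻¹) ^ 3 = 1 := by
      rw [← hexp]
      exact congrArg Subtype.val (Monoid.pow_exponent_eq_one (⟨_, hc'⟩ : (R : Subgroup G)))
    rw [conj_pow, conj_eq_one_iff] at h3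
    exact (Nat.dvd_prime Nat.prime_three).1 (orderOf_dvd_of_pow_eq_one h3)
  rw [classesIn_top, ncls_congr (T := fun g : G => orderOf g = 1 ∨ orderOf g = 3)
    fun g => ⟨fun h => h13 g h.1 h.2, ?_⟩,
    ncls_split _ (fun g : G => orderOf g = 1) fun a b h ha => (orderOf_of_isConj h).symm.trans ha,
    ncls_congr (S := fun g : G => (orderOf g = 1 ∨ orderOf g = 3) ∧ orderOf g = 1)
      (T := fun g : G => g = 1) fun g => by rw [orderOf_eq_one_iff]; tauto,
    ncls_congr (S := fun g : G => (orderOf g = 1 ∨ orderOf g = 3) ∧ ¬ orderOf g = 1)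
      (T := fun g : G => orderOf g = 3) fun g => by omega]
  rotate_left
  · intro h
    rcases h with h | h <;> refine ⟨?_, ?_⟩ <;> unfold OddOrd at * <;> rw [h] <;> decide
  obtain ⟨x, hx⟩ := exists_orderOf hG hJ Nat.prime_three (by decide +kernel)
  rw [ncls_eq_one (S := fun g : G => g = 1) (a := (1 : G)) rfl fun g (hg : g = 1) => by rw [hg],
    ncls_eq_one (a := x) hx fun g hg => Cfsg.Agent.S5564.result hG hJ g x hg hx]

end CfsgLib.J4Type.Classes
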