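import Cfsg.Agent.Lib.J4Type.Classes.RadZStab
import Cfsg.Agent.Lib.J4Type.Classes.Defs
import Cfsg.Agent.Lib.J4Type.NV.Basic
import Cfsg.Agent.Lib.Coprime.Complements

/-!
The classes of the centraliser of the central involution in the radical part: the products of an
element of order four of the radical with an element of odd order centralising it.
-/

set_option autoImplicit false

namespace CfsgLib.J4Type.Classes

open Cfsg Subgroup CfsgLib.J4Type CfsgLib.J4Type.Cert RadCert

/-- Elements of odd order with the same image modulo a kernel of two-power order are conjugate. -/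
theorem isConj_of_two_ker {K Q : Type*} [Group K] [Finite K] [Group Q] (f : K →* Q)
    (hker : IsPGroup 2 f.ker) {u w : K} (hu : Odd (orderOf u)) (hw : Odd (orderOf w))
    (he : f u = f w) : IsConj u w := by
  haveI : Fact (Nat.Prime 2) := ⟨Nat.prime_two⟩
  obtain ⟨a, ha⟩ := IsPGroup.iff_card.1 hker
  have hco : ∀ x : K, Odd (orderOf x) → (Nat.card (zpowers x)).Coprime (Nat.card f.ker) := by
    intro x hx
    rw [ha, Nat.card_zpowers]
    exact Nat.Coprime.pow_right a (Nat.coprime_two_right.2 hx)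
  have hinj : ∀ x : K, Odd (orderOf x) → ∀ j : ℕ, f x ^ j = 1 → x ^ j = 1 := by
    intro x hx j hj
    have h1 : x ^ j ∈ zpowers x ⊓ f.ker :=
      mem_inf.2 ⟨pow_mem (mem_zpowers x) j, MonoidHom.mem_ker.2 (by rw [map_pow, hj])⟩
    rwa [CfsgLib.Coprime.inf_eq_bot_of_coprime (hco x hx), mem_bot] at h1
  have hnorm : ∀ A : Subgroup K, A ≤ normalizer (f.ker : Set K) := fun A =>
    (normalizer_eq_top f.ker).symm ▸ le_top
  have hsup : f.ker ⊔ zpowers u = f.ker ⊔ zpowers w := by
    have h1 : ∀ x y : K, f x = f y → zpowers x ≤ f.ker ⊔ zpowers y := by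
      intro x y e
      refine zpowers_le.2 ?_
      have : x * y⁻¹ ∈ f.ker := MonoidHom.mem_ker.2 (by rw [map_mul, map_inv, e, mul_inv_cancel])
      simpa using mul_mem_sup this (mem_zpowers y)
    exact le_antisymm (sup_le le_sup_left (h1 u w he)) (sup_le le_sup_left (h1 w u he.symm))
  obtain ⟨n, hn, e⟩ := CfsgLib.Coprime.exists_conj_eq_of_coprime (hnorm _) (hnorm _) hsup
    (hco u hu) (hco w hw) (Or.inl inferInstance)
  have hwm : w ∈ (zpowers u).map (MulAut.conj n).toMonoidHom := e ▸ mem_zpowers w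
  obtain ⟨y, hy, hyw⟩ := Subgroup.mem_map.1 hwm
  obtain ⟨k, rfl⟩ := (mem_powers_iff_mem_zpowers.2 hy)
  change n * u ^ k * n⁻¹ = w at hyw
  have hfk : f (u ^ k) = f u := by
    have := congrArg f hyw
    rw [map_mul, map_mul, map_inv, MonoidHom.mem_ker.1 hn] at this
    simpa [he] using this
  have hk : u ^ k = u := by
    rcases Nat.eq_zero_or_pos k with rfl | hk
    · rw [pow_zero, map_one] at hfk
      have := hinj u hu 1 (by rw [pow_one, hfk])
      rw [pow_zero, ← this, pow_one]
    · have h2 := hinj u hu (k - 1) (by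
        have h3 : f u ^ (k - 1) * f u = f u := by
          rw [← pow_succ, show k - 1 + 1 = k by omega, ← map_pow, hfk]
        simpa using h3)
      conv_lhs => rw [show k = k - 1 + 1 by omega, pow_succ, h2, one_mul]
  exact isConj_iff.2 ⟨n, by rw [← hyw, hk]⟩

variable {G : Type*} [Group G] {z : G} {P : Subgroup G}

/-- An element of the radical with the vector 66. -/
noncomputable def radS (F : Frame z P) : G := (F.co_surj 66 (by norm_num)).choose

theorem radS_spec (F : Frame z P) :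
    radS F ∈ Rad z ∧ F.co (radS F) = 66 := (F.co_surj 66 (by norm_num)).choose_spec

/-- The centraliser of that element in the centraliser of `z`. -/
noncomputable def radC (F : Frame z P) : Subgroup G := Cen z ⊓ centralizer ({radS F} : Set G)

theorem radS_sq (F : Frame z P) : radS F * radS F = z := by
  rw [F.sq _ (radS_spec F).1, (radS_spec F).2, show qF 66 = true by decide]
  rfl

theorem radS_flip (F : Frame z P) : ∃ e ∈ Rad z, e * radS F * e⁻¹ = radS F * z := by
  obtain ⟨v, hv, hb⟩ : ∃ v < 4096, bF 66 v = true := by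
    have h : ((List.range 4096).any fun v => bF 66 v) = true := by decide +kernel
    obtain ⟨v, hv, hb⟩ := List.any_eq_true.1 h
    exact ⟨v, List.mem_range.1 hv, hb⟩
  obtain ⟨e, he, hev⟩ := F.co_surj v hv
  have hs := radS_spec F
  have h := F.comm_rad hs.1 he
  rw [hs.2, hev, hb] at h
  have h' : radS F * e = e * radS F * z := h
  refine ⟨e, he, ?_⟩
  have hzi : z⁻¹ = z := inv_eq_of_mul_eq_one_right F.z_mul_z
  have h2 : e * radS F = radS F * e * z := by
    rw [h', mul_assoc _ z z, F.z_mul_z, mul_one]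
  rw [h2, mul_assoc (radS F * e) z, F.z_comm (inv_mem (rad_le_Cen he)) |>.symm]
  group

/-- All elements of order four of the radical are conjugate in the centraliser. -/
theorem exists_to_radS (F : Frame z P) {s : G} (hs : s ∈ Rad z) (hsz : s * s = z) :
    ∃ h ∈ Cen z, h * radS F * h⁻¹ = s := by
  have hq : qF (F.co s) = true := by
    by_contra hq
    have := F.sq s hs
    rw [hsz, Bool.eq_false_iff.2 hq] at this
    exact F.z_ne this
  obtain ⟨m, hm, e⟩ := reach_of_qF (F.co_lt s hs) hq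
  obtain ⟨h, hh, hmat⟩ := F.mat_surj m hm
  have hhc : h ∈ Cen z := (Subgroup.mem_inf.1 hh).1
  have hx := F.rad_conj hhc (radS_spec F).1
  have hco : F.co (h * radS F * h⁻¹) = F.co s := by
    rw [F.conj_co hhc (radS_spec F).1, (radS_spec F).2, hmat, e]
  rcases F.eq_or_eq_mul_z hx hs hco with e1 | e1
  · exact ⟨h, hhc, e1⟩
  · obtain ⟨f, hf, hfe⟩ := radS_flip F
    refine ⟨h * f, mul_mem hhc (rad_le_Cen hf), ?_⟩
    have hz : h * z * h⁻¹ = z := by rw [F.z_comm hhc, mul_inv_cancel_right]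
    calc h * f * radS F * (h * f)⁻¹ = (h * (f * radS F * f⁻¹) * h⁻¹) := by group
      _ = (h * radS F * h⁻¹) * (h * z * h⁻¹) := by rw [hfe]; group
      _ = s := by rw [e1, hz, mul_assoc, F.z_mul_z, mul_one]

/-- The matrix of an element of the centraliser of that element, as a homomorphism. -/
noncomputable def radHom (F : Frame z P) : ↥(radC F) →* LGrp where
  toFun h := (⟨F.mat h, F.mat_inL h (Subgroup.mem_inf.1 h.2).1⟩ : LGrp)
  map_one' := Subtype.ext F.mat_one
  map_mul' a b := Subtype.ext (F.mat_mul a (Subgroup.mem_inf.1 a.2).1 b (Subgroup.mem_inf.1 b.2).1)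

theorem radHom_mem (F : Frame z P) (h : ↥(radC F)) : radHom F h ∈ stab66 := by
  obtain ⟨hc, hs⟩ := Subgroup.mem_inf.1 h.2
  have e : (h : G) * radS F * (h : G)⁻¹ = radS F := by
    rw [mem_centralizer_singleton_iff.1 hs, mul_inv_cancel_right]
  have := F.conj_co hc (radS_spec F).1
  rw [e, (radS_spec F).2] at this
  exact mem_stab66.2 this.symm

theorem radHom_surj (F : Frame z P) {a : LGrp} (ha : a ∈ stab66) :
    ∃ h : ↥(radC F), radHom F h = a := by
  obtain ⟨h, hh, hmat⟩ := F.mat_surj a.1 a.2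
  have hhc : h ∈ Cen z := (Subgroup.mem_inf.1 hh).1
  have hs := radS_spec F
  have hco : F.co (h * radS F * h⁻¹) = F.co (radS F) := by
    rw [F.conj_co hhc hs.1, hs.2, hmat]
    exact mem_stab66.1 ha
  rcases F.eq_or_eq_mul_z (F.rad_conj hhc hs.1) hs.1 hco with e1 | e1
  · exact ⟨⟨h, Subgroup.mem_inf.2 ⟨hhc, mem_centralizer_singleton_iff.2 (mul_inv_eq_iff_eq_mul.1 e1)⟩⟩,
      Subtype.ext hmat⟩
  · obtain ⟨f, hf, hfe⟩ := radS_flip F
    have hz : h * z * h⁻¹ = z := by rw [F.z_comm hhc, mul_inv_cancel_right]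
    have e2 : h * f * radS F * (h * f)⁻¹ = radS F := by
      calc h * f * radS F * (h * f)⁻¹ = (h * (f * radS F * f⁻¹) * h⁻¹) := by group
        _ = (h * radS F * h⁻¹) * (h * z * h⁻¹) := by rw [hfe]; group
        _ = radS F := by rw [e1, hz, mul_assoc, F.z_mul_z, mul_one]
    refine ⟨⟨h * f, Subgroup.mem_inf.2 ⟨mul_mem hhc (rad_le_Cen hf),
      mem_centralizer_singleton_iff.2 (mul_inv_eq_iff_eq_mul.1 e2)⟩⟩, Subtype.ext ?_⟩
    show F.mat (h * f) = a.1
    rw [F.mat_mul _ hhc _ (rad_le_Cen hf), (F.mat_eq_id f (rad_le_Cen hf)).2 hf, ← hmat,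
      (F.mat_inL h hhc).mm_idM]

theorem rad_pow_four (F : Frame z P) {x : G} (hx : x ∈ Rad z) : x ^ 4 = 1 := by
  rw [show (4 : ℕ) = 2 * 2 from rfl, pow_mul, pow_two x, F.sq x hx]
  split
  · rw [pow_two, F.z_mul_z]
  · rw [one_pow]

theorem radHom_ker (F : Frame z P) : IsPGroup 2 (radHom F).ker := by
  intro x
  refine ⟨2, Subtype.ext (Subtype.ext ?_)⟩
  have hm : F.mat ((x : ↥(radC F)) : G) = idM := congrArg (fun a : LGrp => a.1) (MonoidHom.mem_ker.1 x.2)
  exact rad_pow_four F ((F.mat_eq_id _ (Subgroup.mem_inf.1 (x : ↥(radC F)).2).1).1 hm)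

theorem exists_radRep (F : Frame z P) [Finite G] (k : Fin 5) :
    ∃ u : ↥(radC F), Odd (orderOf u) ∧ radHom F u = repQ k := by
  obtain ⟨g, hg⟩ := radHom_surj F (repQ_spec k).2
  obtain ⟨a, m, hm, hgo⟩ := Nat.exists_eq_two_pow_mul_odd (orderOf_pos g).ne'
  obtain ⟨j, hj⟩ := exists_pow_eq_self_of_coprime (x := repQ k) (n := 2 ^ a)
    (Nat.Coprime.pow_left a (Nat.coprime_two_left.2 (repQ_odd k)))
  refine ⟨(g ^ 2 ^ a) ^ j, ?_, by rw [map_pow, map_pow, hg, hj]⟩
  refine hm.of_dvd_nat (orderOf_dvd_of_pow_eq_one ?_)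
  rw [← pow_mul g, ← pow_mul, show 2 ^ a * j * m = orderOf g * j by rw [hgo]; ring, pow_mul,
    pow_orderOf_eq_one, one_pow]

/-- The factor of two-power order is recovered from the product. -/
theorem radPow (F : Frame z P) {s u : G} (hc : Commute u s) (hs : s ∈ Rad z) {n : ℕ} (hn : Odd n)
    (hu : u ^ n = 1) : (u * s) ^ (n * n) = s := by
  rw [hc.mul_pow, pow_mul u, hu, one_pow, one_mul]
  obtain ⟨j, rfl⟩ := hn
  rw [show (2 * j + 1) * (2 * j + 1) = 4 * (j * j + j) + 1 by ring, pow_succ, pow_mul,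
    rad_pow_four F hs, one_pow, one_mul]

theorem radC_comm (F : Frame z P) (x : ↥(radC F)) : Commute (x : G) (radS F) :=
  mem_centralizer_singleton_iff.1 (Subgroup.mem_inf.1 x.2).2

theorem radPart_mul (F : Frame z P) [Finite G] {u : ↥(radC F)} (hu : Odd (orderOf u)) :
    RadPart (Rad z) z ((u : G) * radS F) := by
  have hc := radC_comm F u
  have hs := radS_spec F
  have ho : Odd (orderOf (u : G)) := by rwa [Subgroup.orderOf_coe]
  have hun : (u : G) ^ orderOf (u : G) = 1 := pow_orderOf_eq_one _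
  refine ⟨?_, fun h => ?_, orderOf (u : G), ho, ?_⟩
  · have h1 := radPow F hc hs.1 ho hun
    have hm : ((u : G) * radS F) ^ (orderOf (u : G) * orderOf (u : G)) ∈
        zpowers ((u : G) * radS F) := pow_mem (mem_zpowers _) _
    have h0 := mul_mem hm hm
    rwa [h1, radS_sq F] at h0
  · have h1 : ((u : G) * radS F * z) ^ (orderOf ((u : G) * radS F * z)) = 1 := pow_orderOf_eq_one _
    have hsz : radS F * z ∈ Rad z := mul_mem hs.1 F.z_mem_rad
    have hcs : Commute (u : G) (radS F * z) :=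
      hc.mul_right (F.z_comm (Subgroup.mem_inf.1 u.2).1)
    obtain ⟨n, hn, e⟩ : ∃ n, Odd n ∧ (u : G) ^ n = 1 ∧ ((u : G) * radS F * z) ^ n = 1 :=
      ⟨_, ho.mul h, by rw [pow_mul, hun, one_pow], by rw [mul_comm, pow_mul, h1, one_pow]⟩
    have h2 := radPow F hcs hsz hn e.1
    rw [← mul_assoc, pow_mul, e.2, one_pow] at h2
    have h3 : radS F * radS F * (z * z) = 1 := by
      calc radS F * radS F * (z * z) = radS F * z * (radS F * z) := by
            simp only [mul_assoc]
            rw [← mul_assoc z (radS F) z, ← F.z_comm_rad hs.1, mul_assoc (radS F) z z]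
        _ = 1 := by rw [← h2, one_mul]
    rw [F.z_mul_z, mul_one, radS_sq F] at h3
    exact F.z_ne h3
  · rw [hc.mul_pow, hun, one_mul]
    exact pow_mem hs.1 _

theorem radPart_decomp (F : Frame z P) [Finite G] {g : G} (hg : g ∈ Cen z)
    (h : RadPart (Rad z) z g) :
    ∃ u s : G, s ∈ Rad z ∧ s * s = z ∧ u ∈ Cen z ∧ Commute u s ∧ Odd (orderOf u) ∧ g = u * s := by
  obtain ⟨hz, hno, n, hn, hgn⟩ := h
  obtain ⟨j, hj⟩ := hn
  obtain ⟨l, hl⟩ : ∃ l, n * n = 4 * l + 1 := ⟨j * j + j, by rw [hj]; ring⟩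
  set s := g ^ (n * n) with hsd
  have hs : s ∈ Rad z := by rw [hsd, pow_mul]; exact pow_mem hgn n
  have hu : (g * s⁻¹) ^ n = 1 := by
    have h4 : g ^ (4 * n) = 1 := by rw [mul_comm, pow_mul, rad_pow_four F hgn]
    rw [hsd, ((Commute.self_pow g (n * n)).inv_right).mul_pow, inv_pow, ← pow_mul, hl,
      show (4 * l + 1) * n = 4 * n * l + n by ring, pow_add, pow_mul, h4, one_pow, one_mul,
      mul_inv_cancel]
  have hodd : Odd (orderOf (g * s⁻¹)) := Odd.of_dvd_nat ⟨j, hj⟩ (orderOf_dvd_of_pow_eq_one hu)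
  have hcomm : Commute (g * s⁻¹) s :=
    ((Commute.self_pow g (n * n)).mul_left ((Commute.refl s).inv_left))
  refine ⟨g * s⁻¹, s, hs, ?_, mul_mem hg (inv_mem (rad_le_Cen hs)), hcomm, hodd, by group⟩
  rw [F.sq s hs]
  split
  · rfl
  · rename_i hq
    exfalso
    have hs2 : s * s = 1 := by rw [F.sq s hs, if_neg hq]
    obtain ⟨i, hi⟩ := mem_powers_iff_mem_zpowers.2 hz
    change g ^ i = z at hi
    have hzs : s ^ i = z := by
      rw [hsd, ← pow_mul, mul_comm, pow_mul, hi]
      rw [hl, pow_succ, pow_mul, show z ^ 4 = 1 from rad_pow_four F F.z_mem_rad, one_pow, one_mul]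
    rcases Nat.even_or_odd i with ⟨t, ht⟩ | ⟨t, ht⟩
    · rw [ht, ← two_mul, pow_mul, pow_two, hs2, one_pow] at hzs
      exact F.z_ne hzs.symm
    · rw [ht, pow_succ, pow_mul, pow_two, hs2, one_pow, one_mul] at hzs
      refine hno ?_
      have hgz : g * z = g * s⁻¹ := by
        rw [hzs, inv_eq_of_mul_eq_one_right F.z_mul_z]
      rw [hgz]
      exact hodd

/-- The classes of the centraliser in the radical part. -/
theorem rad_z [Finite G] (F : Frame z P) : classesIn (Cen z) (RadPart (Rad z) z) = 5 := by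
  choose u huo hue using exists_radRep F
  have hmemC : ∀ x : ↥(radC F), (x : G) ∈ Cen z := fun x => (Subgroup.mem_inf.1 x.2).1
  let rep : Fin 5 → ↥(Cen z) := fun k =>
    ⟨(u k : G) * radS F, mul_mem (hmemC _) (rad_le_Cen (radS_spec F).1)⟩
  let Φ : Fin 5 → {c : ConjClasses ↥(Cen z) //
      ∃ h : ↥(Cen z), ConjClasses.mk h = c ∧ RadPart (Rad z) z h} := fun k =>
    ⟨ConjClasses.mk (rep k), rep k, rfl, radPart_mul F (huo k)⟩
  have hΦ : Function.Bijective Φ := by
    constructor
    · intro k l e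
      obtain ⟨⟨c, hc⟩, hce⟩ := isConj_iff.1 (ConjClasses.mk_eq_mk_iff_isConj.1 (congrArg Subtype.val e))
      have hce' : c * ((u k : G) * radS F) * c⁻¹ = (u l : G) * radS F := congrArg Subtype.val hce
      set N := orderOf (u k : G) * orderOf (u l : G) with hN
      have hNo : Odd N := by
        rw [hN, Subgroup.orderOf_coe, Subgroup.orderOf_coe]; exact (huo k).mul (huo l)
      have e1 : (u k : G) ^ N = 1 := by rw [hN, pow_mul, pow_orderOf_eq_one, one_pow]
      have e2 : (u l : G) ^ N = 1 := by rw [hN, mul_comm, pow_mul, pow_orderOf_eq_one, one_pow]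
      have hcs : c * radS F * c⁻¹ = radS F := by
        have h := congrArg (· ^ (N * N)) hce'
        simp only [conj_pow] at h
        rwa [radPow F (radC_comm F _) (radS_spec F).1 hNo e1,
          radPow F (radC_comm F _) (radS_spec F).1 hNo e2] at h
      let c' : ↥(radC F) := ⟨c, Subgroup.mem_inf.2 ⟨hc,
        mem_centralizer_singleton_iff.2 (mul_inv_eq_iff_eq_mul.1 hcs)⟩⟩
      have hcu : c' * u k * c'⁻¹ = u l := by
        refine Subtype.ext (mul_right_cancel (b := radS F) ?_)
        show c * (u k : G) * c⁻¹ * radS F = (u l : G) * radS F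
        calc c * (u k : G) * c⁻¹ * radS F = c * (u k : G) * c⁻¹ * (c * radS F * c⁻¹) := by rw [hcs]
          _ = c * ((u k : G) * radS F) * c⁻¹ := by group
          _ = (u l : G) * radS F := hce'
      refine repQ_inj (radHom_mem F c') ?_
      rw [← hue k, ← hue l, ← map_inv, ← map_mul, ← map_mul, hcu]
    · rintro ⟨_, ⟨g, hg⟩, rfl, hp⟩
      obtain ⟨v, s, hs, hss, hv, hcomm, hvo, rfl⟩ := radPart_decomp F hg hp
      obtain ⟨h, hh, hhs⟩ := exists_to_radS F hs hss
      have hw : h⁻¹ * v * h ∈ radC F := by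
        refine Subgroup.mem_inf.2 ⟨mul_mem (mul_mem (inv_mem hh) hv) hh,
          mem_centralizer_singleton_iff.2 ?_⟩
        have := hcomm.eq
        rw [← hhs] at this
        calc h⁻¹ * v * h * radS F = h⁻¹ * (v * (h * radS F * h⁻¹)) * h := by group
          _ = radS F * (h⁻¹ * v * h) := by rw [this]; group
      set w : ↥(radC F) := ⟨_, hw⟩ with hwd
      have hwo : Odd (orderOf w) := by
        rw [← Subgroup.orderOf_coe, hwd]
        show Odd (orderOf (h⁻¹ * v * h))
        rwa [show h⁻¹ * v * h = MulAut.conj h⁻¹ v by simp, MulEquiv.orderOf_eq]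
      obtain ⟨k, a, ha, hak⟩ := repQ_surj (radHom_mem F w)
        (Odd.of_dvd_nat hwo (orderOf_map_dvd _ _))
      obtain ⟨b, hb⟩ := radHom_surj F ha
      have hconj : IsConj (b * u k * b⁻¹) w := by
        refine isConj_of_two_ker (radHom F) (radHom_ker F) ?_ hwo ?_
        · rw [show b * u k * b⁻¹ = MulAut.conj b (u k) by simp, MulEquiv.orderOf_eq]
          exact huo k
        · rw [map_mul, map_mul, map_inv, hb, hue, hak]
      obtain ⟨d, hd⟩ := isConj_iff.1 hconj
      have hd' : ((d * b : ↥(radC F)) : G) * (u k : G) * ((d * b : ↥(radC F)) : G)⁻¹ = h⁻¹ * v * h := by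
        have := congrArg (Subtype.val) hd
        push_cast at this ⊢
        rw [show h⁻¹ * v * h = (w : G) from rfl, ← this]
        group
      refine ⟨k, Subtype.ext (ConjClasses.mk_eq_mk_iff_isConj.2 (isConj_iff.2
        ⟨⟨h * ((d * b : ↥(radC F)) : G), mul_mem hh (hmemC _)⟩, Subtype.ext ?_⟩))⟩
      set q : G := ((d * b : ↥(radC F)) : G) with hq
      have hqs : q * radS F * q⁻¹ = radS F := by
        rw [(radC_comm F (d * b)).eq, mul_inv_cancel_right]
      show h * q * ((u k : G) * radS F) * (h * q)⁻¹ = v * s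
      calc h * q * ((u k : G) * radS F) * (h * q)⁻¹
          = h * ((q * (u k : G) * q⁻¹) * (q * radS F * q⁻¹)) * h⁻¹ := by group
        _ = v * (h * radS F * h⁻¹) := by rw [hd', hqs]; group
        _ = v * s := by rw [hhs]
  rw [classesIn, ← Nat.card_congr (Equiv.ofBijective Φ hΦ), Nat.card_fin]

end CfsgLib.J4Type.Classes
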