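import Cfsg.Agent.Lib.J4Type.Classes.RadZData
import Cfsg.Agent.Lib.J4Type.Cert.Oval

/-!
The checks of the tables of the radical part.
-/

set_option autoImplicit false
set_option maxRecDepth 100000

namespace CfsgLib.J4Type.Classes.RadCert

open CfsgLib.J4Type CfsgLib.J4Type.Cert

/-- A point of the orbit. -/
def orbAt (i : ℕ) : ℕ := getC orbTab 0 i

/-- A generator of the stabiliser. -/
def gAt (j : ℕ) : List ℕ := genTab.getD j idM

/-- An element of the stabiliser. -/
def eAt (i : ℕ) : List ℕ := getC elsTab idM i

/-- An entry of a table. -/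
def at' (t : List (List ℕ)) (i : ℕ) : ℕ := getC t 0 i

/-- An element conjugated by a generator. -/
def cjAt (j i : ℕ) : ℕ := getC (conjTab.getD j []) 0 i

/-- A number attached to a matrix. -/
def key (m : List ℕ) : ℕ := m.foldr (fun x acc => x + 4096 * acc) 0

/-- The matrix of a word in the generators. -/
def wordM (w : List ℕ) : List ℕ := w.foldr (fun i m => mm (gensL.getD i idM) m) idM

/-- The eighth power of an element, by its position. -/
def eighth (i : ℕ) : ℕ := at' sqTab (at' sqTab (at' sqTab i))

theorem orb_ok : (Nat.beq (orbAt 0) 66 && (List.range 2016).all fun i =>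
    Nat.blt (orbAt i) 4096 && Nat.beq (at' orbPos (orbAt i)) i &&
    (Nat.beq i 0 || (Nat.blt (getC orbPar (0, 0) i).2 i && Nat.blt (getC orbPar (0, 0) i).1 5 &&
      Nat.beq (mv (gensX.getD (getC orbPar (0, 0) i).1 noMap) (orbAt (getC orbPar (0, 0) i).2))
        (orbAt i)))) = true := by
  decide +kernel

theorem orb_cover : ((List.range 4096).all fun v => !qF v ||
    (Nat.blt (at' orbPos v) 2016 && Nat.beq (orbAt (at' orbPos v)) v)) = true := by
  decide +kernel

theorem gen_ok : ((List.range 2).all fun j =>
    (genWords.getD j []).all (fun i => Nat.blt i 6) && wordM (genWords.getD j []) == gAt j &&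
      Nat.beq (mv (gAt j) 66) 66) = true := by
  decide +kernel

theorem els_ok : (eAt 0 == idM && (List.range 1320).all fun i =>
    Nat.beq i 0 || (Nat.blt (getC elsPar (0, 0) i).2 i && Nat.blt (getC elsPar (0, 0) i).1 2 &&
      mm (gAt (getC elsPar (0, 0) i).1) (eAt (getC elsPar (0, 0) i).2) == eAt i)) = true := by
  decide +kernel

theorem srt_ok : ((List.range 1320).all fun a => Nat.blt (at' elsSrt a) 1320 &&
    (Nat.beq a 0 || Nat.blt (key (eAt (at' elsSrt (a - 1)))) (key (eAt (at' elsSrt a))))) = true := by
  decide +kernel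

theorem conj_ok : ((List.range 2).all fun j => (List.range 1320).all fun i =>
    Nat.blt (cjAt j i) 1320 && mm (gAt j) (eAt i) == mm (eAt (cjAt j i)) (gAt j) &&
      Nat.beq (at' labTab (cjAt j i)) (at' labTab i)) = true := by
  decide +kernel

theorem sq_ok : ((List.range 1320).all fun i =>
    Nat.blt (at' sqTab i) 1320 && mm (eAt i) (eAt i) == eAt (at' sqTab i) &&
      Nat.blt (at' labTab (eighth i)) 5) = true := by
  decide +kernel

theorem cls_ok : ((List.range 1320).all fun i => !Nat.blt (at' labTab i) 5 ||
    (Nat.blt (at' clsPos i) 495 && Nat.beq (at' clsTab (at' clsPos i)) i)) = true := by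
  decide +kernel

theorem clsPar_ok : ((List.range 495).all fun a => Nat.blt (at' clsTab a) 1320 &&
    Nat.blt (at' labTab (at' clsTab a)) 5 &&
    (Nat.beq (getC clsPar (0, 0) a).1 2 &&
        Nat.beq (clsRep.getD (at' labTab (at' clsTab a)) 0) (at' clsTab a) ||
      (Nat.blt (getC clsPar (0, 0) a).1 2 && Nat.blt (getC clsPar (0, 0) a).2 a &&
        Nat.beq (cjAt (getC clsPar (0, 0) a).1 (at' clsTab (getC clsPar (0, 0) a).2))
          (at' clsTab a)))) = true := by
  decide +kernel

theorem rep_ok : ((List.range 5).all fun k => Nat.blt (clsRep.getD k 0) 1320 &&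
    Nat.beq (at' labTab (clsRep.getD k 0)) k &&
    (List.replicate 165 (eAt (clsRep.getD k 0))).foldr mm idM == idM) = true := by
  decide +kernel

end CfsgLib.J4Type.Classes.RadCert
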