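import Cfsg.Agent.Lib.J4Type.Classes.RadZChecks

/-!
The stabiliser of the vector 66 in the group of matrices of the centraliser: it has five classes of
elements of odd order.
-/

set_option autoImplicit false

namespace CfsgLib.J4Type.Classes.RadCert

open Subgroup CfsgLib.J4Type CfsgLib.J4Type.Cert

/-- The stabiliser of the vector 66. -/
noncomputable def stab66 : Subgroup LGrp := MulAction.stabilizer LGrp (66 : Fin 4096)

theorem mem_stab66 {a : LGrp} : a ∈ stab66 ↔ mv a.1 66 = 66 := by
  rw [stab66, MulAction.mem_stabilizer_iff, Fin.ext_iff, val_smul]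
  exact Iff.rfl

theorem orbit_reach : ∀ i < 2016, ∃ m, InX m ∧ mv m 66 = orbAt i := by
  have h := orb_ok
  simp only [Bool.and_eq_true, List.all_eq_true, List.mem_range, Bool.or_eq_true] at h
  intro i
  induction i using Nat.strong_induction_on with
  | _ i ih =>
    intro hi
    rcases (h.2 i hi).2 with e | ⟨⟨h1, h2⟩, e⟩
    · refine ⟨idM, InX.one, ?_⟩
      rw [Nat.eq_of_beq_eq_true e, Nat.eq_of_beq_eq_true h.1, mv_idM (by norm_num)]
    · obtain ⟨m, hm, e'⟩ := ih _ (blt_lt h1) ((blt_lt h1).trans hi)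
      refine ⟨_, InX.mul _ (gensX_mem (blt_lt h2)) hm, ?_⟩
      rw [mv_mm, e']
      exact Nat.eq_of_beq_eq_true e

/-- Every nonsingular vector is an image of the vector 66. -/
theorem reach_of_qF {v : ℕ} (hv : v < 4096) (hq : qF v = true) : ∃ m, InL m ∧ mv m 66 = v := by
  have h := List.all_eq_true.1 orb_cover v (List.mem_range.2 hv)
  simp only [hq, Bool.not_true, Bool.false_or, Bool.and_eq_true] at h
  obtain ⟨m, hm, e⟩ := orbit_reach _ (blt_lt h.1)
  exact ⟨m, hm.inL, e.trans (Nat.eq_of_beq_eq_true h.2)⟩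

theorem card_orbit_ge : 2016 ≤ Nat.card (MulAction.orbit LGrp (66 : Fin 4096)) := by
  have h := orb_ok
  simp only [Bool.and_eq_true, List.all_eq_true, List.mem_range] at h
  have hmem : ∀ i : Fin 2016, ∃ x ∈ MulAction.orbit LGrp (66 : Fin 4096),
      (x : ℕ) = orbAt i := by
    intro i
    obtain ⟨m, hm, e⟩ := orbit_reach i i.2
    let a : LGrp := ⟨m, hm.inL⟩
    exact ⟨a • (66 : Fin 4096), MulAction.mem_orbit _ _, e⟩
  choose x hx hxe using hmem
  have hinj : Function.Injective (fun i => (⟨x i, hx i⟩ : MulAction.orbit LGrp (66 : Fin 4096))) := by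
    intro i j e
    have e' : orbAt i = orbAt j := by
      rw [← hxe i, ← hxe j]
      exact congrArg (fun y : MulAction.orbit LGrp (66 : Fin 4096) => ((y.1 : Fin 4096) : ℕ)) e
    refine Fin.ext ?_
    rw [← Nat.eq_of_beq_eq_true (h.2 i i.2).1.2, e', Nat.eq_of_beq_eq_true (h.2 j j.2).1.2]
  have := Nat.card_le_card_of_injective _ hinj
  simpa using this

theorem card_stab66_le : Nat.card stab66 ≤ 1320 := by
  have hos : Nat.card (MulAction.orbit LGrp (66 : Fin 4096)) * Nat.card stab66 = Nat.card LGrp := by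
    rw [Nat.card_coe_set_eq, ← MulAction.index_stabilizer LGrp (66 : Fin 4096)]
    exact Subgroup.index_mul_card _
  rw [card_LGrp] at hos
  have := card_orbit_ge
  nlinarith

theorem inL_wordM : ∀ w : List ℕ, (∀ i ∈ w, i < 6) → InL (wordM w)
  | [], _ => InL.one
  | i :: w, h => InL.mul _ (by
      have hi := h i List.mem_cons_self
      interval_cases i <;> simp [gensL]) (inL_wordM w fun j hj => h j (List.mem_cons_of_mem _ hj))

theorem gen_spec (j : ℕ) (hj : j < 2) : InL (gAt j) ∧ mv (gAt j) 66 = 66 := by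
  have h := List.all_eq_true.1 gen_ok j (List.mem_range.2 hj)
  simp only [Bool.and_eq_true, List.all_eq_true, beq_iff_eq] at h
  exact ⟨h.1.2 ▸ inL_wordM _ fun i hi => blt_lt (h.1.1 i hi), Nat.eq_of_beq_eq_true h.2⟩

/-- A generator of the stabiliser as an element of the group. -/
def genL (j : ℕ) (hj : j < 2) : LGrp := ⟨gAt j, (gen_spec j hj).1⟩

theorem genL_mem (j : ℕ) (hj : j < 2) : genL j hj ∈ stab66 := mem_stab66.2 (gen_spec j hj).2

/-- The elements of the table are in the stabiliser and are products of the generators. -/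
theorem els_induction {S : LGrp → Prop} (h1 : S 1)
    (hg : ∀ j (hj : j < 2) (a : LGrp), a ∈ stab66 → S a → S (genL j hj * a)) :
    ∀ i < 1320, ∃ a : LGrp, a.1 = eAt i ∧ a ∈ stab66 ∧ S a := by
  have h := els_ok
  simp only [Bool.and_eq_true, List.all_eq_true, List.mem_range, Bool.or_eq_true, beq_iff_eq] at h
  intro i
  induction i using Nat.strong_induction_on with
  | _ i ih =>
    intro hi
    rcases h.2 i hi with e | ⟨⟨e1, e2⟩, e3⟩
    · exact ⟨1, by rw [Nat.eq_of_beq_eq_true e, h.1]; rfl, one_mem _, h1⟩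
    · obtain ⟨a, ea, ha, hS⟩ := ih _ (blt_lt e1) ((blt_lt e1).trans hi)
      refine ⟨genL _ (blt_lt e2) * a, ?_, mul_mem (genL_mem _ _) ha, hg _ _ a ha hS⟩
      rw [LGrp.val_mul, ea, ← e3]
      rfl

theorem els_inj {i j : ℕ} (hi : i < 1320) (hj : j < 1320) (e : eAt i = eAt j) : i = j := by
  have h := srt_ok
  simp only [List.all_eq_true, List.mem_range, Bool.and_eq_true, Bool.or_eq_true] at h
  let f : Fin 1320 → Fin 1320 := fun a => ⟨at' elsSrt a, blt_lt (h a a.2).1⟩
  have hmono : ∀ a b : ℕ, a < b → b < 1320 →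
      key (eAt (at' elsSrt a)) < key (eAt (at' elsSrt b)) := by
    intro a b hab hb
    induction b with
    | zero => omega
    | succ b ih =>
      have hstep : key (eAt (at' elsSrt b)) < key (eAt (at' elsSrt (b + 1))) := by
        rcases (h (b + 1) hb).2 with e' | e'
        · exact absurd (Nat.eq_of_beq_eq_true e') (by omega)
        · exact blt_lt e'
      rcases Nat.lt_or_ge a b with hlt | hge
      · exact (ih hlt (by omega)).trans hstep
      · rw [show a = b by omega]; exact hstep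
  have hkey : ∀ a b : Fin 1320, key (eAt (f a)) = key (eAt (f b)) → a = b := by
    intro a b e'
    rcases Nat.lt_trichotomy (a : ℕ) b with hl | hl | hl
    · exact absurd e' (hmono a b hl b.2).ne
    · exact Fin.ext hl
    · exact absurd e' (hmono b a hl a.2).ne'
  have hf : Function.Surjective f :=
    Finite.injective_iff_surjective.1 fun a b e' => hkey a b (by rw [e'])
  obtain ⟨a, ha⟩ := hf ⟨i, hi⟩
  obtain ⟨b, hb⟩ := hf ⟨j, hj⟩
  have := hkey a b (by rw [ha, hb]; exact congrArg key e)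
  subst this
  exact congrArg Fin.val (ha.symm.trans hb)

/-- The table is the whole stabiliser. -/
theorem exists_index {a : LGrp} (ha : a ∈ stab66) : ∃ i < 1320, a.1 = eAt i := by
  have hex : ∀ i : Fin 1320, ∃ b : stab66, (b : LGrp).1 = eAt i := fun i => by
    obtain ⟨b, e, hb, -⟩ := els_induction (S := fun _ => True) trivial (fun _ _ _ _ _ => trivial) i i.2
    exact ⟨⟨b, hb⟩, e⟩
  choose b hb using hex
  have hinj : Function.Injective b := fun i j e =>
    Fin.ext (els_inj i.2 j.2 (by rw [← hb, ← hb, e]))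
  have hbij : Function.Bijective b := (Nat.bijective_iff_injective_and_card b).2 ⟨hinj, by
    have := Nat.card_le_card_of_injective b hinj
    have := card_stab66_le
    rw [Nat.card_fin] at *
    omega⟩
  obtain ⟨i, hi⟩ := hbij.2 ⟨a, ha⟩
  exact ⟨i, i.2, by rw [← hb i, hi]⟩

theorem cj_lt {j i : ℕ} (hj : j < 2) (hi : i < 1320) : cjAt j i < 1320 := by
  have h := List.all_eq_true.1 (List.all_eq_true.1 conj_ok j (List.mem_range.2 hj)) i
    (List.mem_range.2 hi)
  simp only [Bool.and_eq_true] at h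
  exact blt_lt h.1.1

theorem conj_step {j i : ℕ} (hj : j < 2) (hi : i < 1320) {x : LGrp} (hx : x.1 = eAt i) :
    (genL j hj * x * (genL j hj)⁻¹).1 = eAt (cjAt j i) ∧
      at' labTab (cjAt j i) = at' labTab i := by
  have h := List.all_eq_true.1 (List.all_eq_true.1 conj_ok j (List.mem_range.2 hj)) i
    (List.mem_range.2 hi)
  simp only [Bool.and_eq_true, beq_iff_eq] at h
  refine ⟨?_, Nat.eq_of_beq_eq_true h.2⟩
  obtain ⟨y, hy, -, -⟩ := els_induction (S := fun _ => True) trivial (fun _ _ _ _ _ => trivial)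
    (cjAt j i) (cj_lt hj hi)
  have e : genL j hj * x = y * genL j hj := by
    apply LGrp.ext
    rw [LGrp.val_mul, LGrp.val_mul, hx, hy]
    exact h.1.2
  rw [e, mul_inv_cancel_right, hy]

/-- Conjugation in the stabiliser keeps the label. -/
theorem label_conj {a : LGrp} (ha : a ∈ stab66) : ∀ {x : LGrp} {i k : ℕ}, i < 1320 → k < 1320 →
    x.1 = eAt i → (a * x * a⁻¹).1 = eAt k → at' labTab k = at' labTab i := by
  obtain ⟨n, hn, hna⟩ := exists_index ha
  obtain ⟨b, hb, -, hS⟩ := els_induction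
    (S := fun a => ∀ {x : LGrp} {i k : ℕ}, i < 1320 → k < 1320 → x.1 = eAt i →
      (a * x * a⁻¹).1 = eAt k → at' labTab k = at' labTab i)
    (fun {x i k} hi hk hx h => by
      rw [one_mul, inv_one, mul_one] at h
      rw [els_inj hi hk (hx.symm.trans h)])
    (fun j hj a ha hS {x i k} hi hk hx h => by
      have hxs : x ∈ stab66 := by
        obtain ⟨y, hy, hys, -⟩ := els_induction (S := fun _ => True) trivial
          (fun _ _ _ _ _ => trivial) i hi
        rwa [LGrp.ext (hx.trans hy.symm)]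
      obtain ⟨m, hm, hma⟩ := exists_index (mul_mem (mul_mem ha hxs) (inv_mem ha))
      obtain ⟨h1, h2⟩ := conj_step hj hm hma
      rw [show genL j hj * a * x * (genL j hj * a)⁻¹ =
        genL j hj * (a * x * a⁻¹) * (genL j hj)⁻¹ by group, h1] at h
      rw [← els_inj (cj_lt hj hm) hk h, h2, hS hi hm hx hma]) n hn
  rw [show a = b from LGrp.ext (hna.trans hb.symm)]
  exact hS

theorem exists_repQ (k : Fin 5) :
    ∃ a : LGrp, a.1 = eAt (clsRep.getD k 0) ∧ a ∈ stab66 := by
  have h := List.all_eq_true.1 rep_ok k (List.mem_range.2 k.2)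
  simp only [Bool.and_eq_true] at h
  obtain ⟨a, h1, h2, -⟩ := els_induction (S := fun _ => True) trivial
    (fun _ _ _ _ _ => trivial) _ (blt_lt h.1.1)
  exact ⟨a, h1, h2⟩

/-- A representative of a class of elements of odd order. -/
noncomputable def repQ (k : Fin 5) : LGrp := (exists_repQ k).choose

theorem repQ_spec (k : Fin 5) : (repQ k).1 = eAt (clsRep.getD k 0) ∧ repQ k ∈ stab66 :=
  (exists_repQ k).choose_spec

theorem repQ_odd (k : Fin 5) : Odd (orderOf (repQ k)) := by
  have h := List.all_eq_true.1 rep_ok k (List.mem_range.2 k.2)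
  simp only [Bool.and_eq_true, beq_iff_eq] at h
  have hpow : ∀ n : ℕ, (repQ k ^ n).1 = (List.replicate n (eAt (clsRep.getD k 0))).foldr mm idM := by
    intro n
    induction n with
    | zero => rfl
    | succ n ih =>
      rw [pow_succ', LGrp.val_mul, ih, (repQ_spec k).1, List.replicate_succ, List.foldr_cons]
  have h1 : repQ k ^ 165 = 1 := LGrp.ext (by rw [hpow, h.2]; rfl)
  exact Odd.of_dvd_nat (by decide) (orderOf_dvd_of_pow_eq_one h1)

theorem repQ_inj {k l : Fin 5} {a : LGrp} (ha : a ∈ stab66) (h : a * repQ k * a⁻¹ = repQ l) :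
    k = l := by
  have hk := List.all_eq_true.1 rep_ok k (List.mem_range.2 k.2)
  have hl := List.all_eq_true.1 rep_ok l (List.mem_range.2 l.2)
  simp only [Bool.and_eq_true] at hk hl
  have := label_conj ha (blt_lt hk.1.1) (blt_lt hl.1.1) (repQ_spec k).1
    (by rw [h]; exact (repQ_spec l).1)
  exact Fin.ext (by rw [← Nat.eq_of_beq_eq_true hk.1.2, ← this, Nat.eq_of_beq_eq_true hl.1.2])

/-- Every element of odd order is conjugate to a representative. -/
theorem repQ_surj {x : LGrp} (hx : x ∈ stab66) (ho : Odd (orderOf x)) :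
    ∃ k : Fin 5, ∃ a ∈ stab66, a * repQ k * a⁻¹ = x := by
  obtain ⟨j, hj⟩ := exists_pow_eq_self_of_coprime (x := x) (n := 8)
    (Nat.Coprime.pow_left 3 (Nat.coprime_two_left.2 ho) : Nat.Coprime (2 ^ 3) (orderOf x))
  obtain ⟨i, hi, hiy⟩ := exists_index (pow_mem hx j)
  have hsq := sq_ok
  simp only [List.all_eq_true, List.mem_range, Bool.and_eq_true, beq_iff_eq] at hsq
  have hstep : ∀ {n : ℕ} {y : LGrp}, n < 1320 → y.1 = eAt n →
      at' sqTab n < 1320 ∧ (y * y).1 = eAt (at' sqTab n) := fun hn hy =>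
    ⟨blt_lt (hsq _ hn).1.1, by rw [LGrp.val_mul, hy]; exact (hsq _ hn).1.2⟩
  obtain ⟨l1, e1⟩ := hstep hi hiy
  obtain ⟨l2, e2⟩ := hstep l1 e1
  obtain ⟨l3, e3⟩ := hstep l2 e2
  have hxe : x.1 = eAt (eighth i) := by
    rw [← hj, ← pow_mul, mul_comm, pow_mul, show (x ^ j) ^ 8 =
      x ^ j * x ^ j * (x ^ j * x ^ j) * (x ^ j * x ^ j * (x ^ j * x ^ j)) by
        simp only [pow_succ, pow_zero, one_mul, mul_assoc]]
    exact e3
  have hlab : at' labTab (eighth i) < 5 := blt_lt (hsq i hi).2
  have hc := List.all_eq_true.1 cls_ok (eighth i) (List.mem_range.2 l3)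
  simp only [(List.all_eq_true.1 sq_ok i (List.mem_range.2 hi)), Bool.or_eq_true,
    Bool.not_eq_true', Bool.and_eq_true] at hc
  rcases hc with hc | hc
  · exact absurd ((hsq i hi).2) (by rw [hc]; decide)
  have hp := clsPar_ok
  simp only [List.all_eq_true, List.mem_range, Bool.and_eq_true, Bool.or_eq_true] at hp
  have key : ∀ p < 495, ∀ y : LGrp, y.1 = eAt (at' clsTab p) →
      ∃ k : Fin 5, ∃ a ∈ stab66, a * repQ k * a⁻¹ = y := by
    intro p
    induction p using Nat.strong_induction_on with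
    | _ p ih =>
      intro hp' y hy
      rcases (hp p hp').2 with ⟨-, e⟩ | ⟨⟨g1, g2⟩, e⟩
      · refine ⟨⟨_, blt_lt (hp p hp').1.2⟩, 1, one_mem _, ?_⟩
        rw [one_mul, inv_one, mul_one]
        exact LGrp.ext ((repQ_spec _).1.trans (by rw [Nat.eq_of_beq_eq_true e, hy]))
      · have hq := (blt_lt g2).trans hp'
        obtain ⟨w, hw, -, -⟩ := els_induction (S := fun _ => True) trivial
          (fun _ _ _ _ _ => trivial) _ (blt_lt (hp _ hq).1.1)
        obtain ⟨k, a, ha, hak⟩ := ih _ (blt_lt g2) hq w hw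
        refine ⟨k, genL _ (blt_lt g1) * a, mul_mem (genL_mem _ _) ha, ?_⟩
        have hs := (conj_step (blt_lt g1) (blt_lt (hp _ hq).1.1) hw).1
        rw [Nat.eq_of_beq_eq_true e, ← hy] at hs
        rw [← LGrp.ext hs, ← hak]
        group
  exact key _ (blt_lt hc.1) x (by rw [Nat.eq_of_beq_eq_true hc.2, hxe])

end CfsgLib.J4Type.Classes.RadCert
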