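import Cfsg.Agent.Lib.J4Type.Classes.RootTChecks

/-!
The centraliser in the stabiliser of a pair of points of the first representative of the involutions,
and the four classes of its elements having that involution as a power.
-/

set_option autoImplicit false
set_option maxRecDepth 100000

namespace CfsgLib.J4Type.Classes.RootT

open Cfsg Subgroup CfsgLib.Golay CfsgLib.J4Type.Order

/-- The first representative of the involutions. -/
noncomputable def R0 : Equiv.Perm GolayPt := Lp (rootOf 0)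

/-- A listed element of the centraliser. -/
noncomputable def Cp (k : ℕ) : Equiv.Perm GolayPt := permOf (cAt k)

/-- A representative of a class. -/
noncomputable def R (r : ℕ) : Equiv.Perm GolayPt := Cp (repIx r)

/-- The centraliser of the first representative. -/
def Cen0 : Subgroup (Equiv.Perm GolayPt) :=
  fixMasks [3] ⊓ centralizer ({R0} : Set (Equiv.Perm GolayPt))

theorem mem_Cen0 {σ : Equiv.Perm GolayPt} : σ ∈ Cen0 ↔ σ ∈ fixMasks [3] ∧ σ * R0 = R0 * σ := by
  rw [Cen0, Subgroup.mem_inf, mem_centralizer_singleton_iff]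

theorem root0_valid : valid root0 = true := inv_valid' (root_lt (by norm_num)).1

theorem c_valid {k : ℕ} (hk : k < 2688) : valid (cAt k) = true := by
  have := List.all_eq_true.1 c_ok k (List.mem_range.2 hk)
  simp only [Bool.and_eq_true] at this
  exact this.1

theorem Cp_inj {i j : ℕ} (hi : i < 2688) (hj : j < 2688) (h : Cp i = Cp j) : i = j := by
  have hkey : ∀ k < 2688, keyOf (cAt k) = cAt k := fun k hk => by
    have := List.all_eq_true.1 c_ok k (List.mem_range.2 hk)
    simp only [Bool.and_eq_true, Nat.beq_eq] at this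
    exact this.2
  have he : cAt i = cAt j := by
    rw [← hkey i hi, ← hkey j hj]
    simp only [keyOf]
    refine List.foldr_ext _ _ _ fun x hx a => ?_
    have hx := List.mem_range.1 hx
    have e := congrArg (fun s : Equiv.Perm GolayPt => idx (s (pt x))) h
    simp only [Cp, permOf_pt (c_valid hi) hx, permOf_pt (c_valid hj) hx,
      idx_pt (valid_lt (c_valid hi) hx), idx_pt (valid_lt (c_valid hj) hx)] at e
    rw [e]
  have hmono : StrictMono fun k : Fin 2688 => cAt k := Fin.strictMono_iff_lt_succ.2 fun k => by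
    have := List.all_eq_true.1 c_sorted k (List.mem_range.2 k.2)
    simp only [Nat.blt_eq] at this
    exact this
  exact congrArg Fin.val (hmono.injective (a₁ := ⟨i, hi⟩) (a₂ := ⟨j, hj⟩) he)

theorem Cp_mem {k : ℕ} (hk : k < 2688) : Cp k ∈ Cen0 := by
  suffices key : ∀ n k, getR pT k / 16384 = n → k < 2688 → Cp k ∈ Cen0 from key _ k rfl hk
  intro n
  induction n using Nat.strong_induction_on with
  | _ n ih =>
    intro k hn hk
    have h := List.all_eq_true.1 c_tree k (List.mem_range.2 hk)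
    cases hp : Nat.beq (getR pT k % 16384) 0 with
    | true =>
      rw [hp, cond_true] at h
      have e : Cp k = 1 := Equiv.ext fun q => by
        rw [Cp, permOf_apply (c_valid hk) q,
          Nat.eq_of_beq_eq_true (List.all_eq_true.1 h _ (List.mem_range.2 (idx_lt q))), pt_idx]
        rfl
      rw [e]
      exact one_mem _
    | false =>
      rw [hp, cond_false] at h
      simp only [Bool.and_eq_true, Nat.blt_eq, List.all_eq_true, List.mem_range, Nat.beq_eq] at h
      obtain ⟨⟨⟨hpar, hj⟩, hd⟩, himg⟩ := h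
      have hg := List.all_eq_true.1 gens_ok _ (List.mem_range.2 hj)
      simp only [Bool.and_eq_true] at hg
      obtain ⟨hgf, hgc⟩ := hg
      have hv := inFix_valid hgf
      have hgm : permOf (gAt ((getR pT k % 16384 - 1) % 4)) ∈ Cen0 :=
        mem_Cen0.2 ⟨inFix_mem hgf, eqProd_sound hv root0_valid root0_valid hv hgc⟩
      have e : Cp k = permOf (gAt ((getR pT k % 16384 - 1) % 4)) *
          Cp ((getR pT k % 16384 - 1) / 4) := Equiv.ext fun q => by
        rw [Equiv.Perm.mul_apply, Cp, Cp, permOf_apply (c_valid hk) q,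
          permOf_apply (c_valid hpar) q, permOf_pt hv (valid_lt (c_valid hpar) (idx_lt q)),
          himg _ (idx_lt q)]
      rw [e]
      exact mul_mem hgm (ih _ (hn ▸ hd) _ rfl hpar)

theorem card_Cen0_le : Nat.card Cen0 ≤ 2688 := by
  have hex : ∀ i : Fin 330, ∃ g ∈ fixMasks [3], g * R0 * g⁻¹ = Lp i := fun i => by
    obtain ⟨g, hg, e⟩ := main_tree i (by omega)
    have h0 : tClsOf (i : ℕ) = 0 := by
      rw [tClsOf, show Nat.blt (i : ℕ) 330 = true by rw [Nat.blt_eq]; exact i.2, cond_true]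
    rw [h0] at e
    exact ⟨g, hg, e⟩
  choose g hg he using hex
  let f : Fin 330 × Cen0 → fixMasks [3] := fun q =>
    ⟨g q.1 * q.2.1, mul_mem (hg q.1) (mem_Cen0.1 q.2.2).1⟩
  have hf : Function.Injective f := by
    rintro ⟨i, c⟩ ⟨j, d⟩ h
    have h' : g i * c.1 = g j * d.1 := congrArg Subtype.val h
    have hc : ∀ (k : Fin 330) (c : Cen0), g k * c.1 * R0 * (g k * c.1)⁻¹ = Lp k := fun k c => by
      rw [← he k, mul_inv_rev, ← mul_assoc, mul_assoc (g k) c.1, (mem_Cen0.1 c.2).2, ← mul_assoc,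
        mul_inv_cancel_right]
    have e : (i : ℕ) = j := Lp_inj _ (by omega) _ (by omega) (by rw [← hc i c, ← hc j d, h'])
    obtain rfl := Fin.ext e
    exact Prod.ext rfl (Subtype.ext (mul_left_cancel h'))
  have := Nat.card_le_card_of_injective f hf
  rw [Nat.card_prod, Nat.card_fin, card_pairStab] at this
  omega

theorem exists_Cp {σ : Equiv.Perm GolayPt} (h : σ ∈ Cen0) : ∃ k < 2688, Cp k = σ := by
  let f : Fin 2688 → Cen0 := fun k => ⟨Cp k, Cp_mem k.2⟩
  have hf : Function.Injective f := fun a b e =>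
    Fin.ext (Cp_inj a.2 b.2 (congrArg Subtype.val e))
  have hc : Nat.card (Fin 2688) = Nat.card Cen0 :=
    le_antisymm (Nat.card_le_card_of_injective f hf) (card_Cen0_le.trans (Nat.card_fin 2688).ge)
  obtain ⟨k, hk⟩ := ((Nat.bijective_iff_injective_and_card f).2 ⟨hf, hc⟩).2 ⟨σ, h⟩
  exact ⟨k, k.2, congrArg Subtype.val hk⟩

theorem repIx_lt {r : ℕ} (hr : r < 22) : repIx r < 2688 :=
  Nat.le_of_ble_eq_true (List.all_eq_true.1 reps_lt r (List.mem_range.2 hr))

theorem R_mem {r : ℕ} (hr : r < 22) : R r ∈ Cen0 := Cp_mem (repIx_lt hr)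

theorem iter_spec {g : ℕ} (hg : valid g = true) : ∀ (n : ℕ) {x : ℕ}, x < 24 →
    (permOf g ^ n) (pt x) = pt (iter g n x) ∧ iter g n x < 24
  | 0, x, hx => ⟨by simp [iter], hx⟩
  | n + 1, x, hx => by
    obtain ⟨h1, h2⟩ := iter_spec hg n hx
    refine ⟨?_, valid_lt hg h2⟩
    rw [pow_succ', Equiv.Perm.mul_apply, h1, permOf_pt hg h2]
    rfl

theorem orderOf_R {r : ℕ} (hr : r < 22) :
    orderOf (R r) = ordL.getD r 0 ∧ (R0 ∈ zpowers (R r) → r < 4) := by
  have h := List.all_eq_true.1 reps_pow r (List.mem_range.2 hr)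
  simp only [Bool.and_eq_true, Bool.or_eq_true, List.all_eq_true, List.any_eq_true, List.mem_range,
    Nat.beq_eq, Nat.blt_eq, Bool.not_eq_true'] at h
  obtain ⟨⟨h0, h1⟩, h2⟩ := h
  have hv := c_valid (repIx_lt hr)
  have hne : ∀ (j x : ℕ), x < 24 → Nat.beq (iter (cAt (repIx r)) j x) x = false → R r ^ j ≠ 1 := by
    intro j x hx hb e
    obtain ⟨e1, e2⟩ := iter_spec hv j hx
    rw [← Cp, ← R, e, Equiv.Perm.one_apply] at e1
    have e3 := congrArg idx e1
    rw [idx_pt hx, idx_pt e2] at e3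
    rw [← e3, Nat.beq_refl] at hb
    exact Bool.noConfusion hb
  have hord : orderOf (R r) = ordL.getD r 0 := by
    refine (orderOf_eq_iff h0).2 ⟨Equiv.ext fun q => ?_, fun j hj hj0 => ?_⟩
    · rw [← pt_idx q, R, Cp, (iter_spec hv _ (idx_lt q)).1, h1 _ (idx_lt q)]
      rfl
    · rcases (h2 j hj).1 with e | ⟨x, hx, e⟩
      · omega
      · exact hne j x hx e
  refine ⟨hord, fun hmem => ?_⟩
  obtain ⟨j, hj⟩ := mem_powers_iff_mem_zpowers.2 hmem
  change R r ^ j = R0 at hj
  rw [← pow_mod_orderOf, hord] at hj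
  rcases (h2 _ (Nat.mod_lt _ h0)).2 with ⟨h4, -⟩ | ⟨x, hx, e⟩
  · exact h4
  · exfalso
    obtain ⟨e1, e2⟩ := iter_spec hv (j % ordL.getD r 0) hx
    rw [← Cp, ← R, hj, R0, Lp, ← root0, permOf_pt root0_valid hx] at e1
    have e3 := congrArg idx e1
    rw [idx_pt (valid_lt root0_valid hx), idx_pt e2] at e3
    rw [← show iter (cAt (repIx r)) (j % ordL.getD r 0) x = img root0 x from e3.symm,
      Nat.beq_refl] at e
    exact Bool.noConfusion e

theorem R_half {r : ℕ} (hr : r < 4) : R r ^ (ordL.getD r 0 / 2) = R0 := by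
  have h := List.all_eq_true.1 reps_half r (List.mem_range.2 hr)
  simp only [List.all_eq_true, List.mem_range, Nat.beq_eq] at h
  have hv := c_valid (repIx_lt (show r < 22 by omega))
  refine Equiv.ext fun q => ?_
  rw [← pt_idx q, R, Cp, (iter_spec hv _ (idx_lt q)).1, h _ (idx_lt q), R0, Lp,
    permOf_pt (inv_valid' (root_lt (by norm_num)).1) (idx_lt q)]
  rfl

/-- An element having the involution as a power is conjugate to one of four in its centraliser. -/
theorem exists_rep {σ : Equiv.Perm GolayPt} (hσ : σ ∈ fixMasks [3]) (h : R0 ∈ zpowers σ) :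
    ∃ r < 4, ∃ τ ∈ Cen0, σ = τ * R r * τ⁻¹ := by
  have hc : σ * R0 = R0 * σ := by
    obtain ⟨i, hi⟩ := mem_zpowers_iff.1 h
    rw [← hi]
    exact (Commute.self_zpow σ i).eq
  obtain ⟨k, hk, rfl⟩ := exists_Cp (mem_Cen0.2 ⟨hσ, hc⟩)
  have hw := List.all_eq_true.1 c_class k (List.mem_range.2 hk)
  simp only [Bool.and_eq_true, Nat.blt_eq] at hw
  obtain ⟨hj, hp⟩ := hw
  set r := getR wT k % 22
  set j := getR wT k / 22
  have hr : r < 22 := Nat.mod_lt _ (by norm_num)
  have e : Cp k * Cp j = Cp j * R r :=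
    eqProd_sound (c_valid hk) (c_valid hj) (c_valid hj) (c_valid (repIx_lt hr)) hp
  have e' : Cp k = Cp j * R r * (Cp j)⁻¹ := eq_mul_inv_of_mul_eq e
  refine ⟨r, (orderOf_R hr).2 ?_, Cp j, Cp_mem hj, e'⟩
  obtain ⟨i, hi⟩ := mem_zpowers_iff.1 h
  refine mem_zpowers_iff.2 ⟨i, ?_⟩
  rw [e', conj_zpow, mul_inv_eq_iff_eq_mul] at hi
  rw [← (mem_Cen0.1 (Cp_mem hj)).2] at hi
  exact mul_left_cancel hi

/-- The two representatives of order fourteen are not conjugate. -/
theorem fourteen_not_conj {τ : Equiv.Perm GolayPt} (hτ : τ ∈ fixMasks [3]) :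
    τ * R 2 * τ⁻¹ ≠ R 3 := by
  intro e
  have h2 := R_half (r := 2) (by norm_num)
  have h3 := R_half (r := 3) (by norm_num)
  rw [ords.2.2.1] at h2
  rw [ords.2.2.2] at h3
  have hc : τ * R0 * τ⁻¹ = R0 := by
    conv_lhs => rw [← h2]
    rw [← conj_pow, e, h3]
  obtain ⟨k, hk, rfl⟩ := exists_Cp (mem_Cen0.2 ⟨hτ, mul_inv_eq_iff_eq_mul.1 hc⟩)
  have hb := List.all_eq_true.1 fourteen_ne k (List.mem_range.2 hk)
  rw [Bool.not_eq_true'] at hb
  have h2v := c_valid (repIx_lt (r := 2) (by norm_num))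
  have h3v := c_valid (repIx_lt (r := 3) (by norm_num))
  refine Bool.noConfusion (hb.symm.trans (List.all_eq_true.2 fun x hx => ?_))
  have hx := List.mem_range.1 hx
  have e2 := congrArg (fun s : Equiv.Perm GolayPt => idx (s (pt x))) (mul_inv_eq_iff_eq_mul.1 e)
  simp only [R, Cp, Equiv.Perm.mul_apply, permOf_pt h2v hx, permOf_pt (c_valid hk) hx,
    permOf_pt (c_valid hk) (valid_lt h2v hx), permOf_pt h3v (valid_lt (c_valid hk) hx),
    idx_pt (valid_lt (c_valid hk) (valid_lt h2v hx)),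
    idx_pt (valid_lt h3v (valid_lt (c_valid hk) hx))] at e2
  exact Nat.beq_eq ▸ e2

end CfsgLib.J4Type.Classes.RootT
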