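import Cfsg.Agent.Lib.J4Type.Classes.Defs
import Cfsg.Agent.Lib.J4Type.Classes.RootTCent

/-!
The classes of the centraliser of an involution `t` of pair type that have `t` as a power and even
order modulo `V`: there are four.
-/

set_option autoImplicit false
set_option maxRecDepth 100000

namespace CfsgLib.J4Type.Classes

open Cfsg Subgroup CfsgLib.Golay CfsgLib.J4Type.Order
open CfsgLib.J4Type.Frame (vE Acts coV pairV)
open CfsgLib.J4Type.Order.TSetup (matOK t0)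
open RootT

variable {G : Type*} [Group G] [Finite G] {z : G} {P : Subgroup G} {F : Frame z P} {D : VData F}

namespace RootT

variable (S : TSetup D)

/-- Conjugacy in the centraliser of the fixed involution. -/
def Rel (D : VData F) (x y : G) : Prop :=
  ∃ k ∈ centralizer ({t0 D} : Set G), k * x * k⁻¹ = y

theorem Rel.trans {x y w : G} (h : Rel D x y) (h' : Rel D y w) : Rel D x w := by
  obtain ⟨k, hk, rfl⟩ := h
  obtain ⟨l, hl, rfl⟩ := h'
  exact ⟨l * k, mul_mem hl hk, by group⟩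

omit [Finite G] in
theorem wv_lt : NV.wv 1 < 2048 := by decide +kernel

include S in
theorem t0_sq : t0 D * t0 D = 1 := Frame.V_sq D S.t0_pairV.1

theorem perm_pow {n : G} (hn : n ∈ normalizer (D.V : Set G)) :
    ∀ j : ℕ, S.M.perm (n ^ j) = S.M.perm n ^ j
  | 0 => by rw [pow_zero, pow_zero]; exact (S.M.perm_eq_one 1 (one_mem _)).2 (one_mem _)
  | j + 1 => by rw [pow_succ, pow_succ, S.M.perm_mul _ (pow_mem hn j) _ hn, perm_pow hn j]

theorem el_mul' {a b : ℕ} (ha : a < 2048) (hb : b < 2048) {σ : Equiv.Perm GolayPt} {M : List ℕ}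
    (hσ : σ ∈ M24) (hk : Acts D (S.kap σ) M) {τ : Equiv.Perm GolayPt} (hτ : τ ∈ M24) :
    S.el a σ * S.el b τ = S.el (a ^^^ mv M b) (σ * τ) := by
  rw [TSetup.el, TSetup.el, TSetup.el, Frame.vE_xor D ha (NV.mv_lt_2048 _ _ hk.1), ← hk.2 b hb,
    S.kap_mul hσ hτ]
  group

theorem el_pow {c : ℕ} (hc : c < 2048) {ρ : Equiv.Perm GolayPt} {M : List ℕ} (hρ : ρ ∈ M24)
    (hk : Acts D (S.kap ρ) M) :
    ∀ j : ℕ, nrm M j c < 2048 ∧ S.el c ρ ^ j = S.el (nrm M j c) (ρ ^ j)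
  | 0 => ⟨by simp [nrm], by rw [pow_zero, pow_zero, nrm, S.el_one_perm, Frame.vE_zero]⟩
  | j + 1 => by
    obtain ⟨h1, h2⟩ := el_pow hc hρ hk j
    refine ⟨Nat.xor_lt_two_pow (n := 11) hc (NV.mv_lt_2048 _ _ hk.1), ?_⟩
    rw [pow_succ', h2, el_mul' S hc h1 hρ hk (pow_mem hρ j), ← pow_succ']
    rfl

theorem acts_code {g : ℕ} {M : List ℕ} (hg : permOf g ∈ M24) (hM : matOK g M = true) :
    Acts D (S.kap (permOf g)) M :=
  S.acts_of_perm (S.kap_N hg) hM (S.kap_spec hg).2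

theorem kap_mem {σ : Equiv.Perm GolayPt} (hσ : σ ∈ fixMasks [3]) :
    S.kap σ ∈ centralizer ({t0 D} : Set G) :=
  S.mem_cent.2 ⟨S.kap_N (fixMasks_le _ hσ), by rw [(S.kap_spec (fixMasks_le _ hσ)).2]; exact hσ⟩

/-- Conjugation by an element of the complement commuting with the permutation. -/
theorem rel_kap {a : ℕ} (ha : a < 2048) {σ : Equiv.Perm GolayPt} (hσ : σ ∈ M24)
    {τ : Equiv.Perm GolayPt} (hτ : τ ∈ fixMasks [3]) (hc : τ * σ = σ * τ) {Q : List ℕ}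
    (hQ : Acts D (S.kap τ) Q) : Rel D (S.el a σ) (S.el (mv Q a) σ) := by
  refine ⟨S.kap τ, kap_mem S hτ, ?_⟩
  have hτ' := fixMasks_le _ hτ
  have hk : S.kap τ * S.kap σ = S.kap σ * S.kap τ := by
    rw [← S.kap_mul hτ' hσ, ← S.kap_mul hσ hτ', hc]
  rw [TSetup.el, TSetup.el, ← hQ.2 a ha]
  calc S.kap τ * (vE D a * S.kap σ) * (S.kap τ)⁻¹
      = S.kap τ * vE D a * (S.kap τ)⁻¹ * (S.kap τ * S.kap σ * (S.kap τ)⁻¹) := by group
    _ = _ := by rw [hk, mul_inv_cancel_right]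

/-- Conjugation by a vector. -/
theorem rel_vec {a v : ℕ} (ha : a < 2048) (hv : v < 2048) {σ : Equiv.Perm GolayPt} {M : List ℕ}
    (hσ : σ ∈ M24) (hk : Acts D (S.kap σ) M) : Rel D (S.el a σ) (S.el (v ^^^ a ^^^ mv M v) σ) := by
  have hV := Frame.vE_mem D hv
  refine ⟨vE D v, S.mem_cent.2 ⟨Subgroup.le_normalizer hV, ?_⟩, ?_⟩
  · rw [(S.M.perm_eq_one _ (Subgroup.le_normalizer hV)).2 hV]
    exact one_mem _
  · have hi : (vE D v)⁻¹ = vE D v := inv_eq_of_mul_eq_one_right (Frame.V_sq D hV)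
    have hmv := NV.mv_lt_2048 _ v hk.1
    rw [hi, TSetup.el, TSetup.el, Frame.vE_xor D (Nat.xor_lt_two_pow (n := 11) hv ha) hmv,
      Frame.vE_xor D hv ha, ← hk.2 v hv]
    group

/-- The chosen element over a representative. -/
noncomputable def gRep (r : ℕ) : G := S.el (base r) (R r)

theorem rep_facts {r : ℕ} (hr : r < 4) :
    Acts D (S.kap (R r)) (repM r) ∧ base r < 2048 ∧
      nrm (repM r) (ordL.getD r 0) (base r) = NV.wv 1 ∧
      ∀ j < (movT.getD r []).length, Cp (mov r j) ∈ fixMasks [3] ∧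
        Acts D (S.kap (Cp (mov r j))) (movM r j) ∧ Cp (mov r j) * R r = R r * Cp (mov r j) := by
  have h := List.all_eq_true.1 rep_mats r (List.mem_range.2 hr)
  simp only [Bool.and_eq_true, Nat.blt_eq, Nat.beq_eq, List.all_eq_true, List.mem_range] at h
  obtain ⟨⟨⟨hM, hb⟩, hn⟩, hmov⟩ := h
  have hix := repIx_lt (show r < 22 by omega)
  refine ⟨acts_code S (fixMasks_le _ (mem_Cen0.1 (Cp_mem hix)).1) hM, hb, hn, fun j hj => ?_⟩
  obtain ⟨⟨hlt, hQ⟩, hc⟩ := hmov j hj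
  have hf := (mem_Cen0.1 (Cp_mem hlt)).1
  exact ⟨hf, acts_code S (fixMasks_le _ hf) hQ,
    eqProd_sound (c_valid hlt) (c_valid hix) (c_valid hix) (c_valid hlt) hc⟩

theorem R_fix {r : ℕ} (hr : r < 4) : R r ∈ fixMasks [3] :=
  (mem_Cen0.1 (R_mem (show r < 22 by omega))).1

theorem gRep_mem {r : ℕ} (hr : r < 4) : gRep S r ∈ centralizer ({t0 D} : Set G) := by
  obtain ⟨-, hb, -, -⟩ := rep_facts S hr
  have h24 := fixMasks_le _ (R_fix hr)
  exact S.mem_cent.2 ⟨S.el_N hb h24, by rw [gRep, S.perm_el hb h24]; exact R_fix hr⟩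

theorem ord_even {r : ℕ} (hr : r < 4) : Even (ordL.getD r 0) := by
  obtain ⟨o0, o1, o2, o3⟩ := ords
  interval_cases r <;> simp only [o0, o1, o2, o3] <;> decide

theorem gRep_part {r : ℕ} (hr : r < 4) : RootPart D.V (t0 D) (gRep S r) := by
  obtain ⟨hM, hb, hn, -⟩ := rep_facts S hr
  have h24 := fixMasks_le _ (R_fix hr)
  obtain ⟨hord, -⟩ := orderOf_R (show r < 22 by omega)
  refine ⟨?_, ?_⟩
  · obtain ⟨-, hp⟩ := el_pow S hb h24 hM (ordL.getD r 0)
    rw [hn, ← hord, pow_orderOf_eq_one, S.el_one_perm] at hp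
    exact mem_powers_iff_mem_zpowers.1 ⟨orderOf (R r), hp⟩
  · rintro ⟨n, hodd, hn'⟩
    have hN := S.el_N hb h24
    have hp := perm_pow S hN n
    rw [S.perm_el hb h24, (S.M.perm_eq_one _ (pow_mem hN n)).2 hn'] at hp
    have hd := orderOf_dvd_of_pow_eq_one hp.symm
    rw [hord] at hd
    exact Nat.not_even_iff_odd.2 hodd ((ord_even hr).two_dvd.trans hd |> even_iff_two_dvd.2)

include S in
/-- An element with the property is conjugate to a chosen one. -/
theorem exists_rel {g : G} (hg : g ∈ centralizer ({t0 D} : Set G))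
    (h : RootPart D.V (t0 D) g) : ∃ r < 4, Rel D g (gRep S r) := by
  obtain ⟨hN, hσ⟩ := S.mem_cent.1 hg
  set σ := S.M.perm g with hσdef
  set m := orderOf σ with hm
  have hpV : ∀ j, g ^ j ∈ D.V ↔ σ ^ j = 1 := fun j => by
    rw [hσdef, ← perm_pow S hN, S.M.perm_eq_one _ (pow_mem hN j)]
  have hmem : g ^ m ∈ D.V := (hpV m).2 (pow_orderOf_eq_one σ)
  have heven : 2 ∣ m := by
    refine even_iff_two_dvd.1 (Nat.not_odd_iff_even.1 fun hodd => h.2 ⟨m, hodd, hmem⟩)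
  have hgm : g ^ m = t0 D := by
    obtain ⟨j, hj⟩ := mem_powers_iff_mem_zpowers.2 h.1
    change g ^ j = t0 D at hj
    obtain ⟨q, rfl⟩ : m ∣ j := orderOf_dvd_of_pow_eq_one ((hpV j).1 (hj ▸ S.t0_pairV.1))
    rcases Nat.even_or_odd q with ⟨s, rfl⟩ | ⟨s, rfl⟩
    · rw [← two_mul, ← mul_assoc, mul_comm m 2, mul_assoc, mul_comm 2, pow_mul, pow_mul, pow_two,
        Frame.V_sq D (pow_mem hmem s)] at hj
      exact absurd hj.symm S.t0_pairV.2.1
    · rw [pow_mul, pow_succ, pow_mul, pow_two, Frame.V_sq D hmem, one_pow, one_mul] at hj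
      exact hj
  obtain ⟨q, hq⟩ := heven
  have hmpos : 0 < m := orderOf_pos σ
  have h2 : orderOf (σ ^ q) = 2 := by
    rw [orderOf_pow_of_dvd (by omega) ⟨2, by rw [← hm, hq, mul_comm]⟩, ← hm, hq,
      Nat.mul_div_cancel _ (by omega)]
  obtain ⟨i, hi, hiσ⟩ := InL24.of_invol (pow_mem hσ q) h2
  obtain ⟨c, hc, hce⟩ := main_tree i hi
  set cl := tClsOf i
  have hcl : cl < 3 := tClsOf_lt i
  have hcM := fixMasks_le _ hc
  -- move the involution power to its representative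
  set g' := (S.kap c)⁻¹ * g * S.kap c with hg'
  have hkc := kap_mem S hc
  have hrel : Rel D g g' := ⟨(S.kap c)⁻¹, inv_mem hkc, by rw [inv_inv]⟩
  have hg'c : g' ∈ centralizer ({t0 D} : Set G) := mul_mem (mul_mem (inv_mem hkc) hg) hkc
  have hN' := (S.mem_cent.1 hg'c).1
  set σ' := S.M.perm g' with hσ'
  have hσ'eq : σ' = c⁻¹ * σ * c := by
    rw [hσ', hg', S.M.perm_mul _ (mul_mem (inv_mem (S.kap_N hcM)) hN) _ (S.kap_N hcM),
      S.M.perm_mul _ (inv_mem (S.kap_N hcM)) _ hN, S.perm_inv (S.kap_N hcM), (S.kap_spec hcM).2]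
  have hpow : ∀ j, g' ^ j = (S.kap c)⁻¹ * g ^ j * S.kap c := fun j => by
    have := conj_pow (i := j) (a := (S.kap c)⁻¹) (b := g)
    rwa [inv_inv] at this
  have hσq : σ' ^ q = Lp (rootOf cl) := by
    rw [hσ'eq, show c⁻¹ * σ * c = c⁻¹ * σ * c⁻¹⁻¹ by rw [inv_inv], conj_pow, inv_inv, ← hiσ, ← hce]
    group
  have hg'm : g' ^ q * g' ^ q = t0 D := by
    rw [← pow_add, ← two_mul, ← hq, hpow, hgm,
      show (S.kap c)⁻¹ * t0 D = t0 D * (S.kap c)⁻¹ from (NV.mem_cen.1 (inv_mem hkc)).symm, mul_assoc,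
      inv_mul_cancel, mul_one]
  obtain ⟨b, hb, hbe⟩ := S.exists_el (pow_mem hN' q)
  rw [perm_pow S hN', ← hσ', hσq] at hbe
  obtain ⟨hrl, -, -⟩ := root_lt hcl
  have hrfix : Lp (rootOf cl) ∈ fixMasks [3] := hσq ▸ pow_mem (S.mem_cent.1 hg'c).2 q
  have hrM := acts_code S (fixMasks_le _ hrfix)
    (List.all_eq_true.1 root_mats cl (List.mem_range.2 hcl))
  have hsq : Lp (rootOf cl) * Lp (rootOf cl) = 1 := by
    rw [← hσq, ← pow_add, ← two_mul, ← hq, hσ'eq, show c⁻¹ * σ * c = c⁻¹ * σ * c⁻¹⁻¹ by rw [inv_inv],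
      conj_pow, hm, pow_orderOf_eq_one, mul_one, mul_inv_cancel]
  have hcl0 : cl = 0 := by
    rw [hbe, el_mul' S hb hb (fixMasks_le _ hrfix) hrM (fixMasks_le _ hrfix), hsq, S.el_one_perm] at hg'm
    have e := Frame.vE_injOn D (Nat.xor_lt_two_pow (n := 11) hb (NV.mv_lt_2048 _ _ hrM.1)) wv_lt hg'm
    have hck := List.all_eq_true.1 only_zero cl (List.mem_range.2 hcl)
    simp only [Bool.or_eq_true, Nat.beq_eq, List.all_eq_true, List.mem_range, Bool.not_eq_true'] at hck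
    rcases hck with h0 | h0
    · exact h0
    · have := h0 b hb
      change Nat.beq (b ^^^ mv (rootM cl) b) (NV.wv 1) = false at this
      rw [e, Nat.beq_refl] at this
      exact Bool.noConfusion this
  -- the class of the permutation
  obtain ⟨r, hr, τ, hτ, hτe⟩ := exists_rep (S.mem_cent.1 hg'c).2
    (mem_powers_iff_mem_zpowers.1 ⟨q, by show σ' ^ q = R0; rw [hσq, hcl0]; rfl⟩)
  have hτf := (mem_Cen0.1 hτ).1
  have hkt := kap_mem S hτf
  set g'' := (S.kap τ)⁻¹ * g' * S.kap τ with hg''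
  have hrel' : Rel D g g'' := hrel.trans ⟨(S.kap τ)⁻¹, inv_mem hkt, by rw [inv_inv]⟩
  have hN'' : g'' ∈ normalizer (D.V : Set G) :=
    mul_mem (mul_mem (inv_mem (S.kap_N (fixMasks_le _ hτf))) hN') (S.kap_N (fixMasks_le _ hτf))
  have hperm : S.M.perm g'' = R r := by
    have hk := S.kap_N (fixMasks_le _ hτf)
    rw [hg'', S.M.perm_mul _ (mul_mem (inv_mem hk) hN') _ hk, S.M.perm_mul _ (inv_mem hk) _ hN',
      S.perm_inv hk, (S.kap_spec (fixMasks_le _ hτf)).2, hτe]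
    group
  obtain ⟨a, ha, hae⟩ := S.exists_el hN''
  rw [hperm] at hae
  obtain ⟨hM, hb0, -, hmov⟩ := rep_facts S hr
  have h24 := fixMasks_le _ (R_fix hr)
  obtain ⟨hord, -⟩ := orderOf_R (show r < 22 by omega)
  have hmr : m = ordL.getD r 0 := by
    rw [← hord, hm, show σ = (c * τ) * R r * (c * τ)⁻¹ by
      rw [show c * τ * R r * (c * τ)⁻¹ = c * (τ * R r * τ⁻¹) * c⁻¹ by group, ← hτe, ← hσ', hσ'eq]; group]
    exact orderOf_injective (MulAut.conj (c * τ)).toMonoidHom (MulEquiv.injective _) (R r)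
  have hnv : nrm (repM r) (ordL.getD r 0) a = NV.wv 1 := by
    obtain ⟨hl, hp⟩ := el_pow S ha h24 hM (ordL.getD r 0)
    rw [← hord, pow_orderOf_eq_one, S.el_one_perm, hord] at hp
    refine Frame.vE_injOn D hl wv_lt (hp.symm.trans ?_)
    rw [← hae, hg'', ← hmr]
    have := conj_pow (i := m) (a := (S.kap τ)⁻¹) (b := g')
    rw [inv_inv] at this
    rw [this, hpow, hgm,
      show (S.kap c)⁻¹ * t0 D = t0 D * (S.kap c)⁻¹ from (NV.mem_cen.1 (inv_mem hkc)).symm, mul_assoc (t0 D),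
      inv_mul_cancel, mul_one,
      show (S.kap τ)⁻¹ * t0 D = t0 D * (S.kap τ)⁻¹ from (NV.mem_cen.1 (inv_mem hkt)).symm, mul_assoc (t0 D),
      inv_mul_cancel, mul_one]
    rfl
  have hv := List.all_eq_true.1 vecs_ok r (List.mem_range.2 hr)
  simp only [Bool.and_eq_true, Nat.beq_eq, List.all_eq_true] at hv
  obtain ⟨hlen, hv⟩ := hv
  obtain ⟨k, hk, hka⟩ := List.mem_iff_getElem.1
    (show a ∈ vecs r from List.mem_filter.2 ⟨List.mem_range.2 ha, by rw [hnv, Nat.beq_refl]⟩)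
  have hz := hv (a, (vTab r)[k]'(hlen ▸ hk))
    (List.mem_iff_getElem.2 ⟨k, by rw [List.length_zip, hlen, Nat.min_self]; exact hk,
      by rw [List.getElem_zip, hka]⟩)
  simp only [vecOK, Bool.and_eq_true, Nat.blt_eq, Nat.beq_eq] at hz
  obtain ⟨⟨hj, hvlt⟩, hval⟩ := hz
  obtain ⟨hfm, hQ, hcomm⟩ := hmov _ hj
  have h1 := rel_kap S hb0 h24 hfm hcomm hQ
  have h2' := rel_vec S (NV.mv_lt_2048 _ (base r) hQ.1) hvlt h24 hM
  have hfin : Rel D (gRep S r) g'' := by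
    rw [hae, hval, Nat.xor_comm (mv _ (base r))]
    exact h1.trans h2'
  obtain ⟨k', hk', hke⟩ := hfin
  exact ⟨r, hr, hrel'.trans ⟨k'⁻¹, inv_mem hk', by rw [← hke]; group⟩⟩

theorem gRep_inj {i j : ℕ} (hi : i < 4) (hj : j < 4) (h : Rel D (gRep S i) (gRep S j)) : i = j := by
  obtain ⟨k, hk, e⟩ := h
  obtain ⟨hkN, hkf⟩ := S.mem_cent.1 hk
  set τ := S.M.perm k with hτdef
  obtain ⟨-, hbi, -, -⟩ := rep_facts S hi
  obtain ⟨-, hbj, -, -⟩ := rep_facts S hj
  have hi24 := fixMasks_le _ (R_fix hi)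
  have e' := congrArg S.M.perm e
  rw [gRep, gRep, S.M.perm_mul _ (mul_mem hkN (S.el_N hbi hi24)) _ (inv_mem hkN),
    S.M.perm_mul _ hkN _ (S.el_N hbi hi24), S.perm_inv hkN, S.perm_el hbi hi24,
    S.perm_el hbj (fixMasks_le _ (R_fix hj))] at e'
  have ho : ordL.getD i 0 = ordL.getD j 0 := by
    rw [← (orderOf_R (show i < 22 by omega)).1, ← (orderOf_R (show j < 22 by omega)).1, ← e']
    exact (orderOf_injective (MulAut.conj τ).toMonoidHom (MulEquiv.injective _) (R i)).symm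
  obtain ⟨o0, o1, o2, o3⟩ := ords
  interval_cases i <;> interval_cases j <;>
    first
    | rfl
    | (simp only [o0, o1, o2, o3] at ho; omega)
    | exact absurd e' (fourteen_not_conj hkf)
    | exact absurd (show τ⁻¹ * R 2 * τ⁻¹⁻¹ = R 3 by rw [← e', hτdef]; group)
        (fourteen_not_conj (inv_mem hkf))

end RootT

/-- The classes of the centraliser of `t` over the involutions of its image. -/
theorem root_t (S : TSetup D) :
    classesIn (centralizer ({t0 D} : Set G)) (RootPart D.V (t0 D)) = 4 := by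
  let f : Fin 4 → {c : ConjClasses ↥(centralizer ({t0 D} : Set G)) //
      ∃ h : ↥(centralizer ({t0 D} : Set G)), ConjClasses.mk h = c ∧
        RootPart D.V (t0 D) (h : G)} :=
    fun r => ⟨ConjClasses.mk ⟨gRep S r, gRep_mem S r.2⟩, ⟨gRep S r, gRep_mem S r.2⟩, rfl,
      gRep_part S r.2⟩
  have hbij : Function.Bijective f := by
    constructor
    · intro i j e
      obtain ⟨k, hk⟩ := isConj_iff.1 (ConjClasses.mk_eq_mk_iff_isConj.1 (congrArg Subtype.val e))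
      exact Fin.ext (gRep_inj S i.2 j.2 ⟨k.1, k.2, congrArg Subtype.val hk⟩)
    · rintro ⟨_, x, rfl, hx⟩
      obtain ⟨r, hr, k, hk, e⟩ := exists_rel S x.2 hx
      exact ⟨⟨r, hr⟩, Subtype.ext (ConjClasses.mk_eq_mk_iff_isConj.2
        (isConj_iff.2 ⟨⟨k, hk⟩, Subtype.ext e⟩).symm)⟩
  rw [classesIn, ← Nat.card_congr (Equiv.ofBijective f hbij), Nat.card_fin]

end CfsgLib.J4Type.Classes
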