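import Cfsg.Agent.Lib.J4Type.Classes.RootTData
import Cfsg.Agent.Lib.J4Type.Order.TSetup
import Cfsg.Agent.Lib.J4Type.Order.TTree

/-! Checks of the tables for the classes over the first representative of the involutions. -/

set_option autoImplicit false
set_option maxRecDepth 100000
set_option Elab.async false

namespace CfsgLib.J4Type.Classes.RootT

open Cfsg CfsgLib.Golay CfsgLib.J4Type CfsgLib.J4Type.Order
open CfsgLib.J4Type.Order.TSetup (matOK)

/-- An element of the centraliser. -/
def cAt (k : ℕ) : ℕ := getR cT k

/-- A generator of the centraliser. -/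
def gAt (j : ℕ) : ℕ := gT.getD j 0

/-- The index of a representative of a class. -/
def repIx (r : ℕ) : ℕ := repT.getD r 0

/-- The first representative of the involutions. -/
def root0 : ℕ := invAt (rootOf 0)

/-- The identity of the points. -/
def idP : ℕ := (List.range 24).foldr (fun i a => i * 32 ^ i + a) 0

/-- The image of a point under a power. -/
def iter (g : ℕ) : ℕ → ℕ → ℕ
  | 0, x => x
  | n + 1, x => img g (iter g n x)

/-- The value of a power at a vector. -/
def nrm (M : List ℕ) : ℕ → ℕ → ℕ
  | 0, _ => 0
  | n + 1, v => v ^^^ mv M (nrm M n v)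

theorem gens_ok : ((List.range 3).all fun j =>
    inFix [3] (gAt j) && eqProd (gAt j) root0 root0 (gAt j)) = true := by decide +kernel

theorem c_ok : ((List.range 2688).all fun k =>
    valid (cAt k) && Nat.beq (keyOf (cAt k)) (cAt k)) = true := by decide +kernel

theorem c_sorted : ((List.range 2687).all fun k => Nat.blt (cAt k) (cAt (k + 1))) = true := by
  decide +kernel

theorem c_tree : ((List.range 2688).all fun k =>
    bif Nat.beq (getR pT k % 16384) 0 then
      (List.range 24).all fun x => Nat.beq (img (cAt k) x) x
    else
      Nat.blt ((getR pT k % 16384 - 1) / 4) 2688 && Nat.blt ((getR pT k % 16384 - 1) % 4) 3 &&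
        Nat.blt (getR pT ((getR pT k % 16384 - 1) / 4) / 16384) (getR pT k / 16384) &&
        (List.range 24).all fun x => Nat.beq (img (cAt k) x)
          (img (gAt ((getR pT k % 16384 - 1) % 4)) (img (cAt ((getR pT k % 16384 - 1) / 4)) x))) = true := by
  decide +kernel

theorem c_class : ((List.range 2688).all fun k =>
    Nat.blt (getR wT k / 22) 2688 &&
      eqProd (cAt k) (cAt (getR wT k / 22)) (cAt (getR wT k / 22)) (cAt (repIx (getR wT k % 22)))) =
    true := by decide +kernel

theorem reps_lt : ((List.range 22).all fun r => Nat.blt (repIx r) 2688) = true := by decide +kernel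

/-- The powers of the representatives: the orders, and where the involution is a power. -/
theorem reps_pow : ((List.range 22).all fun r =>
    Nat.blt 0 (ordL.getD r 0) &&
    (List.range 24).all (fun x => Nat.beq (iter (cAt (repIx r)) (ordL.getD r 0) x) x) &&
    (List.range (ordL.getD r 0)).all fun j =>
      (Nat.beq j 0 || (List.range 24).any fun x => !Nat.beq (iter (cAt (repIx r)) j x) x) &&
      ((Nat.blt r 4 && Nat.beq (2 * j) (ordL.getD r 0)) ||
        (List.range 24).any fun x => !Nat.beq (iter (cAt (repIx r)) j x) (img root0 x))) = true := by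
  decide +kernel

theorem reps_half : ((List.range 4).all fun r =>
    (List.range 24).all fun x =>
      Nat.beq (iter (cAt (repIx r)) (ordL.getD r 0 / 2) x) (img root0 x)) = true := by decide +kernel

theorem ords : ordL.getD 0 0 = 2 ∧ ordL.getD 1 0 = 6 ∧ ordL.getD 2 0 = 14 ∧ ordL.getD 3 0 = 14 := by
  decide +kernel

theorem fourteen_ne : ((List.range 2688).all fun k =>
    !eqProd (cAt k) (cAt (repIx 2)) (cAt (repIx 3)) (cAt k)) = true := by decide +kernel

/-- The matrix of a class of involutions. -/
def rootM (c : ℕ) : List ℕ := rootMat.getD c []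

theorem root_mats : ((List.range 3).all fun c => matOK (invAt (rootOf c)) (rootM c)) = true := by
  decide +kernel

theorem only_zero : ((List.range 3).all fun c => Nat.beq c 0 ||
    (List.range 2048).all fun b => !Nat.beq (b ^^^ mv (rootM c) b) (NV.wv 1)) = true := by
  decide +kernel

/-- The matrix of a representative. -/
def repM (r : ℕ) : List ℕ := matT.getD r []

/-- The chosen vector over a representative. -/
def base (r : ℕ) : ℕ := baseT.getD r 0

/-- A centralising element moving the chosen vector. -/
def mov (r j : ℕ) : ℕ := (movT.getD r []).getD j 0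

/-- Its matrix. -/
def movM (r j : ℕ) : List ℕ := (movMatT.getD r []).getD j []

/-- The translations over a representative. -/
def vTab (r : ℕ) : List ℕ := ([vT0, vT1, vT2, vT3].getD r []).flatten

theorem rep_mats : ((List.range 4).all fun r => matOK (cAt (repIx r)) (repM r) &&
    Nat.blt (base r) 2048 && Nat.beq (nrm (repM r) (ordL.getD r 0) (base r)) (NV.wv 1) &&
    (List.range (movT.getD r []).length).all fun j => Nat.blt (mov r j) 2688 &&
      matOK (cAt (mov r j)) (movM r j) &&
      eqProd (cAt (mov r j)) (cAt (repIx r)) (cAt (repIx r)) (cAt (mov r j))) = true := by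
  decide +kernel

/-- One vector over a representative. -/
def vecOK (r : ℕ) (p : ℕ × ℕ) : Bool :=
  Nat.blt (p.2 % 16) (movT.getD r []).length && Nat.blt (p.2 / 16) 2048 &&
    Nat.beq p.1 (mv (movM r (p.2 % 16)) (base r) ^^^ p.2 / 16 ^^^ mv (repM r) (p.2 / 16))

/-- The vectors over a representative. -/
def vecs (r : ℕ) : List ℕ :=
  (List.range 2048).filter fun a => Nat.beq (nrm (repM r) (ordL.getD r 0) a) (NV.wv 1)

theorem vecs_ok : ((List.range 4).all fun r =>
    Nat.beq (vTab r).length (vecs r).length && ((vecs r).zip (vTab r)).all (vecOK r)) = true := by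
  decide +kernel

end CfsgLib.J4Type.Classes.RootT
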