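import Cfsg.Agent.Lib.J4Type.Classes.Defs
import Mathlib.GroupTheory.SpecificGroups.Cyclic

/-!
The classes of a group by the involution in the cyclic subgroup of an element.
-/

set_option autoImplicit false

namespace CfsgLib.J4Type.Classes

open Cfsg Subgroup

variable {G : Type*} [Group G] [Finite G]

/-- A property is unchanged by conjugation inside a subgroup. -/
def InvOn (H : Subgroup G) (S : G → Prop) : Prop :=
  ∀ h ∈ H, ∀ g ∈ H, S g → S (h * g * h⁻¹)

omit [Finite G] in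
theorem rep_iff {H : Subgroup G} {S : G → Prop} (hS : InvOn H S) (h : ↥H) :
    (∃ h' : ↥H, ConjClasses.mk h' = ConjClasses.mk h ∧ S h') ↔ S h := by
  refine ⟨fun ⟨h', e, hs⟩ => ?_, fun hs => ⟨h, rfl, hs⟩⟩
  obtain ⟨c, hc⟩ := isConj_iff.1 (ConjClasses.mk_eq_mk_iff_isConj.1 e)
  have := hS c c.2 h' h'.2 hs
  rw [← hc]
  simpa using this

omit [Finite G] in
theorem classesIn_congr {H : Subgroup G} {S T : G → Prop} (h : ∀ g ∈ H, S g ↔ T g) :
    classesIn H S = classesIn H T :=
  Nat.card_congr (Equiv.subtypeEquivRight fun _ =>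
    exists_congr fun x => and_congr_right fun _ => h _ x.2)

theorem classesIn_add {H : Subgroup G} {S T U : G → Prop} (hS : InvOn H S) (hT : InvOn H T)
    (hdis : ∀ g ∈ H, S g → T g → False) (hU : ∀ g ∈ H, U g ↔ S g ∨ T g) :
    classesIn H U = classesIn H S + classesIn H T := by
  classical
  have : Finite (ConjClasses ↥H) := Quotient.finite _
  have := Fintype.ofFinite (ConjClasses ↥H)
  simp only [classesIn, Nat.card_eq_fintype_card]
  rw [← Fintype.card_subtype_or_disjoint]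
  · refine Fintype.card_congr (Equiv.subtypeEquivRight fun c => ?_)
    constructor
    · rintro ⟨h, e, hu⟩
      exact ((hU _ h.2).1 hu).imp (fun hs => ⟨h, e, hs⟩) fun ht => ⟨h, e, ht⟩
    · rintro (⟨h, e, hs⟩ | ⟨h, e, ht⟩)
      · exact ⟨h, e, (hU _ h.2).2 (.inl hs)⟩
      · exact ⟨h, e, (hU _ h.2).2 (.inr ht)⟩
  · refine Pi.disjoint_iff.2 fun c => disjoint_iff_inf_le.2 ?_
    rintro ⟨⟨h, rfl, hs⟩, ⟨h', e, ht⟩⟩
    exact hdis _ h.2 hs ((rep_iff hT h).1 ⟨h', e, ht⟩)

theorem invOn_oddOrd (H : Subgroup G) : InvOn H OddOrd := fun h _ g _ hg => by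
  have e : orderOf (h * g * h⁻¹) = orderOf g := by
    simpa using (MulAut.conj h).orderOf_eq g
  show Odd _
  rw [e]; exact hg

omit [Finite G] in
theorem conj_mem_zpowers {u g : G} (h : G) (hu : u ∈ zpowers g) :
    h * u * h⁻¹ ∈ zpowers (h * g * h⁻¹) := by
  obtain ⟨k, rfl⟩ := mem_zpowers_iff.1 hu
  exact mem_zpowers_iff.2 ⟨k, by rw [conj_zpow]⟩

omit [Finite G] in
theorem mem_cent_iff {u h : G} : h ∈ centralizer ({u} : Set G) ↔ h * u = u * h :=
  mem_centralizer_singleton_iff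

omit [Finite G] in
theorem cent_conj {u h : G} (hh : h ∈ centralizer ({u} : Set G)) : h * u * h⁻¹ = u := by
  rw [mem_cent_iff.1 hh, mul_inv_cancel_right]

omit [Finite G] in
theorem self_mem_cent {u g : G} (hu : u ∈ zpowers g) : g ∈ centralizer ({u} : Set G) := by
  obtain ⟨k, rfl⟩ := mem_zpowers_iff.1 hu
  exact mem_cent_iff.2 ((Commute.refl g).zpow_right k).eq

omit [Finite G] in
theorem invOn_pow (u : G) : InvOn (centralizer ({u} : Set G)) (fun g => u ∈ zpowers g) :=
  fun h hh g _ hg => by simpa [cent_conj hh] using conj_mem_zpowers h hg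

/-- The involution of a cyclic group is unique. -/
theorem invol_unique {u v g : G} (hu : u ∈ zpowers g) (hv : v ∈ zpowers g) (hu2 : orderOf u = 2)
    (hv2 : orderOf v = 2) : u = v := by
  have h2 : 2 ∣ orderOf g := hu2 ▸ (orderOf_dvd_of_mem_zpowers hu)
  obtain ⟨m, hm⟩ := h2
  have key : ∀ w ∈ zpowers g, orderOf w = 2 → w = g ^ m := by
    intro w hw hw2
    obtain ⟨k, hk⟩ := (Submonoid.mem_powers_iff _ _).1 (mem_powers_iff_mem_zpowers.2 hw)
    subst hk
    have hsq : g ^ (k * 2) = 1 := by rw [pow_mul, ← hw2]; exact pow_orderOf_eq_one _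
    have hd := orderOf_dvd_of_pow_eq_one hsq
    rw [hm, mul_comm 2 m] at hd
    have hmk : m ∣ k := Nat.dvd_of_mul_dvd_mul_right (by norm_num) hd
    obtain ⟨l, rfl⟩ := hmk
    rcases Nat.even_or_odd l with ⟨j, rfl⟩ | ⟨j, rfl⟩
    · exfalso
      have : g ^ (m * (j + j)) = 1 := by
        rw [show m * (j + j) = (2 * m) * j by ring, ← hm, pow_mul, pow_orderOf_eq_one, one_pow]
      rw [this, orderOf_one] at hw2
      exact absurd hw2 (by norm_num)
    · rw [show m * (2 * j + 1) = (2 * m) * j + m by ring, ← hm, pow_add, pow_mul, pow_orderOf_eq_one,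
        one_pow, one_mul]
  rw [key u hu hu2, key v hv hv2]

/-- An element of even order has an involution among its powers. -/
theorem exists_invol {g : G} (hg : ¬ Odd (orderOf g)) :
    ∃ u ∈ zpowers g, orderOf u = 2 := by
  obtain ⟨m, hm⟩ := Nat.not_odd_iff_even.1 hg
  refine ⟨g ^ m, pow_mem (mem_zpowers g) m, ?_⟩
  have h0 := orderOf_pos g
  rw [orderOf_pow' g (by omega), show orderOf g = m * 2 by omega, Nat.gcd_mul_right_left,
    Nat.mul_div_cancel_left _ (by omega)]

omit [Finite G] in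
theorem zpowers_even {u g : G} (hu : u ∈ zpowers g) (hu2 : orderOf u = 2) : ¬ Odd (orderOf g) := by
  have := hu2 ▸ orderOf_dvd_of_mem_zpowers hu
  exact Nat.not_odd_iff_even.2 (even_iff_two_dvd.2 this)

/-- Fusion of the elements with a given involution power is controlled by its centraliser. -/
theorem classesIn_pow {u : G} (hu : orderOf u = 2) :
    classesIn (⊤ : Subgroup G) (fun g => ∃ v ∈ zpowers g, IsConj u v ∧ orderOf v = 2) =
      classesIn (centralizer ({u} : Set G)) (fun g => u ∈ zpowers g) := by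
  classical
  symm
  let C := centralizer ({u} : Set G)
  let f : ↥C → ↥(⊤ : Subgroup G) := fun g => ⟨g, trivial⟩
  have hf : ∀ a b : ↥C, IsConj a b → IsConj (f a) (f b) := fun a b h => by
    obtain ⟨c, hc⟩ := isConj_iff.1 h
    refine isConj_iff.2 ⟨f c, Subtype.ext ?_⟩
    exact congrArg (fun x : ↥C => (x : G)) hc
  refine Nat.card_congr (Equiv.ofBijective (fun c => ⟨Quotient.liftOn c.1 (fun a => ConjClasses.mk (f a))
    (fun a b h => ConjClasses.mk_eq_mk_iff_isConj.2 (hf a b h)), ?_⟩) ⟨?_, ?_⟩)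
  · obtain ⟨h, e, hp⟩ := c.2
    refine ⟨f h, ?_, u, hp, IsConj.refl u, hu⟩
    rw [← e]; rfl
  · rintro ⟨c, a, rfl, ha⟩ ⟨d, b, rfl, hb⟩ e
    have e' : IsConj (f a) (f b) := ConjClasses.mk_eq_mk_iff_isConj.1 (Subtype.mk.inj e)
    obtain ⟨g, hg⟩ := isConj_iff.1 e'
    have hg' : (g : G) * a * (g : G)⁻¹ = b := congrArg Subtype.val hg
    have h1 : (g : G) * u * (g : G)⁻¹ = u := by
      refine invol_unique (g := (b : G)) ?_ hb ?_ hu
      · rw [← hg']; exact conj_mem_zpowers _ ha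
      · simpa [hu] using (MulAut.conj (g : G)).orderOf_eq u
    refine Subtype.ext (ConjClasses.mk_eq_mk_iff_isConj.2 (isConj_iff.2 ⟨⟨g, ?_⟩, Subtype.ext hg'⟩))
    exact mem_cent_iff.2 (mul_inv_eq_iff_eq_mul.1 h1)
  · rintro ⟨c, g, rfl, v, hv, hc, -⟩
    obtain ⟨k, hk⟩ := isConj_iff.1 hc
    have hmem : u ∈ zpowers (k⁻¹ * (g : G) * k) := by
      have := conj_mem_zpowers k⁻¹ hv
      rw [← hk] at this
      simpa [mul_assoc] using this
    refine ⟨⟨ConjClasses.mk ⟨_, self_mem_cent hmem⟩, _, rfl, hmem⟩, Subtype.ext ?_⟩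
    exact ConjClasses.mk_eq_mk_iff_isConj.2 (isConj_iff.2 ⟨⟨k, trivial⟩, Subtype.ext (by
      show k * (k⁻¹ * (g : G) * k) * k⁻¹ = g
      group)⟩)

/-- The classes by involution power. -/
theorem card_split {z t : G} (hz : orderOf z = 2) (ht : orderOf t = 2) (hzt : ¬ IsConj z t)
    (hcl : ∀ u : G, orderOf u = 2 → IsConj z u ∨ IsConj t u) :
    Nat.card (ConjClasses G) = classesIn (⊤ : Subgroup G) OddOrd +
      classesIn (centralizer ({z} : Set G)) (fun g => z ∈ zpowers g) +
      classesIn (centralizer ({t} : Set G)) (fun g => t ∈ zpowers g) := by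
  have inv : ∀ u : G, InvOn (⊤ : Subgroup G) (fun g => ∃ v ∈ zpowers g, IsConj u v ∧ orderOf v = 2) := by
    rintro u h - g - ⟨v, hv, hc, hv2⟩
    exact ⟨h * v * h⁻¹, conj_mem_zpowers h hv, hc.trans (isConj_iff.2 ⟨h, rfl⟩),
      by simpa [hv2] using (MulAut.conj h).orderOf_eq v⟩
  have e0 : classesIn (⊤ : Subgroup G) (fun _ => True) = Nat.card (ConjClasses G) := by
    refine (Nat.card_congr (Equiv.subtypeUnivEquiv fun c => ?_)).trans ?_
    · obtain ⟨h, rfl⟩ := ConjClasses.exists_rep c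
      exact ⟨h, rfl, trivial⟩
    · exact Nat.card_congr {
        toFun := ConjClasses.map (Subgroup.topEquiv (G := G)).toMonoidHom
        invFun := ConjClasses.map (Subgroup.topEquiv (G := G)).symm.toMonoidHom
        left_inv := fun c => by
          obtain ⟨h, rfl⟩ := ConjClasses.exists_rep c
          simp [ConjClasses.map]
          rfl
        right_inv := fun c => by
          obtain ⟨h, rfl⟩ := ConjClasses.exists_rep c
          rfl }
  rw [← e0, ← classesIn_pow hz, ← classesIn_pow ht]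
  rw [classesIn_add (S := OddOrd) (T := fun g => ∃ u ∈ zpowers g, orderOf u = 2)]
  · rw [classesIn_add (inv z) (inv t) (U := fun g => ∃ u ∈ zpowers g, orderOf u = 2), add_assoc]
    · rintro g - ⟨v, hv, hc, hv2⟩ ⟨w, hw, hd, hw2⟩
      exact hzt (hc.trans ((invol_unique hv hw hv2 hw2) ▸ hd.symm))
    · exact fun g _ => ⟨fun ⟨u, hu, hu2⟩ => (hcl u hu2).imp (fun h => ⟨u, hu, h, hu2⟩)
        fun h => ⟨u, hu, h, hu2⟩, fun h => h.elim (fun ⟨u, a, _, b⟩ => ⟨u, a, b⟩)
        fun ⟨u, a, _, b⟩ => ⟨u, a, b⟩⟩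
  · exact invOn_oddOrd _
  · rintro h - g - ⟨u, hu, hu2⟩
    exact ⟨h * u * h⁻¹, conj_mem_zpowers h hu, by simpa [hu2] using (MulAut.conj h).orderOf_eq u⟩
  · rintro g - ho ⟨u, hu, hu2⟩
    exact zpowers_even hu hu2 ho
  · refine fun g _ => ⟨fun _ => ?_, fun _ => trivial⟩
    by_cases ho : OddOrd g
    · exact .inl ho
    · exact .inr (exists_invol ho)

theorem odd_mul_self {u g : G} (hu : orderOf u = 2) (hc : g * u = u * g) (ho : Odd (orderOf g)) :
    u ∈ zpowers (g * u) := by
  have hsq : u ^ 2 = 1 := hu ▸ pow_orderOf_eq_one u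
  have : (g * u) ^ orderOf g = u := by
    rw [Commute.mul_pow hc, pow_orderOf_eq_one, one_mul]
    obtain ⟨j, hj⟩ := ho
    rw [hj, pow_succ, pow_mul, hsq, one_pow, one_mul]
  have h2 := pow_mem (mem_zpowers (g * u)) (orderOf g)
  rwa [this] at h2

/-- The products of a central involution with the elements of odd order. -/
theorem classesIn_mul_odd {u : G} (hu : orderOf u = 2) :
    classesIn (centralizer ({u} : Set G)) (fun g => u ∈ zpowers g ∧ Odd (orderOf (g * u))) =
      classesIn (centralizer ({u} : Set G)) OddOrd := by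
  classical
  have huC : u ∈ centralizer ({u} : Set G) := mem_cent_iff.2 rfl
  let C := centralizer ({u} : Set G)
  let uu : ↥C := ⟨u, huC⟩
  have hsq : u * u = 1 := by rw [← pow_two]; exact hu ▸ pow_orderOf_eq_one u
  have hconj : ∀ a b : ↥C, IsConj a b → IsConj (a * uu) (b * uu) := fun a b h => by
    obtain ⟨c, hc⟩ := isConj_iff.1 h
    refine isConj_iff.2 ⟨c, Subtype.ext ?_⟩
    have hc' : (c : G) * a * (c : G)⁻¹ = b := congrArg Subtype.val hc
    show (c : G) * (a * u) * (c : G)⁻¹ = b * u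
    calc (c : G) * (a * u) * (c : G)⁻¹ = ((c : G) * a * (c : G)⁻¹) * ((c : G) * u * (c : G)⁻¹) := by group
      _ = b * u := by rw [hc', cent_conj c.2]
  let m : ConjClasses ↥C → ConjClasses ↥C := fun c => Quotient.liftOn c
    (fun a => ConjClasses.mk (a * uu)) fun a b h => ConjClasses.mk_eq_mk_iff_isConj.2 (hconj a b h)
  have hm : ∀ c, m (m c) = c := fun c => by
    obtain ⟨a, rfl⟩ := ConjClasses.exists_rep c
    show ConjClasses.mk (a * uu * uu) = _
    congr 1
    exact Subtype.ext (by show (a : G) * u * u = a; rw [mul_assoc, hsq, mul_one])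
  refine Nat.card_congr (Equiv.subtypeEquiv ⟨m, m, hm, hm⟩ fun c => ?_)
  constructor
  · rintro ⟨h, rfl, -, ho⟩
    exact ⟨h * uu, rfl, ho⟩
  · rintro ⟨h, e, ho⟩
    refine ⟨h * uu, ?_, odd_mul_self hu (mem_cent_iff.1 h.2) ho, ?_⟩
    · have e' : ConjClasses.mk h = m c := e
      rw [← hm c, ← e']; rfl
    · show Odd (orderOf ((h : G) * u * u))
      rw [mul_assoc, hsq, mul_one]
      exact ho

/-- The classes with a given central involution power, by the image modulo the radical. -/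
theorem classesIn_three {u : G} (R : Subgroup G) (hu : orderOf u = 2) (huR : u ∈ R)
    (hR : centralizer ({u} : Set G) ≤ normalizer (R : Set G)) :
    classesIn (centralizer ({u} : Set G)) (fun g => u ∈ zpowers g) =
      classesIn (centralizer ({u} : Set G)) OddOrd +
      classesIn (centralizer ({u} : Set G)) (RootPart R u) +
      classesIn (centralizer ({u} : Set G)) (RadPart R u) := by
  have hcj : ∀ h ∈ centralizer ({u} : Set G), ∀ g : G, h * g * h⁻¹ * u = h * (g * u) * h⁻¹ :=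
    fun h hh g => by
    calc h * g * h⁻¹ * u = h * g * h⁻¹ * (h * u * h⁻¹) := by rw [cent_conj hh]
      _ = _ := by group
  have hodd : ∀ h ∈ centralizer ({u} : Set G), ∀ g : G,
      Odd (orderOf (h * g * h⁻¹ * u)) ↔ Odd (orderOf (g * u)) := fun h hh g => by
    rw [hcj h hh g, show orderOf (h * (g * u) * h⁻¹) = orderOf (g * u) by
      simpa using (MulAut.conj h).orderOf_eq (g * u)]
  have hrad : ∀ h ∈ centralizer ({u} : Set G), ∀ g : G,
      (∃ n, Odd n ∧ (h * g * h⁻¹) ^ n ∈ R) ↔ ∃ n, Odd n ∧ g ^ n ∈ R := fun h hh g => by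
    refine exists_congr fun n => and_congr_right fun _ => ?_
    rw [conj_pow]
    exact (mem_normalizer_iff.1 (hR hh) _).symm
  have hP := invOn_pow u
  have i1 : InvOn (centralizer ({u} : Set G)) (fun g => u ∈ zpowers g ∧ Odd (orderOf (g * u))) :=
    fun h hh g hg hs => ⟨hP h hh g hg hs.1, (hodd h hh g).2 hs.2⟩
  have i2 : InvOn (centralizer ({u} : Set G)) (RootPart R u) :=
    fun h hh g hg hs => ⟨hP h hh g hg hs.1, fun e => hs.2 ((hrad h hh g).1 e)⟩
  have i3 : InvOn (centralizer ({u} : Set G)) (RadPart R u) :=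
    fun h hh g hg hs => ⟨hP h hh g hg hs.1, fun e => hs.2.1 ((hodd h hh g).1 e),
      (hrad h hh g).2 hs.2.2⟩
  have hone : ∀ g ∈ centralizer ({u} : Set G), Odd (orderOf (g * u)) → ∃ n, Odd n ∧ g ^ n ∈ R := by
    intro g hg ho
    refine ⟨_, ho, ?_⟩
    have hsq : u ^ 2 = 1 := hu ▸ pow_orderOf_eq_one u
    have e := pow_orderOf_eq_one (g * u)
    rw [Commute.mul_pow (mem_cent_iff.1 hg)] at e
    obtain ⟨j, hj⟩ := ho
    rw [hj, pow_succ u, pow_mul, hsq, one_pow, one_mul] at e
    rw [hj, eq_inv_of_mul_eq_one_left e]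
    exact inv_mem huR
  rw [← classesIn_mul_odd hu,
    classesIn_add (S := fun g => u ∈ zpowers g ∧ Odd (orderOf (g * u)))
      (T := fun g => RootPart R u g ∨ RadPart R u g),
    classesIn_add i2 i3 (U := fun g => RootPart R u g ∨ RadPart R u g), add_assoc]
  · exact fun g _ a b => a.2 b.2.2
  · exact fun g _ => Iff.rfl
  · exact i1
  · exact fun h hh g hg hs => hs.imp (i2 h hh g hg) (i3 h hh g hg)
  · rintro g hg ⟨-, ho⟩ (h | h)
    · exact h.2 (hone g hg ho)
    · exact h.2.1 ho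
  · intro g _
    constructor
    · intro hp
      by_cases ho : Odd (orderOf (g * u))
      · exact .inl ⟨hp, ho⟩
      by_cases hr : ∃ n, Odd n ∧ g ^ n ∈ R
      · exact .inr (.inr ⟨hp, ho, hr⟩)
      · exact .inr (.inl ⟨hp, hr⟩)
    · rintro (h | h | h) <;> exact h.1

/-- The radical part is empty when the radical has exponent two. -/
theorem radPart_eq_zero {u : G} (R : Subgroup G) (hu : orderOf u = 2) (hR : ∀ x ∈ R, x * x = 1) :
    classesIn (centralizer ({u} : Set G)) (RadPart R u) = 0 := by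
  refine Nat.card_eq_zero.2 (.inl ⟨fun ⟨c, h, _, hp, hno, n, hn, hmem⟩ => hno ?_⟩)
  have hsq : u ^ 2 = 1 := hu ▸ pow_orderOf_eq_one u
  -- the involution power is the odd power
  have h2n : ((h : G) ^ n) ^ 2 = 1 := by rw [pow_two]; exact hR _ hmem
  have hne : ¬ Odd (orderOf (h : G)) := zpowers_even hp hu
  have hn1 : (h : G) ^ n ≠ 1 := fun e =>
    hne (hn.of_dvd_nat (orderOf_dvd_of_pow_eq_one e))
  have hu' : (h : G) ^ n = u := invol_unique (pow_mem (mem_zpowers _) n) hp
    (orderOf_eq_prime h2n hn1) hu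
  refine hn.of_dvd_nat (orderOf_dvd_of_pow_eq_one ?_)
  rw [Commute.mul_pow (mem_cent_iff.1 h.2), hu', ← pow_succ']
  obtain ⟨j, hj⟩ := hn
  rw [hj, show 2 * j + 1 + 1 = 2 * (j + 1) by ring, pow_mul, hsq, one_pow]

end CfsgLib.J4Type.Classes
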