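import Cfsg.Agent.Lib.J4Type.Classes.RootZPairs
import Cfsg.Agent.Lib.J4Type.Classes.Split

/-!
The classes of the elements of the centraliser of the central involution with that involution as a
power and with image of even order modulo the radical: there are ten.
-/

set_option autoImplicit false
set_option linter.unusedSectionVars false
set_option maxRecDepth 100000

namespace CfsgLib.J4Type.Classes.RootZ

open Cfsg Subgroup CfsgLib.J4Type CfsgLib.J4Type.Order CfsgLib.J4Type.NV CfsgLib.J4Type.Cert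

theorem mv_lt_two_pow {d : ℕ} : ∀ (l : List ℕ), (∀ a ∈ l, a < 2 ^ d) → ∀ v, mv l v < 2 ^ d
  | [], _, _ => Nat.two_pow_pos d
  | a :: l, h, v => by
    have ih := mv_lt_two_pow l (fun x hx => h x (List.mem_cons_of_mem _ hx)) (v / 2)
    simp only [mv]
    cases Nat.beq (v % 2) 1
    · exact ih
    · exact Nat.xor_lt_two_pow (h a List.mem_cons_self) ih

theorem val_pow (l : LGrp) : ∀ j : ℕ, (l ^ j).1 = powM l.1 j
  | 0 => by rw [pow_zero]; rfl
  | j + 1 => by rw [pow_succ', LGrp.val_mul, val_pow l j]; rfl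

theorem orderOf_eq_of_exact {l : LGrp} {m : ℕ} (h : exactOrd l.1 m = true) : orderOf l = m := by
  obtain ⟨hm, hp, hmin⟩ := exactOrd.pow_eq h
  refine (orderOf_eq_iff hm).2 ⟨LGrp.ext (by rw [val_pow]; exact hp), fun j hj hj0 e => ?_⟩
  exact hmin j hj0 hj (by rw [← val_pow, e]; rfl)

theorem fshift_eq (k : List ℕ) (f a : ℕ) : fshift k f a = shift k f a := by
  rw [fshift, shift, femul_eq, femul_eq, feact_eq]

theorem powE_eq (n : List ℕ) (m a : ℕ) : powE n m a = epow n (linB n) a m := fepow_eq _ _ _ _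

theorem eV_emul (a b : ℕ) : eV (emul a b) = eV a ^^^ eV b :=
  eV_eMk (Nat.xor_lt_two_pow (n := 12) (eV_lt a) (eV_lt b)) _

theorem eV_eact {m : List ℕ} (hm : InL m) (l : Bool) (a : ℕ) : eV (eact m l a) = mv m (eV a) :=
  eV_eMk (hm.mv_lt _) _

theorem eV_shift {n : List ℕ} (hn : InL n) (f a : ℕ) :
    eV (shift n f a) = eV f ^^^ eV a ^^^ mv n (eV f) := by
  rw [shift, eV_emul, eV_emul, eV_eact hn, einv, eV_eMk (eV_lt f)]

theorem eV_small {a : ℕ} (ha : a < 4096) : eV a = a := Nat.mod_eq_of_lt ha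

variable {G : Type*} [Group G] [Finite G] {z : G} {P : Subgroup G} {F : Frame z P}

/-- Conjugate in the centraliser of the central involution. -/
def Rel (z a b : G) : Prop := ∃ w ∈ Cen z, w * a * w⁻¹ = b

theorem Rel.symm {a b : G} : Rel z a b → Rel z b a := by
  rintro ⟨w, hw, rfl⟩; exact ⟨w⁻¹, inv_mem hw, by group⟩

theorem Rel.trans {a b c : G} : Rel z a b → Rel z b c → Rel z a c := by
  rintro ⟨w, hw, rfl⟩ ⟨v, hv, rfl⟩; exact ⟨v * w, mul_mem hv hw, by group⟩

theorem dec_flip (F : Frame z P) {v : ℕ} (hv : v < 4096) : F.dec (v + 4096) = F.dec v * z := by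
  rw [show v + 4096 = eMk v true from rfl, F.dec_eMk hv]
  conv_rhs => rw [show v = eMk v false from rfl, F.dec_eMk hv]
  simp [Frame.zp]

theorem dec_two (F : Frame z P) (a : ℕ) : F.dec a = F.dec (eV a) ∨ F.dec a = F.dec (eV a) * z := by
  rcases Nat.lt_or_ge a 4096 with h | h
  · exact Or.inl (by rw [eV_small h])
  · cases hs : eS a
    · left
      show F.eE (eV a) * F.zp (eS a) = F.eE (eV (eV a)) * F.zp (eS (eV a))
      rw [hs, eV_small (eV_lt a), show eS (eV a) = false from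
        Nat.testBit_lt_two_pow (show eV a < 2 ^ 12 from eV_lt a)]
    · right
      rw [← dec_flip F (eV_lt a), show eV a + 4096 = eMk (eV a) true from rfl, F.dec_eMk (eV_lt a),
        Frame.dec, hs]

section Class

variable (D : VData F) (hf : Fused D) {c : ℕ} (h1 : 1 ≤ c) (h3 : c ≤ 3) {s : Cls}
  (hs : s ∈ (cenOf c).cls)
include h1 h3 hs

theorem cls_facts : s.idx < (cenOf c).size ∧ InL ((cenOf c).clsM s) ∧
    exactOrd ((cenOf c).clsM s) s.ord = true ∧ s.ord % 2 = 0 ∧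
    powM ((cenOf c).clsM s) (s.ord / 2) = kr c ∧ projOK ((cenOf c).clsM s) s = true ∧
    (∀ r ∈ s.reps, repAt ((cenOf c).clsM s) s.ord r = true) ∧
    ∀ j < 2 ^ s.base.length, witAt (cenOf c) s ((cenOf c).clsM s) j = true := by
  obtain ⟨hc, hk, -, -, -, hcls⟩ := cenOf_ok c h1 h3
  have h := List.all_eq_true.1 hcls s hs
  simp only [clsAt, Bool.and_eq_true, List.all_eq_true, List.mem_range, hc, hk] at h
  obtain ⟨a, b, d, e, f, g, i⟩ := h
  exact ⟨Cert.blt_lt a, (el_facts h1 h3 (Cert.blt_lt a)).2.1, b, Nat.eq_of_beq_eq_true d,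
    eq_of_beq e, f, g, i⟩

theorem proj_facts : (∀ v, mv s.tr v < 4096) ∧ (∀ v, mv s.cf v < 2 ^ s.base.length) ∧
    (∀ v, mv s.base v < 4096) ∧
    (∀ v < 4096, v ^^^ (mv s.tr v ^^^ mv ((cenOf c).clsM s) (mv s.tr v)) = mv s.base (mv s.cf v)) ∧
    ∀ v < 4096, mv s.cf (v ^^^ mv ((cenOf c).clsM s) v) = 0 := by
  obtain ⟨-, -, -, -, -, h, -⟩ := cls_facts h1 h3 hs
  simp only [projOK, Bool.and_eq_true, List.all_eq_true, List.mem_range] at h
  obtain ⟨-, ht, hcf, hb, hj⟩ := h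
  refine ⟨fun v => Cert.mv_lt _ _ fun a ha => Cert.blt_lt (ht a ha),
    mv_lt_two_pow _ fun a ha => Cert.blt_lt (hcf a ha),
    fun v => Cert.mv_lt _ _ fun a ha => Cert.blt_lt (hb a ha), ?_, ?_⟩
  · refine lin_ext (n := 12) ?_ ?_ fun i hi => Nat.eq_of_beq_eq_true (hj i hi).1
    · intro a b _ _
      simp only [mv_xor]
      simp only [Nat.xor_assoc, Nat.xor_comm, Nat.xor_left_comm]
    · intro a b _ _
      simp only [mv_xor]
  · refine lin_ext (g := fun _ => 0) (n := 12) ?_ (fun _ _ _ _ => (Nat.xor_self 0).symm)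
      fun i hi => Nat.eq_of_beq_eq_true (hj i hi).2
    intro a b _ _
    simp only [mv_xor]
    simp only [Nat.xor_assoc, Nat.xor_comm, Nat.xor_left_comm]

variable {x : G} (hx : x ∈ Cen z) (hxn : x ∈ normalizer (P : Set G))
  (hmx : F.mat x = (cenOf c).clsM s)
include hx hxn hmx D hf

theorem x_pow : x ^ s.ord = 1 := by
  obtain ⟨-, -, hord, hev, -⟩ := cls_facts h1 h3 hs
  obtain ⟨-, hp, -⟩ := exactOrd.pow_eq hord
  rw [show s.ord = s.ord / 2 + s.ord / 2 by omega, pow_add]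
  refine Frame.lift_sq D hf (pow_mem hx _) (pow_mem hxn _) ?_
  rw [← F.mat_mul _ (pow_mem hx _) _ (pow_mem hx _), ← pow_add,
    show s.ord / 2 + s.ord / 2 = s.ord by omega, F.mat_pow_eq hx, hmx, hp]

theorem hit_iff (a : ℕ) :
    z ∈ zpowers (F.dec a * x) ↔ hitZ (powE ((cenOf c).clsM s) s.ord a) = true := by
  obtain ⟨-, -, hord, -, -⟩ := cls_facts h1 h3 hs
  have hm : exactOrd (F.mat (F.dec a * x)) s.ord = true := by
    rw [Frame.mat_coset D hx, hmx]; exact hord
  have hp := F.dec_mul_pow hx hxn a s.ord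
  rw [x_pow D hf h1 h3 hs hx hxn hmx, mul_one, hmx, ← powE_eq] at hp
  refine F.hitZ_iff (mul_mem (F.dec_mem_cen a) hx) hm ?_ hp
  rw [powE_eq]
  obtain ⟨hm0, -, -⟩ := exactOrd.pow_eq hord
  obtain ⟨j, hj⟩ := Nat.exists_eq_succ_of_ne_zero hm0.ne'
  rw [hj]
  exact emul_lt _ _

/-- Over a class every code with the central involution as a power is conjugate to a tabulated
one. -/
theorem cover {a : ℕ} (hz : z ∈ zpowers (F.dec a * x)) :
    ∃ r, r < s.reps.length ∧ Rel z (F.dec (s.reps.getD r (0, 0)).1 * x) (F.dec a * x) := by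
  obtain ⟨-, hnL, -, -, -, -, hreps, hwit⟩ := cls_facts h1 h3 hs
  obtain ⟨htr, hcf, hb, hdec, -⟩ := proj_facts h1 h3 hs
  set n := (cenOf c).clsM s
  set t := mv s.tr (eV a)
  set v := mv s.base (mv s.cf (eV a))
  have hsh : Rel z (F.dec a * x) (F.dec (shift n t a) * x) :=
    ⟨F.dec t, F.dec_mem_cen t, by rw [Frame.dec_shift D hx hxn, hmx]⟩
  have hv : eV (shift n t a) = v := by
    rw [eV_shift hnL, eV_small (htr _), Nat.xor_comm t, Nat.xor_assoc]
    exact hdec _ (eV_lt a)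
  have hz' : z ∈ zpowers (F.dec (shift n t a) * x) := by
    obtain ⟨w, hw, e⟩ := hsh
    rw [← e]
    simpa [cent_conj hw] using conj_mem_zpowers w hz
  have htwo := dec_two F (shift n t a)
  rw [hv] at htwo
  have hw := hwit _ (hcf (eV a))
  simp only [witAt] at hw
  cases hb0 : Nat.beq (s.wit.getD (mv s.cf (eV a)) 0) 0 with
  | true =>
    rw [hb0, cond_true] at hw
    simp only [Bool.and_eq_true, Bool.not_eq_true'] at hw
    exfalso
    rcases htwo with e | e
    · rw [e, hit_iff D hf h1 h3 hs hx hxn hmx, hw.1] at hz'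
      exact Bool.noConfusion hz'
    · rw [e, ← dec_flip F (hb _), hit_iff D hf h1 h3 hs hx hxn hmx, hw.2] at hz'
      exact Bool.noConfusion hz'
  | false =>
    rw [hb0, cond_false] at hw
    simp only [Bool.and_eq_true] at hw
    obtain ⟨hr, hgi, hcom, hev⟩ := hw
    set r := (s.wit.getD (mv s.cf (eV a)) 0 - 1) % 8
    set f := (s.wit.getD (mv s.cf (eV a)) 0 - 1) / 8 % 4096
    set gi := (s.wit.getD (mv s.cf (eV a)) 0 - 1) / 8 / 4096
    refine ⟨r, Cert.blt_lt hr, ?_⟩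
    set q := s.reps.getD r (0, 0)
    have hq := hreps q (by rw [show q = s.reps[r]'(Cert.blt_lt hr) from
      List.getD_eq_getElem _ _ _]; exact List.getElem_mem _)
    simp only [repAt, Bool.and_eq_true] at hq
    obtain ⟨hq1, hq2, -, hfus⟩ := hq
    have hq1' := Cert.blt_lt hq1
    obtain ⟨g, hg, hgn, hgm⟩ := F.exists_liftN ⟨_, (el_facts h1 h3 (Cert.blt_lt hgi)).2.1⟩
    change F.mat g = (cenOf c).mat gi at hgm
    set e := eact ((cenOf c).mat gi) (linB ((cenOf c).mat gi)) q.1 with he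
    have hconj : g * x * g⁻¹ = x ∨ g * x * g⁻¹ = x * z := by
      refine Frame.eq_or_zmul D (mul_mem (mul_mem hg hx) (inv_mem hg))
        (mul_mem (mul_mem hgn hxn) (inv_mem hgn)) hx hxn ?_
      rw [F.mat_mul _ (mul_mem hg hx) _ (inv_mem hg), F.mat_mul _ hg _ hx, hgm, hmx,
        eq_of_beq hcom, ← hgm, ← hmx, ← F.mat_mul _ hx _ hg,
        ← F.mat_mul _ (mul_mem hx hg) _ (inv_mem hg), mul_inv_cancel_right]
    have hz1 : ∀ b : ℕ, g * (F.dec b * x) * g⁻¹ = F.dec (eact ((cenOf c).mat gi)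
        (linB ((cenOf c).mat gi)) b) * (g * x * g⁻¹) := fun b => by
      rw [← hgm, ← F.conj_dec hg hgn]; group
    have hx2 : x * z = z * x := (F.z_comm hx)
    have hfl : Rel z (F.dec q.1 * x) (F.dec q.1 * x * z) := by
      refine ⟨F.dec q.2, F.dec_mem_cen _, ?_⟩
      rw [Frame.dec_shift D hx hxn, hmx, ← fshift_eq, Nat.eq_of_beq_eq_true hfus, dec_flip F hq1',
        mul_assoc, ← hx2, ← mul_assoc]
    have hboth : Rel z (F.dec q.1 * x) (F.dec e * x) ∧ Rel z (F.dec q.1 * x) (F.dec e * x * z) := by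
      have r1 : Rel z (F.dec q.1 * x) (F.dec e * (g * x * g⁻¹)) := ⟨g, hg, hz1 _⟩
      have r2 : Rel z (F.dec q.1 * x) (F.dec e * (g * x * g⁻¹) * z) := by
        refine hfl.trans ⟨g, hg, ?_⟩
        rw [← hz1]
        simp only [mul_assoc, (F.z_comm (inv_mem hg)).symm]
      rcases hconj with k | k <;> rw [k] at r1 r2
      · exact ⟨r1, r2⟩
      · rw [← mul_assoc] at r1 r2
        rw [mul_assoc (F.dec e * x), F.z_mul_z, mul_one] at r2
        exact ⟨r2, r1⟩
    have hev' : eV (shift n f e) = v := by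
      rw [← fshift_eq, he, ← feact_eq]; exact Nat.eq_of_beq_eq_true hev
    have hA : Rel z (F.dec e * x) (F.dec (shift n f e) * x) :=
      ⟨F.dec f, F.dec_mem_cen _, by rw [Frame.dec_shift D hx hxn, hmx]⟩
    have hB : Rel z (F.dec e * x * z) (F.dec (shift n f e) * x * z) := by
      refine ⟨F.dec f, F.dec_mem_cen _, ?_⟩
      rw [← hmx, ← Frame.dec_shift D hx hxn]
      simp only [mul_assoc, (F.z_comm (inv_mem (F.dec_mem_cen f))).symm]
    have htwo' := dec_two F (shift n f e)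
    rw [hev'] at htwo'
    have key : Rel z (F.dec q.1 * x) (F.dec (shift n t a) * x) := by
      have hswap : ∀ b : ℕ, F.dec b * z * x = F.dec b * x * z := fun b => by
        rw [mul_assoc, ← hx2, ← mul_assoc]
      rcases htwo with k | k <;> rcases htwo' with k' | k' <;> rw [k]
      · exact hboth.1.trans (k' ▸ hA)
      · refine hboth.2.trans ?_
        have := hB
        rw [k', hswap, mul_assoc (F.dec v * x), F.z_mul_z, mul_one] at this
        exact this
      · rw [hswap]; exact hboth.2.trans (k' ▸ hB)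
      · exact hboth.1.trans (k' ▸ hA)
    exact key.trans hsh.symm

/-- Two codes over one class with separated projections are not conjugate. -/
theorem not_rel_of_sep {a b : ℕ} (ha : a < 4096) (hb : b < 4096)
    (hsep : sepAt (cenOf c) s a b = true) : ¬ Rel z (F.dec a * x) (F.dec b * x) := by
  obtain ⟨-, hnL, hord, hev, hhalf, -⟩ := cls_facts h1 h3 hs
  obtain ⟨-, -, -, -, hker⟩ := proj_facts h1 h3 hs
  rintro ⟨u, hu, e⟩
  set n := (cenOf c).clsM s
  set lu : LGrp := ⟨F.mat u, F.mat_inL u hu⟩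
  set ln : LGrp := ⟨n, hnL⟩
  have hax := mul_mem (F.dec_mem_cen a) hx
  have hcn : lu * ln = ln * lu := by
    refine LGrp.ext ?_
    show mm (F.mat u) n = mm n (F.mat u)
    have e2 : u * (F.dec a * x) = F.dec b * x * u := mul_inv_eq_iff_eq_mul.1 e
    have := congrArg F.mat e2
    rwa [F.mat_mul _ hu _ hax, F.mat_mul _ (mul_mem (F.dec_mem_cen b) hx) _ hu,
      Frame.mat_coset D hx, Frame.mat_coset D hx, hmx] at this
  have hk : ln ^ (s.ord / 2) = krL h3 := LGrp.ext (by rw [val_pow]; exact hhalf)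
  obtain ⟨⟨i, hi⟩, hiu⟩ := exists_el h1 h3 (l := lu) (by
    rw [← hk]; exact ((show Commute lu ln from hcn).pow_right _).eq)
  have hmat : (cenOf c).mat i = F.mat u := congrArg Subtype.val hiu
  have h := List.all_eq_true.1 hsep i (List.mem_range.2 hi)
  simp only [Bool.or_eq_true, Bool.not_eq_true', fpr_eq, fmvT_eq] at h
  rw [show unpk ((cenOf c).el.get i) = F.mat u from hmat,
    show unpk ((cenOf c).el.get s.idx) = n from rfl] at h
  rcases h with h | h
  · exact Nat.ne_of_beq_eq_false h (congrArg pk (congrArg Subtype.val hcn))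
  apply Nat.ne_of_beq_eq_false h
  -- the vector of the image
  obtain ⟨g, hg, hgn, hgm⟩ := F.exists_liftN lu
  change F.mat g = F.mat u at hgm
  obtain ⟨f, -, rfl⟩ := Frame.exists_code D hu hg hgm.symm
  set e0 := eact (F.mat g) (linB (F.mat g)) a
  have hconj : g * x * g⁻¹ = x ∨ g * x * g⁻¹ = x * z := by
    refine Frame.eq_or_zmul D (mul_mem (mul_mem hg hx) (inv_mem hg))
      (mul_mem (mul_mem hgn hxn) (inv_mem hgn)) hx hxn ?_
    rw [F.mat_mul _ (mul_mem hg hx) _ (inv_mem hg), F.mat_mul _ hg _ hx, hgm, hmx]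
    have hcn' : mm (F.mat (F.dec f * g)) n = mm n (F.mat (F.dec f * g)) := congrArg Subtype.val hcn
    rw [hcn', ← hgm, ← hmx, ← F.mat_mul _ hx _ hg,
      ← F.mat_mul _ (mul_mem hx hg) _ (inv_mem hg), mul_inv_cancel_right]
  have e' : F.dec f * (F.dec e0 * (g * x * g⁻¹)) * (F.dec f)⁻¹ = F.dec b * x := by
    rw [← e, ← F.conj_dec hg hgn]; group
  have hvb : eV (shift n f e0) = b := by
    rcases hconj with k | k
    · rw [k, Frame.dec_shift D hx hxn, hmx] at e'
      have := F.dec_inj (emul_lt _ _) (by omega) (mul_right_cancel e')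
      rw [show eV (shift n f e0) = eV b from congrArg eV this, eV_small hb]
    · rw [k] at e'
      have e'' : F.dec f * (F.dec e0 * x) * (F.dec f)⁻¹ * z = F.dec b * x := by
        rw [← e']
        have hfz : z * (F.dec f)⁻¹ = (F.dec f)⁻¹ * z :=
          (F.z_comm (inv_mem (F.dec_mem_cen f))).symm
        simp only [mul_assoc, hfz]
      rw [Frame.dec_shift D hx hxn, hmx, mul_assoc, F.z_comm hx, ← mul_assoc] at e''
      have e3 := mul_right_cancel e''
      have e3' : F.dec (emul (shift n f e0) 4096) = F.dec b := by rw [← F.dec_mul, F.dec_z]; exact e3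
      have e4 := congrArg eV (F.dec_inj (emul_lt _ _) (by omega) e3')
      rw [eV_emul, show eV 4096 = 0 from rfl, Nat.xor_zero, eV_small hb] at e4
      exact e4
  rw [eV_shift hnL, eV_eact (F.mat_inL g hg), eV_small ha] at hvb
  rw [← hgm, ← hvb]
  have hz0 := hker (eV f) (eV_lt f)
  simp only [mv_xor] at hz0 ⊢
  rw [Nat.xor_comm (mv s.cf (eV f)), Nat.xor_assoc, hz0, Nat.xor_zero]

end Class

variable (D : VData F) (hf : Fused D)
include D hf

theorem rep_facts {q : ℕ × ℕ × ℕ} (hq : q ∈ repL) :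
    1 ≤ q.1 ∧ q.1 ≤ 3 ∧ repS q ∈ (cenOf q.1).cls ∧ q.2.2 < (repS q).reps.length := by
  have h := List.all_eq_true.1 repL_in q hq
  simp only [repIn, Bool.and_eq_true] at h
  obtain ⟨a, b, c, d⟩ := h
  refine ⟨Cert.blt_lt a, Nat.lt_succ_iff.1 (Cert.blt_lt b), ?_, Cert.blt_lt d⟩
  rw [repS, List.getD_eq_getElem _ _ (Cert.blt_lt c)]
  exact List.getElem_mem _

/-- A lift of the matrix of a representative. -/
noncomputable def repX (F : Frame z P) (q : ℕ × ℕ × ℕ) : G :=
  open Classical in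
  if h : ∃ g, g ∈ Cen z ∧ g ∈ normalizer (P : Set G) ∧ F.mat g = (cenOf q.1).clsM (repS q)
  then h.choose else 1

theorem repX_spec {q : ℕ × ℕ × ℕ} (hq : q ∈ repL) : repX F q ∈ Cen z ∧
    repX F q ∈ normalizer (P : Set G) ∧ F.mat (repX F q) = (cenOf q.1).clsM (repS q) := by
  obtain ⟨h1, h3, hs, -⟩ := rep_facts D hf hq
  have h : ∃ g, g ∈ Cen z ∧ g ∈ normalizer (P : Set G) ∧ F.mat g = (cenOf q.1).clsM (repS q) := by
    obtain ⟨g, a, b, c⟩ := F.exists_liftN ⟨_, (cls_facts h1 h3 hs).2.1⟩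
    exact ⟨g, a, b, c⟩
  rw [repX, dif_pos h]
  exact h.choose_spec

/-- The representative. -/
noncomputable def repG (F : Frame z P) (q : ℕ × ℕ × ℕ) : G := F.dec (repV q) * repX F q

theorem repG_mem {q : ℕ × ℕ × ℕ} (hq : q ∈ repL) :
    repG F q ∈ Cen z ∧ RootPart (Rad z) z (repG F q) ∧ repV q < 4096 := by
  obtain ⟨h1, h3, hs, hr⟩ := rep_facts D hf hq
  obtain ⟨x1, x2, x3⟩ := repX_spec D hf hq
  obtain ⟨-, hnL, hord, hev, -, -, hreps, -⟩ := cls_facts h1 h3 hs
  have h := hreps ((repS q).reps.getD q.2.2 (0, 0)) (by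
    rw [List.getD_eq_getElem _ _ hr]; exact List.getElem_mem _)
  simp only [repAt, Bool.and_eq_true] at h
  obtain ⟨ha, -, hhit, -⟩ := h
  have hg : repG F q ∈ Cen z := mul_mem (F.dec_mem_cen _) x1
  refine ⟨hg, ⟨(hit_iff D hf h1 h3 hs x1 x2 x3 _).2 hhit, ?_⟩, Cert.blt_lt ha⟩
  rintro ⟨j, hj, hR⟩
  set l : LGrp := ⟨_, hnL⟩
  have hl : orderOf l = (repS q).ord := orderOf_eq_of_exact hord
  have hpow : l ^ j = 1 := LGrp.ext (by
    rw [val_pow]
    show powM ((cenOf q.1).clsM (repS q)) j = idM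
    rw [← x3, ← Frame.mat_coset D x1 (repV q)]
    exact (F.mat_pow_eq hg j).symm.trans ((F.mat_eq_id _ (pow_mem hg j)).2 hR))
  have hdvd : 2 ∣ j := (Nat.dvd_of_mod_eq_zero hev).trans (hl ▸ orderOf_dvd_of_pow_eq_one hpow)
  exact (Nat.not_even_iff_odd.2 hj) (even_iff_two_dvd.2 hdvd)

theorem exists_rep {g : G} (hg : g ∈ Cen z) (hp : RootPart (Rad z) z g) :
    ∃ q ∈ repL, Rel z (repG F q) g := by
  set l : LGrp := ⟨F.mat g, F.mat_inL g hg⟩
  have hev : Even (orderOf l) := Nat.not_odd_iff_even.1 fun ho => hp.2 ⟨orderOf l, ho,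
    (F.mat_eq_id _ (pow_mem hg _)).1 (by
      rw [F.mat_pow_eq hg, ← val_pow l, pow_orderOf_eq_one]; rfl)⟩
  obtain ⟨k, hk⟩ := hev
  have hpos := orderOf_pos l
  have hne : l ^ k ≠ 1 := pow_ne_one_of_lt_orderOf (by omega) (by omega)
  have hsq : l ^ k * l ^ k = 1 := by rw [← pow_add, ← hk, pow_orderOf_eq_one]
  obtain ⟨i, hi, ei⟩ := inv_complete (l ^ k).2 (congrArg Subtype.val hsq)
    fun e => hne (LGrp.ext e)
  obtain ⟨a, r, hr, ea⟩ := invM_conj_kr hi
  have hc : 1 ≤ clsOf i ∧ clsOf i ≤ 3 := by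
    unfold clsOf
    rw [Order.blt_eq i 6303, decide_eq_true hi]
    cases Nat.blt i 1155 <;> cases Nat.blt i 5313 <;> decide
  set c := clsOf i
  obtain ⟨h1, h3⟩ := hc
  have hr' : krL h3 = r := LGrp.ext hr.symm
  have hlk : (a⁻¹ * l * a) ^ k = krL h3 := by
    have e : l ^ k = a * r * a⁻¹ := LGrp.ext (by rw [← ei, ea])
    have e2 := conj_pow (a := a⁻¹) (b := l) (i := k)
    rw [inv_inv] at e2
    rw [e2, e, hr']; group
  obtain ⟨s, hs, w, n, hn, -, hw⟩ := exists_cls h1 h3 k hlk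
  have hl : (a * w) * n * (a * w)⁻¹ = l := by
    rw [show (a * w) * n * (a * w)⁻¹ = a * (w * n * w⁻¹) * a⁻¹ by group, hw]; group
  obtain ⟨u, hu, -, hum⟩ := F.exists_liftN (a * w)⁻¹
  set g' := u * g * u⁻¹
  have hg' : g' ∈ Cen z := mul_mem (mul_mem hu hg) (inv_mem hu)
  have hmg' : F.mat g' = n.1 := by
    have e : (Frame.matL F ⟨g', hg'⟩ : LGrp) = n := by
      have e0 : (⟨g', hg'⟩ : Cen z) = ⟨u, hu⟩ * ⟨g, hg⟩ * ⟨u, hu⟩⁻¹ := Subtype.ext rfl
      rw [e0, map_mul, map_mul, map_inv, show Frame.matL F ⟨u, hu⟩ = (a * w)⁻¹ from LGrp.ext hum,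
        show Frame.matL F ⟨g, hg⟩ = l from rfl, ← hl]
      group
    exact congrArg Subtype.val e
  have hz' : z ∈ zpowers g' := by simpa [cent_conj hu] using conj_mem_zpowers u hp.1
  -- the class among the representatives
  obtain ⟨q0, hq0, rfl⟩ := List.mem_iff_getElem.1 hs
  obtain ⟨x, hx, hxn, hxm⟩ := F.exists_liftN n
  obtain ⟨b, -, hb⟩ := Frame.exists_code D hg' hx (hmg'.trans hxm.symm)
  rw [hb] at hz'
  obtain ⟨r0, hr0, hrel⟩ := cover D hf h1 h3 hs hx hxn (hxm.trans hn) hz'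
  have hall : repAll c = true := by
    have := repL_all
    simp only [Bool.and_eq_true] at this
    interval_cases c
    exacts [this.1.1, this.1.2, this.2]
  have hp2 := List.all_eq_true.1 hall q0 (List.mem_range.2 hq0)
  rw [List.getD_eq_getElem _ _ hq0] at hp2
  have hp3 := List.all_eq_true.1 hp2 r0 (List.mem_range.2 hr0)
  obtain ⟨q, hq, e⟩ := List.any_eq_true.1 hp3
  simp only [Bool.and_eq_true] at e
  obtain ⟨qc, qq, qr⟩ := q
  obtain ⟨rfl, rfl, rfl⟩ : qc = c ∧ qq = q0 ∧ qr = r0 :=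
    ⟨Nat.eq_of_beq_eq_true e.1, Nat.eq_of_beq_eq_true e.2.1, Nat.eq_of_beq_eq_true e.2.2⟩
  refine ⟨_, hq, ?_⟩
  have hS : repS (c, qq, qr) = (cenOf c).cls[qq] := List.getD_eq_getElem _ _ hq0
  obtain ⟨x1, x2, x3⟩ := repX_spec D hf hq
  have hback : Rel z (F.dec (repV (c, qq, qr)) * x) g := by
    have e : repV (c, qq, qr) = (((cenOf c).cls[qq]).reps.getD qr (0, 0)).1 := by
      rw [repV, hS]
    rw [e]
    refine hrel.trans ⟨u⁻¹, inv_mem hu, ?_⟩
    rw [← hb]
    show u⁻¹ * (u * g * u⁻¹) * u⁻¹⁻¹ = g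
    group
  refine Rel.trans ?_ hback
  rcases Frame.eq_or_zmul D x1 x2 hx hxn (by rw [x3, hxm, hn, hS]) with e | e
  · rw [repG, e]; exact ⟨1, one_mem _, by group⟩
  · obtain ⟨h1', h3', hs', hr'⟩ := rep_facts D hf hq
    obtain ⟨-, -, hrv⟩ := repG_mem D hf hq
    obtain ⟨-, -, -, -, -, -, hreps, -⟩ := cls_facts h1' h3' hs'
    have hh := hreps ((repS (c, qq, qr)).reps.getD qr (0, 0)) (by
      rw [List.getD_eq_getElem _ _ hr']; exact List.getElem_mem _)
    simp only [repAt, Bool.and_eq_true] at hh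
    refine ⟨F.dec ((repS (c, qq, qr)).reps.getD qr (0, 0)).2, F.dec_mem_cen _, ?_⟩
    rw [repG, Frame.dec_shift D x1 x2, x3, ← fshift_eq]
    rw [show fshift ((cenOf c).clsM (repS (c, qq, qr)))
        ((repS (c, qq, qr)).reps.getD qr (0, 0)).2 (repV (c, qq, qr)) = repV (c, qq, qr) + 4096 from
      Nat.eq_of_beq_eq_true hh.2.2.2, dec_flip F hrv, e, mul_assoc _ z, ← mul_assoc z,
      ← F.z_comm hx, mul_assoc x z, F.z_mul_z, mul_one]

theorem not_rel {i j : ℕ} (hj : j < 10) (hij : i < j) :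
    ¬ Rel z (repG F (repL.getD i (0, 0, 0))) (repG F (repL.getD j (0, 0, 0))) := by
  have hp := List.all_eq_true.1 (List.all_eq_true.1 pairs_ok j (List.mem_range.2 hj)) i
    (List.mem_range.2 hij)
  have hmem : ∀ k < 10, repL.getD k (0, 0, 0) ∈ repL := fun k hk => by
    rw [List.getD_eq_getElem _ _ (show k < repL.length from hk)]; exact List.getElem_mem _
  have hp' := hmem i (by omega)
  have hq := hmem j hj
  revert hp hp' hq
  generalize repL.getD i (0, 0, 0) = p
  generalize repL.getD j (0, 0, 0) = q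
  intro hpair hp hq hR
  obtain ⟨a1, a3, as, ar⟩ := rep_facts D hf hp
  obtain ⟨b1, b3, bs, br⟩ := rep_facts D hf hq
  obtain ⟨x1, x2, x3⟩ := repX_spec D hf hp
  obtain ⟨y1, y2, y3⟩ := repX_spec D hf hq
  obtain ⟨-, nL, nord, -, nhalf, -⟩ := cls_facts a1 a3 as
  obtain ⟨-, mL, mord, -, mhalf, -⟩ := cls_facts b1 b3 bs
  obtain ⟨u, hu, e⟩ := hR
  set ln : LGrp := ⟨_, nL⟩
  set lm : LGrp := ⟨_, mL⟩
  set lu : LGrp := ⟨F.mat u, F.mat_inL u hu⟩
  obtain ⟨ha, -, -⟩ := repG_mem D hf hp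
  obtain ⟨hb, -, -⟩ := repG_mem D hf hq
  have hmat : lu * ln * lu⁻¹ = lm := by
    rw [mul_inv_eq_iff_eq_mul]
    refine LGrp.ext ?_
    show mm (F.mat u) _ = mm _ (F.mat u)
    have e2 := congrArg F.mat (mul_inv_eq_iff_eq_mul.1 e)
    rwa [F.mat_mul _ hu _ ha, F.mat_mul _ hb _ hu, repG, repG, Frame.mat_coset D x1,
      Frame.mat_coset D y1, x3, y3] at e2
  have hord : (repS p).ord = (repS q).ord := by
    rw [← orderOf_eq_of_exact (l := ln) nord, ← orderOf_eq_of_exact (l := lm) mord, ← hmat]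
    exact ((MulAut.conj lu).orderOf_eq ln).symm
  have hk : lu * krL a3 * lu⁻¹ = krL b3 := by
    have e1 : ln ^ ((repS p).ord / 2) = krL a3 := LGrp.ext (by rw [val_pow]; exact nhalf)
    have e2 : lm ^ ((repS q).ord / 2) = krL b3 := LGrp.ext (by rw [val_pow]; exact mhalf)
    rw [← e1, ← e2, ← hmat, conj_pow, hord]
  have hc : p.1 = q.1 := by
    have hix : ∀ c, 1 ≤ c → c ≤ 3 → rootIx c < 6303 ∧ invM (rootIx c) = kr c ∧
        invRoot (rootIx c) = rootIx c ∧ clsOf (rootIx c) = c := by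
      obtain ⟨e1, e2, e3, -⟩ := rootIx_ok
      intro c c1 c3
      interval_cases c
      exacts [⟨by decide, e1, rfl, rfl⟩, ⟨by decide, e2, rfl, rfl⟩, ⟨by decide, e3, rfl, rfl⟩]
    obtain ⟨i1, i2, i3, i4⟩ := hix _ a1 a3
    obtain ⟨j1, j2, j3, j4⟩ := hix _ b1 b3
    have hr := invRoot_eq_of_conj i1 j1 (x := lu) (by
      rw [show invL i1 = krL a3 from LGrp.ext i2, hk, j2]; rfl)
    rw [i3, j3] at hr
    rw [← i4, ← j4, hr]
  obtain ⟨pc, pq, pr⟩ := p
  obtain ⟨qc, qq, qr⟩ := q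
  obtain rfl : pc = qc := hc
  simp only [pairAt, Nat.beq_refl, hord, Bool.not_true, Bool.false_or] at hpair
  cases hbq : Nat.beq pq qq with
  | false =>
    rw [hbq, cond_false] at hpair
    obtain ⟨⟨k, hk'⟩, hku⟩ := exists_el a1 a3 (l := lu) (by
      rw [← mul_inv_eq_iff_eq_mul]; exact hk)
    have h := List.all_eq_true.1 hpair k (List.mem_range.2 hk')
    simp only [Bool.not_eq_true', fpr_eq] at h
    rw [show unpk ((cenOf pc).el.get k) = F.mat u from congrArg Subtype.val hku] at h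
    have e2 : lu * ln = lm * lu := mul_inv_eq_iff_eq_mul.1 hmat
    exact Nat.ne_of_beq_eq_false h (congrArg pk (congrArg (fun t : LGrp => t.1) e2))
  | true =>
    rw [hbq, cond_true] at hpair
    obtain rfl := Nat.eq_of_beq_eq_true hbq
    have hS : repS (pc, pq, qr) = repS (pc, pq, pr) := rfl
    have hsame : repX F (pc, pq, qr) = repX F (pc, pq, pr) := rfl
    refine not_rel_of_sep D hf a1 a3 as x1 x2 x3 (repG_mem D hf hp).2.2 (repG_mem D hf hq).2.2
      hpair ⟨u, hu, ?_⟩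
    rw [← hsame]
    exact e

/-- **Ten classes** with the central involution as a power and image of even order. -/
theorem root_z : classesIn (Cen z) (RootPart (Rad z) z) = 10 := by
  classical
  let rep : Fin 10 → {c : ConjClasses ↥(Cen z) //
      ∃ h : ↥(Cen z), ConjClasses.mk h = c ∧ RootPart (Rad z) z h} := fun i =>
    have hq : repL.getD i (0, 0, 0) ∈ repL := by
      rw [List.getD_eq_getElem _ _ (show (i : ℕ) < repL.length from i.2)]; exact List.getElem_mem _
    ⟨ConjClasses.mk ⟨repG F (repL.getD i (0, 0, 0)), (repG_mem D hf hq).1⟩, _, rfl,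
      (repG_mem D hf hq).2.1⟩
  have hb : Function.Bijective rep := by
    constructor
    · intro i j e
      obtain ⟨w, hw⟩ := isConj_iff.1 (ConjClasses.mk_eq_mk_iff_isConj.1 (congrArg Subtype.val e))
      have hR : Rel z (repG F (repL.getD i (0, 0, 0))) (repG F (repL.getD j (0, 0, 0))) :=
        ⟨w, w.2, congrArg Subtype.val hw⟩
      by_contra hne
      rcases lt_or_gt_of_ne (fun h => hne (Fin.ext h) : (i : ℕ) ≠ j) with h | h
      · exact not_rel D hf j.2 h hR
      · exact not_rel D hf i.2 h hR.symm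
    · rintro ⟨_, ⟨g, hg⟩, rfl, hp⟩
      obtain ⟨q, hq, w, hw, e⟩ := exists_rep D hf hg hp
      obtain ⟨i, hi, rfl⟩ := List.mem_iff_getElem.1 hq
      refine ⟨⟨i, hi⟩, Subtype.ext (ConjClasses.mk_eq_mk_iff_isConj.2
        (isConj_iff.2 ⟨⟨w, hw⟩, Subtype.ext ?_⟩))⟩
      show w * repG F (repL.getD i (0, 0, 0)) * w⁻¹ = g
      rwa [List.getD_eq_getElem _ _ hi]
  rw [classesIn, ← Nat.card_eq_of_bijective rep hb, Nat.card_fin]

end CfsgLib.J4Type.Classes.RootZ
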