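import Cfsg.Agent.Lib.J4Type.Classes.RootZCheck1
import Cfsg.Agent.Lib.J4Type.Classes.RootZCheck2
import Cfsg.Agent.Lib.J4Type.Classes.RootZCheck3
import Cfsg.Agent.Lib.J4Type.Order.HRel

/-!
The centralisers of the three roots in the quotient by the radical are the tabulated lists, and
every element with a root as a power is conjugate there to a tabulated representative.
-/

set_option autoImplicit false
set_option maxRecDepth 100000

namespace CfsgLib.J4Type.Classes.RootZ

open Cfsg CfsgLib.J4Type CfsgLib.J4Type.Order CfsgLib.J4Type.NV CfsgLib.J4Type.Cert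

/-- The tables of the three roots. -/
def cenOf (c : ℕ) : CenData := bif Nat.beq c 2 then cen2 else bif Nat.beq c 3 then cen3 else cen1

theorem cenOf_ok : ∀ c, 1 ≤ c → c ≤ 3 → (cenOf c).c = c ∧ rootK c = kr c ∧
    ((cenOf c).gens.all (genAt c) = true ∧ (List.range (cenOf c).size).all (elAt (cenOf c)) = true ∧
      (List.range (cenOf c).size).all (tagAt (cenOf c)) = true ∧
      (cenOf c).cls.all (clsAt (cenOf c)) = true) := by
  intro c h1 h3
  interval_cases c
  · exact ⟨rfl, rfl, gens_ok1, el_ok1, tag_ok1, cls_ok1⟩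
  · exact ⟨rfl, rfl, gens_ok2, el_ok2, tag_ok2, cls_ok2⟩
  · exact ⟨rfl, rfl, gens_ok3, el_ok3, tag_ok3, cls_ok3⟩

theorem unpkAux_pk : ∀ (m : List ℕ), (∀ x ∈ m, x < 4096) → unpkAux m.length (pk m) = m
  | [], _ => rfl
  | a :: m, h => by
    have ha : a < 4096 := h a List.mem_cons_self
    have ih := unpkAux_pk m fun x hx => h x (List.mem_cons_of_mem _ hx)
    show (a + 4096 * pk m) % 4096 :: unpkAux m.length ((a + 4096 * pk m) / 4096) = a :: m
    rw [show (a + 4096 * pk m) % 4096 = a by omega,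
      show (a + 4096 * pk m) / 4096 = pk m by omega, ih]

theorem unpk_pk {m : List ℕ} (h : InL m) : unpk (pk m) = m := by
  have := unpkAux_pk m h.lt
  rwa [h.len] at this

theorem bit_mul (a : ℕ) (l : List ℕ) (v : ℕ) : mv (a :: l) v = v % 2 * a ^^^ mv l (v / 2) := by
  rcases Nat.mod_two_eq_zero_or_one v with h | h <;> simp [mv, h, nat_beq_eq]

theorem mv_nil (v : ℕ) : mv [] v = 0 := rfl

theorem fterm_eq (a v i : ℕ) : fterm a v i = v / 2 ^ i % 2 * (a / 4096 ^ i % 4096) := by
  show ((v >>> i) &&& 1) * ((a >>> (12 * i)) &&& 4095) = _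
  rw [Nat.and_one_is_mod, Nat.shiftRight_eq_div_pow, Nat.shiftRight_eq_div_pow,
    show (4095 : ℕ) = 2 ^ 12 - 1 from rfl, Nat.and_two_pow_sub_one_eq_mod, pow_mul]
  norm_num

theorem unpk_eq (a : ℕ) : unpk a = (List.range 12).map fun i => a / 4096 ^ i % 4096 := by
  simp [unpk, unpkAux, List.range_succ, Nat.div_div_eq_div_mul]

theorem fmvT_eq (a v : ℕ) : fmvT a v = mv (unpk a) v := by
  simp only [unpk_eq, List.range_succ, List.range_zero, List.map_append, List.map_cons, List.map_nil,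
    List.nil_append, List.cons_append, bit_mul, mv_nil, Nat.xor_zero, Nat.div_div_eq_div_mul]
  simp [fmvT, fterm_eq, Nat.xor_assoc]

theorem fcol_eq (a b j : ℕ) :
    fcol a b j = mv (unpk a) (b / 4096 ^ j % 4096) * 4096 ^ j := by
  show fmvT a ((b >>> (12 * j)) &&& 4095) <<< (12 * j) = _
  rw [fmvT_eq, Nat.shiftLeft_eq, Nat.shiftRight_eq_div_pow,
    show (4095 : ℕ) = 2 ^ 12 - 1 from rfl, Nat.and_two_pow_sub_one_eq_mod, pow_mul]
  norm_num

theorem fpr_eq (a b : ℕ) : fpr a b = pk (mm (unpk a) (unpk b)) := by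
  rw [mm, unpk_eq b]
  simp only [List.range_succ, List.range_zero, List.map_append, List.map_cons, List.map_nil,
    List.nil_append, List.cons_append, pk, List.foldr_cons, List.foldr_nil, fpr, fcol_eq]
  simp only [Nat.add_eq]
  ring

theorem pk_inj {m m' : List ℕ} (h : InL m) (h' : InL m') (e : pk m = pk m') : m = m' := by
  rw [← unpk_pk h, e, unpk_pk h']

theorem idP_unpk : unpk idP = idM := unpk_pk InL.one

/-- A root in the group of matrices. -/
theorem kr_inL {c : ℕ} (h3 : c ≤ 3) : InL (kr c) := by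
  obtain ⟨e1, e2, e3, -⟩ := rootIx_ok
  interval_cases c
  · exact InL.one
  · exact e1 ▸ invM_inL (by norm_num)
  · exact e2 ▸ invM_inL (by norm_num)
  · exact e3 ▸ invM_inL (by norm_num)

variable {c : ℕ} (h1 : 1 ≤ c) (h3 : c ≤ 3)
include h1 h3

theorem gen_facts {j : ℕ} (hj : j < (cenOf c).gens.length) :
    InL (unpk ((cenOf c).gens.getD j (0, [])).1) ∧
      mm (unpk ((cenOf c).gens.getD j (0, [])).1) (kr c) =
        mm (kr c) (unpk ((cenOf c).gens.getD j (0, [])).1) := by
  obtain ⟨-, hk, hg, -⟩ := cenOf_ok c h1 h3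
  rw [List.getD_eq_getElem _ _ hj]
  have h := List.all_eq_true.1 hg _ (List.getElem_mem hj)
  simp only [genAt, Bool.and_eq_true, List.all_eq_true] at h
  obtain ⟨hb, hw', hcom⟩ := h
  have hw : InL (wordM ((cenOf c).gens[j]).2) := inL_wordM fun x hx => Cert.blt_lt (hb x hx)
  have e := Nat.eq_of_beq_eq_true hw'
  have hcom' := Nat.eq_of_beq_eq_true hcom
  rw [← e, hk, fpr_eq, fpr_eq, unpk_pk hw, unpk_pk (kr_inL h3)] at hcom'
  rw [← e, unpk_pk hw]
  exact ⟨hw, pk_inj (hw.comp (kr_inL h3)) ((kr_inL h3).comp hw) hcom'⟩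

theorem el_facts {i : ℕ} (hi : i < (cenOf c).size) :
    (cenOf c).pos.find ((cenOf c).el.get i) = i ∧ InL ((cenOf c).mat i) ∧
      pk ((cenOf c).mat i) = (cenOf c).el.get i ∧
      mm ((cenOf c).mat i) (kr c) = mm (kr c) ((cenOf c).mat i) := by
  obtain ⟨-, -, -, he, -⟩ := cenOf_ok c h1 h3
  induction i using Nat.strong_induction_on with
  | _ i ih =>
    have h := List.all_eq_true.1 he i (List.mem_range.2 hi)
    simp only [elAt, Bool.and_eq_true] at h
    obtain ⟨hp, hstep⟩ := h
    refine ⟨Nat.eq_of_beq_eq_true hp, ?_⟩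
    cases hb : Nat.beq i 0 with
    | true =>
      rw [hb, cond_true] at hstep
      rw [CenData.mat, Nat.eq_of_beq_eq_true hstep, idP_unpk, (kr_inL h3).idM_mm,
        (kr_inL h3).mm_idM]
      exact ⟨InL.one, rfl, rfl⟩
    | false =>
      rw [hb, cond_false] at hstep
      simp only [Bool.and_eq_true] at hstep
      obtain ⟨hlt, hg, hm⟩ := hstep
      obtain ⟨g1, g2⟩ := gen_facts h1 h3 (Cert.blt_lt hg)
      obtain ⟨-, p1, -, p2⟩ := ih _ (Cert.blt_lt hlt) ((Cert.blt_lt hlt).trans hi)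
      have e := Nat.eq_of_beq_eq_true hm
      rw [fpr_eq] at e
      rw [CenData.mat] at p1 p2
      rw [CenData.mat, ← e, unpk_pk (g1.comp p1)]
      exact ⟨g1.comp p1, rfl, by rw [mm_assoc, p2, ← mm_assoc, g2, mm_assoc]⟩

/-- A tabulated element. -/
noncomputable def elL (i : Fin (cenOf c).size) : LGrp :=
  ⟨(cenOf c).mat i, (el_facts h1 h3 i.2).2.1⟩

omit h1 h3 in
/-- A root as an element of the group of matrices. -/
noncomputable def krL {c : ℕ} (h3 : c ≤ 3) : LGrp := ⟨kr c, kr_inL h3⟩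

/-- The class of a root is as large as tabulated. -/
theorem root_class : ∃ b n, b + n ≤ 6303 ∧ n * (cenOf c).size = 2661120 ∧
    ∀ i < n, ∃ t : LGrp, invM (b + i) = (t * krL h3 * t⁻¹).1 := by
  obtain ⟨e1, e2, e3, -⟩ := rootIx_ok
  have key : ∀ b n, b + n ≤ 6303 → kr c = invM b →
      (∀ i < n, (if b + i < 1155 then 0 else if b + i < 5313 then 1155 else 5313) = b) →
      ∀ i < n, ∃ t : LGrp, invM (b + i) = (t * krL h3 * t⁻¹).1 := by
    intro b n hbn hb hcl i hi
    obtain ⟨l, r, hr, e⟩ := invM_conj (show b + i < 6303 by omega)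
    rw [hcl i hi, ← hb] at hr
    exact ⟨l, by rw [show krL h3 = r from LGrp.ext hr.symm]; exact e⟩
  interval_cases c
  · exact ⟨0, 1155, by norm_num, rfl, key 0 1155 (by norm_num) e1.symm fun i hi => by
      simp [hi]⟩
  · exact ⟨1155, 4158, by norm_num, rfl, key 1155 4158 (by norm_num) e2.symm fun i hi => by
      simp [show ¬ 1155 + i < 1155 by omega, show 1155 + i < 5313 by omega]⟩
  · exact ⟨5313, 990, by norm_num, rfl, key 5313 990 (by norm_num) e3.symm fun i hi => by
      simp [show ¬ 5313 + i < 1155 by omega, show ¬ 5313 + i < 5313 by omega]⟩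

/-- Every matrix commuting with the root is tabulated. -/
theorem exists_el {l : LGrp} (hl : l * krL h3 = krL h3 * l) : ∃ i, elL h1 h3 i = l := by
  classical
  set C := Subgroup.centralizer ({krL h3} : Set LGrp)
  have hmem : ∀ i, elL h1 h3 i ∈ C := fun i =>
    Subgroup.mem_centralizer_singleton_iff.2 (LGrp.ext (el_facts h1 h3 i.2).2.2.2)
  let f : Fin (cenOf c).size → C := fun i => ⟨elL h1 h3 i, hmem i⟩
  have hf : Function.Injective f := fun i j e => by
    have e' : (cenOf c).mat i = (cenOf c).mat j :=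
      congrArg Subtype.val (congrArg Subtype.val e : elL h1 h3 i = elL h1 h3 j)
    refine Fin.ext ?_
    rw [← (el_facts h1 h3 i.2).1, ← (el_facts h1 h3 j.2).1, ← (el_facts h1 h3 i.2).2.2.1,
      ← (el_facts h1 h3 j.2).2.2.1, e']
  obtain ⟨b, n, hbn, hsz, hroot⟩ := root_class h1 h3
  choose t ht using fun i : Fin n => hroot i i.2
  have hle : n * Nat.card C ≤ 2661120 := by
    have hinj : Function.Injective fun p : Fin n × C => t p.1 * (p.2 : LGrp) := by
      rintro ⟨i, x⟩ ⟨j, y⟩ e
      have e0 : t i * (x : LGrp) = t j * y := e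
      have hx := Subgroup.mem_centralizer_singleton_iff.1 x.2
      have hy := Subgroup.mem_centralizer_singleton_iff.1 y.2
      have e1 : invM (b + i) = invM (b + j) := by
        rw [ht i, ht j]
        refine congrArg Subtype.val ?_
        calc t i * krL h3 * (t i)⁻¹ = t i * ((x : LGrp) * krL h3 * (x : LGrp)⁻¹) * (t i)⁻¹ := by
              rw [hx, mul_inv_cancel_right]
          _ = (t i * x) * krL h3 * (t i * x)⁻¹ := by group
          _ = (t j * y) * krL h3 * (t j * y)⁻¹ := by rw [e0]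
          _ = t j * ((y : LGrp) * krL h3 * (y : LGrp)⁻¹) * (t j)⁻¹ := by group
          _ = t j * krL h3 * (t j)⁻¹ := by rw [hy, mul_inv_cancel_right]
      have hij : i = j := Fin.ext (by
        have := invM_inj (by omega) (by omega) e1
        omega)
      subst hij
      exact Prod.ext rfl (Subtype.ext (mul_left_cancel e0))
    have := Nat.card_le_card_of_injective _ hinj
    rwa [Nat.card_prod, Nat.card_fin, card_LGrp] at this
  have hC : Nat.card C ≤ (cenOf c).size := by
    rw [← hsz] at hle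
    exact Nat.le_of_mul_le_mul_left hle (Nat.pos_of_ne_zero fun e => by simp [e] at hsz)
  have hbij : Function.Bijective f :=
    hf.bijective_of_nat_card_le (by rwa [Nat.card_fin])
  obtain ⟨i, hi⟩ := hbij.2 ⟨l, Subgroup.mem_centralizer_singleton_iff.2 hl⟩
  exact ⟨i, congrArg Subtype.val hi⟩

omit h1 h3 in
theorem avoids_pow {l : LGrp} {k : List ℕ} : ∀ (fuel e : ℕ),
    avoids (pk l.1) (pk k) fuel (pk (l ^ e).1) = true →
      ∃ N, e ≤ N ∧ l ^ N = 1 ∧ ∀ j, e ≤ j → j ≤ N → (l ^ j).1 ≠ k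
  | 0, _, h => by simp [avoids] at h
  | fuel + 1, e, h => by
    simp only [avoids, Bool.and_eq_true, Bool.or_eq_true, Bool.not_eq_true'] at h
    obtain ⟨hk, h⟩ := h
    have hk' : (l ^ e).1 ≠ k := fun he => by
      rw [he, Nat.beq_refl] at hk; exact Bool.noConfusion hk
    rcases h with h | h
    · have h' : pk (l ^ e).1 = idP := Nat.eq_of_beq_eq_true h
      exact ⟨e, le_rfl, LGrp.ext (pk_inj (l ^ e).2 InL.one h'), fun j a b => by
        rw [le_antisymm b a]; exact hk'⟩
    · rw [fpr_eq, unpk_pk l.2, unpk_pk (l ^ e).2, ← LGrp.val_mul, ← pow_succ'] at h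
      obtain ⟨N, hN, h1, hall⟩ := avoids_pow fuel (e + 1) h
      exact ⟨N, by omega, h1, fun j a b => by
        rcases a.eq_or_lt with rfl | a
        exacts [hk', hall j a b]⟩

/-- An element with the root as a power is conjugate in the centraliser to a representative. -/
theorem exists_cls {l : LGrp} (j : ℕ) (hj : l ^ j = krL h3) :
    ∃ s ∈ (cenOf c).cls, ∃ w n : LGrp, n.1 = (cenOf c).clsM s ∧
      mm w.1 (kr c) = mm (kr c) w.1 ∧ w * n * w⁻¹ = l := by
  obtain ⟨hc, hk, -, -, htag, hcls⟩ := cenOf_ok c h1 h3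
  obtain ⟨⟨i, hi⟩, rfl⟩ := exists_el h1 h3 (l := l) (by
    rw [← hj, ← pow_succ', ← pow_succ])
  have h := List.all_eq_true.1 htag i (List.mem_range.2 hi)
  simp only [tagAt] at h
  cases hb : Nat.beq ((cenOf c).tag.get i) 0 with
  | true =>
    rw [hb, cond_true, hc, hk] at h
    exfalso
    set l := elL h1 h3 ⟨i, hi⟩
    obtain ⟨N, hN, hN1, hall⟩ := avoids_pow (l := l) (k := kr c) 40 1 (by
      rw [pow_one, show pk l.1 = (cenOf c).el.get i from (el_facts h1 h3 hi).2.2.1]; exact h)
    have e : l ^ j = l ^ (j % N) := pow_eq_pow_mod j hN1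
    rcases Nat.eq_zero_or_pos (j % N) with h0 | h0
    · rw [h0, pow_zero, ← hN1] at e
      exact hall N hN le_rfl (congrArg Subtype.val (e.symm.trans hj))
    · exact hall (j % N) h0 (Nat.mod_lt _ (by omega)).le (congrArg Subtype.val (e.symm.trans hj))
  | false =>
    rw [hb, cond_false] at h
    simp only [Bool.and_eq_true] at h
    obtain ⟨hq, hw, hm⟩ := h
    rw [List.getElem?_eq_getElem (Cert.blt_lt hq)] at hm
    set s := (cenOf c).cls[(cenOf c).tag.get i % 32 - 1]'(Cert.blt_lt hq) with hs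
    have hsm : s ∈ (cenOf c).cls := List.getElem_mem _
    have hidx : s.idx < (cenOf c).size := by
      have := List.all_eq_true.1 hcls s hsm
      simp only [clsAt, Bool.and_eq_true] at this
      exact Cert.blt_lt this.1
    refine ⟨s, hsm, elL h1 h3 ⟨_, Cert.blt_lt hw⟩, elL h1 h3 ⟨_, hidx⟩, rfl,
      (el_facts h1 h3 (Cert.blt_lt hw)).2.2.2, ?_⟩
    rw [mul_inv_eq_iff_eq_mul]
    refine LGrp.ext ?_
    have e := Nat.eq_of_beq_eq_true hm
    rw [fpr_eq, fpr_eq] at e
    exact pk_inj ((el_facts h1 h3 (Cert.blt_lt hw)).2.1.comp (el_facts h1 h3 hidx).2.1)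
      ((el_facts h1 h3 hi).2.1.comp (el_facts h1 h3 (Cert.blt_lt hw)).2.1) e

end CfsgLib.J4Type.Classes.RootZ
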