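import Cfsg.Agent.Lib.J4Type.Classes.RootZData1

/-! The checks of the tables at the root 1. -/

set_option autoImplicit false
set_option maxRecDepth 100000
set_option Elab.async false

namespace CfsgLib.J4Type.Classes.RootZ

theorem gens_ok1 : cen1.gens.all (genAt 1) = true := by decide +kernel

theorem el_ok1 : (List.range cen1.size).all (elAt cen1) = true := by decide +kernel

theorem tag_ok1 : (List.range cen1.size).all (tagAt cen1) = true := by decide +kernel

theorem cls_ok1 : cen1.cls.all (clsAt cen1) = true := by decide +kernel

end CfsgLib.J4Type.Classes.RootZ
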