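import Cfsg.Agent.Lib.J4Type.Order.Code
import Cfsg.Agent.Lib.J4Type.Order.Fast

/-!
Certificates for the classes of elements whose image modulo the radical has a given root as its
involution power.
-/

set_option autoImplicit false
set_option maxRecDepth 100000

namespace CfsgLib.J4Type.Classes.RootZ

open CfsgLib.J4Type CfsgLib.J4Type.Order
open CfsgLib.Fusion.TableSylow (Tree Dict)

/-- One term of the image of a vector under a packed matrix. -/
def fterm (a v i : ℕ) : ℕ :=
  Nat.mul (Nat.land (Nat.shiftRight v i) 1) (Nat.land (Nat.shiftRight a (Nat.mul 12 i)) 4095)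
/-- The image of a vector under a packed matrix. -/
def fmvT (a v : ℕ) : ℕ :=
  Nat.xor (fterm a v 0) (Nat.xor (fterm a v 1) (Nat.xor (fterm a v 2) (Nat.xor (fterm a v 3)
  (Nat.xor (fterm a v 4) (Nat.xor (fterm a v 5) (Nat.xor (fterm a v 6) (Nat.xor (fterm a v 7)
  (Nat.xor (fterm a v 8) (Nat.xor (fterm a v 9) (Nat.xor (fterm a v 10) (fterm a v 11)))))))))))
/-- One column of a product of packed matrices. -/
def fcol (a b j : ℕ) : ℕ :=
  Nat.shiftLeft (fmvT a (Nat.land (Nat.shiftRight b (Nat.mul 12 j)) 4095)) (Nat.mul 12 j)
/-- The product of two packed matrices. -/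
def fpr (a b : ℕ) : ℕ :=
  Nat.add (fcol a b 0) (Nat.add (fcol a b 1) (Nat.add (fcol a b 2) (Nat.add (fcol a b 3)
  (Nat.add (fcol a b 4) (Nat.add (fcol a b 5) (Nat.add (fcol a b 6) (Nat.add (fcol a b 7)
  (Nat.add (fcol a b 8) (Nat.add (fcol a b 9) (Nat.add (fcol a b 10) (fcol a b 11)))))))))))

/-- The packed identity. -/
def idP : ℕ := pk idM

/-- The data of one class of the centraliser of a root: the position of a representative, its
order, a projection of the vectors along its commutators, the codes of the representatives over
it, and for each remaining vector the transporter from a representative. -/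
structure Cls where
  idx : ℕ
  ord : ℕ
  tr : List ℕ
  cf : List ℕ
  base : List ℕ
  reps : List (ℕ × ℕ)
  wit : List ℕ

/-- The data of the centraliser of a root. -/
structure CenData where
  c : ℕ
  size : ℕ
  gens : List (ℕ × List ℕ)
  el : Tree
  par : Tree
  tag : Tree
  pos : Dict
  cls : List Cls

/-- The element at a position. -/
def CenData.mat (C : CenData) (i : ℕ) : List ℕ := unpk (C.el.get i)

/-- The root of the centraliser. -/
def rootK (c : ℕ) : List ℕ :=
  [idM, root1, mm root1 sig, sig].getD c idM

/-- The check of a generator: its word, commuting with the root. -/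
def genAt (c : ℕ) (q : ℕ × List ℕ) : Bool :=
  (q.2.all fun x => Nat.blt x 6) && (Nat.beq (pk (wordM q.2)) q.1 &&
    Nat.beq (fpr q.1 (pk (rootK c))) (fpr (pk (rootK c)) q.1))

/-- The check of a position: a product of a generator and an earlier element, found at this
position. -/
def elAt (C : CenData) (i : ℕ) : Bool :=
  let e := C.el.get i
  let p := C.par.get i
  Nat.beq (C.pos.find e) i &&
    bif Nat.beq i 0 then Nat.beq e idP else
      Nat.blt (p / 16) i && (Nat.blt (p % 16) C.gens.length &&
        Nat.beq (fpr (C.gens.getD (p % 16) (0, [])).1 (C.el.get (p / 16))) e)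

/-- No power of `n` up to the identity is `k`. -/
def avoids (n k : ℕ) : ℕ → ℕ → Bool
  | 0, _ => false
  | j + 1, x => !(Nat.beq x k) && (Nat.beq x idP || avoids n k j (fpr n x))

/-- The check of the class of a position. -/
def tagAt (C : CenData) (i : ℕ) : Bool :=
  let t := C.tag.get i
  let e := C.el.get i
  bif Nat.beq t 0 then avoids e (pk (rootK C.c)) 40 e
  else
    let q := t % 32 - 1
    let w := t / 32
    Nat.blt q C.cls.length && (Nat.blt w C.size &&
      match C.cls[q]? with
      | some s => Nat.beq (fpr (C.el.get w) (C.el.get s.idx)) (fpr e (C.el.get w))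
      | none => false)

/-- The matrix of a class. -/
def CenData.clsM (C : CenData) (s : Cls) : List ℕ := C.mat s.idx

/-- The projection along the commutators. -/
def projOK (n : List ℕ) (s : Cls) : Bool :=
  Nat.beq s.tr.length 12 && ((s.tr.all fun x => Nat.blt x 4096) &&
    ((s.cf.all fun x => Nat.blt x (2 ^ s.base.length)) &&
      ((s.base.all fun x => Nat.blt x 4096) &&
        ((List.range 12).all fun j =>
          Nat.beq (2 ^ j ^^^ (mv s.tr (2 ^ j) ^^^ mv n (mv s.tr (2 ^ j)))) (mv s.base (mv s.cf (2 ^ j))) &&
            Nat.beq (mv s.cf (2 ^ j ^^^ mv n (2 ^ j))) 0))))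

/-- The radical part of the full power. -/
def powE (n : List ℕ) (m a : ℕ) : ℕ := fepow n (linB n) a m

/-- A faster shift. -/
def fshift (k : List ℕ) (f a : ℕ) : ℕ := femul (femul f a) (feact k (linB k) (einv f))

/-- The check of a representative over a class: a hit, fused with its translate. -/
def repAt (n : List ℕ) (m : ℕ) (r : ℕ × ℕ) : Bool :=
  Nat.blt r.1 4096 && (Nat.blt r.2 4096 && (hitZ (powE n m r.1) &&
    Nat.beq (fshift n r.2 r.1) (r.1 + 4096)))

/-- The check of a remaining vector. -/
def witAt (C : CenData) (s : Cls) (n : List ℕ) (j : ℕ) : Bool :=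
  let v := mv s.base j
  let t := s.wit.getD j 0
  bif Nat.beq t 0 then !(hitZ (powE n s.ord v)) && !(hitZ (powE n s.ord (v + 4096)))
  else
    let r := (t - 1) % 8
    let f := (t - 1) / 8 % 4096
    let gi := (t - 1) / 8 / 4096
    let g := C.mat gi
    Nat.blt r s.reps.length && (Nat.blt gi C.size && (mm g n == mm n g &&
      Nat.beq (eV (fshift n f (feact g (linB g) (s.reps.getD r (0, 0)).1))) v))

/-- The check of a class. -/
def clsAt (C : CenData) (s : Cls) : Bool :=
  let n := C.clsM s
  Nat.blt s.idx C.size && (exactOrd n s.ord && (Nat.beq (s.ord % 2) 0 &&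
    (powM n (s.ord / 2) == rootK C.c && (projOK n s &&
      ((s.reps.all fun r => repAt n s.ord r) &&
        (List.range (2 ^ s.base.length)).all fun j => witAt C s n j)))))

/-- Two representatives over one class are not fused: their projections differ under the
centraliser. -/
def sepAt (C : CenData) (s : Cls) (a b : ℕ) : Bool :=
  let n := C.el.get s.idx
  let v := mv s.cf b
  (List.range C.size).all fun i =>
    let e := C.el.get i
    !(Nat.beq (fpr e n) (fpr n e)) || !(Nat.beq (mv s.cf (fmvT e a)) v)

/-- Two classes are not conjugate in the centraliser. -/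
def disjAt (C : CenData) (s s' : Cls) : Bool :=
  let n := C.el.get s.idx
  let n' := C.el.get s'.idx
  (List.range C.size).all fun i =>
    let e := C.el.get i
    !(Nat.beq (fpr e n) (fpr n' e))

end CfsgLib.J4Type.Classes.RootZ
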