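import Cfsg.Agent.Lib.J4Type.Classes.RootZCent

/-!
The ten representatives of the classes over a root, and the tests separating them.
-/

set_option autoImplicit false
set_option maxRecDepth 100000
set_option Elab.async false

namespace CfsgLib.J4Type.Classes.RootZ

/-- The representatives: a root, a class of its centraliser, a code over the class. -/
def repL : List (ℕ × ℕ × ℕ) :=
  [(1, 0, 0), (1, 3, 0), (1, 3, 1), (1, 4, 0), (1, 7, 0), (1, 10, 0), (1, 11, 0), (2, 0, 0), (2, 0, 1),
    (2, 1, 0)]

/-- The class of a representative. -/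
def repS (q : ℕ × ℕ × ℕ) : Cls :=
  (cenOf q.1).cls.getD q.2.1 ⟨0, 0, [], [], [], [], []⟩

/-- The code of a representative. -/
def repV (q : ℕ × ℕ × ℕ) : ℕ := ((repS q).reps.getD q.2.2 (0, 0)).1

/-- A representative is one of the tables. -/
def repIn (q : ℕ × ℕ × ℕ) : Bool :=
  Nat.blt 0 q.1 && (Nat.blt q.1 4 && (Nat.blt q.2.1 (cenOf q.1).cls.length &&
    Nat.blt q.2.2 (repS q).reps.length))

theorem repL_in : repL.all repIn = true := by decide +kernel

/-- Every tabulated code is a representative. -/
def repAll (c : ℕ) : Bool :=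
  (List.range (cenOf c).cls.length).all fun q =>
    (List.range (((cenOf c).cls.getD q ⟨0, 0, [], [], [], [], []⟩).reps.length)).all fun r =>
      repL.any fun p => Nat.beq p.1 c && (Nat.beq p.2.1 q && Nat.beq p.2.2 r)

theorem repL_all : (repAll 1 && repAll 2 && repAll 3) = true := by decide +kernel

/-- The test separating two representatives. -/
def pairAt (a b : ℕ × ℕ × ℕ) : Bool :=
  !(Nat.beq a.1 b.1) || (!(Nat.beq (repS a).ord (repS b).ord) ||
    (bif Nat.beq a.2.1 b.2.1 then sepAt (cenOf a.1) (repS a) (repV a) (repV b)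
    else disjAt (cenOf a.1) (repS a) (repS b)))

theorem pairs_ok : (List.range 10).all (fun j => (List.range j).all fun i =>
    pairAt (repL.getD i (0, 0, 0)) (repL.getD j (0, 0, 0))) = true := by decide +kernel

end CfsgLib.J4Type.Classes.RootZ
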